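import Mathlib.GroupTheory.Sylow
import Mathlib.GroupTheory.Commutator.Basic
import Mathlib.Tactic.Group
import Mathlib.Tactic.LinearCombination
import Mathlib.RingTheory.RootsOfUnity.PrimitiveRoots
import Mathlib.RingTheory.Nilpotent.Lemmas
import Mathlib.RingTheory.Ideal.Quotient.Operations
import Mathlib.Algebra.Algebra.Subalgebra.Lattice
import Mathlib.Algebra.Field.ZMod
import Mathlib.Tactic.NoncommRing
import Mathlib.Data.Nat.Choose.Dvd
import Cfsg.Agent.BHZ.Nil.Block0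
import Cfsg.Agent.H95.StemCover
import Cfsg.Prelude.Def_BrauerPairs
import Cfsg.Prelude.Def_Classification2
import Cfsg.Prelude.Def_LieTypeChar
import Cfsg.Prelude.Def_BlockRank
import Cfsg.Prelude.Def_BlockLocal
import Cfsg.Prelude.Def_KGroupFacts
import Mathlib
import Cfsg.Agent.Characters.GaloisBasic
import Cfsg.Agent.Characters.Core
import Cfsg.Prelude.Def_Classical
import Cfsg.Agent.FastGrp
import Cfsg.Agent.Prune
set_option linter.all false

section
prune_inst 0x7ffca8f8aba809dedf7f7e37a6dccdfc30800fffe4dff9433fe0219f0b9f030209c5638d09e000fe1ed6c01410a87843f9ffce7fe86bdc7ffffd5ff41ffbee0fa5e73508519488340fbc0ff603f0778e7f3fffffffffffffffffffffffffffbeffbdffffffff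

-- part: BHZ/Nil/Cut3
section
prune_inst 0x157021454b621000001c8582110018d3db0001800000080010040c44018e1e400902000144800810000a004400300020000800200000000000000400011d0581088010040000a000000086000084000000000000000000000000000000041004200000000
set_option linter.all false
open scoped Cfsg.Agent.FastGrp

-- part: BHZ/Nil/Heis
section
/-!
# An extraspecial group of order `p ^ 3` with two transvections

`Heis p a b z u v`: `a, b` of exponent `p`, `a b = z b a` with `z ≠ 1` central, `u` and `v` induce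
the two transvections.  Then the second derived group of `⟨a, b, u, v⟩` contains a `p`-regular
element normalizing but not centralizing `⟨a, b⟩`.
-/

set_option autoImplicit false

namespace Cfsg.Agent.BHZ.Nil

open scoped commutatorElement

/-- The relations. -/
structure Heis (p : ℕ) {H : Type*} [Group H] (a b z u v : H) : Prop where
  ha : a ^ p = 1
  hb : b ^ p = 1
  hz : z ^ p = 1
  hz1 : z ≠ 1
  hab : a * b = z * b * a
  za : Commute z a
  zb : Commute z b
  zu : Commute z u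
  zv : Commute z v
  ua : u * a = a * b * u
  ub : Commute u b
  vb : v * b = b * a * v
  va : Commute v a

section Act

variable {H : Type*} [Group H]

/-- `g` acts on the commuting pair `a, b` through the integer matrix with columns `(m₁, m₂)`,
`(m₃, m₄)`. -/
def Act (a b g : H) (m₁ m₂ m₃ m₄ : ℤ) : Prop :=
  g * a * g⁻¹ = a ^ m₁ * b ^ m₂ ∧ g * b * g⁻¹ = a ^ m₃ * b ^ m₄

theorem Act.conj {a b g : H} (hab : Commute a b) {m₁ m₂ m₃ m₄ : ℤ} (h : Act a b g m₁ m₂ m₃ m₄)
    (i j : ℤ) : g * (a ^ i * b ^ j) * g⁻¹ = a ^ (m₁ * i + m₃ * j) * b ^ (m₂ * i + m₄ * j) := by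
  have h1 : g * (a ^ i * b ^ j) * g⁻¹ = (g * a * g⁻¹) ^ i * (g * b * g⁻¹) ^ j := by
    rw [_root_.conj_zpow, _root_.conj_zpow]; group
  rw [h1, h.1, h.2, (hab.zpow_zpow _ _).mul_zpow, (hab.zpow_zpow _ _).mul_zpow, ← zpow_mul,
    ← zpow_mul, ← zpow_mul, ← zpow_mul, zpow_add, zpow_add, mul_assoc, mul_assoc,
    ← mul_assoc (b ^ (m₂ * i)), ← (hab.zpow_zpow _ _).eq]
  simp only [mul_assoc]

theorem Act.mul {a b g h : H} (hab : Commute a b) {m₁ m₂ m₃ m₄ n₁ n₂ n₃ n₄ : ℤ}
    (hg : Act a b g m₁ m₂ m₃ m₄) (hh : Act a b h n₁ n₂ n₃ n₄) :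
    Act a b (g * h) (m₁ * n₁ + m₃ * n₂) (m₂ * n₁ + m₄ * n₂) (m₁ * n₃ + m₃ * n₄)
      (m₂ * n₃ + m₄ * n₄) := by
  constructor
  · rw [← hg.conj hab, ← hh.1]; group
  · rw [← hg.conj hab, ← hh.2]; group

theorem Act.inv {a b g : H} (hab : Commute a b) {m₁ m₂ m₃ m₄ : ℤ}
    (hg : Act a b g m₁ m₂ m₃ m₄) (hd : m₁ * m₄ - m₂ * m₃ = 1) :
    Act a b g⁻¹ m₄ (-m₂) (-m₃) m₁ := by
  constructor
  · have h1 := hg.conj hab m₄ (-m₂)
    rw [show m₁ * m₄ + m₃ * -m₂ = 1 by linear_combination hd,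
      show m₂ * m₄ + m₄ * -m₂ = 0 by ring, zpow_one, zpow_zero, mul_one] at h1
    calc g⁻¹ * a * g⁻¹⁻¹ = g⁻¹ * (g * (a ^ m₄ * b ^ (-m₂)) * g⁻¹) * g⁻¹⁻¹ := by rw [h1]
      _ = _ := by group
  · have h1 := hg.conj hab (-m₃) m₁
    rw [show m₁ * -m₃ + m₃ * m₁ = 0 by ring,
      show m₂ * -m₃ + m₄ * m₁ = 1 by linear_combination hd, zpow_one, zpow_zero, one_mul] at h1
    calc g⁻¹ * b * g⁻¹⁻¹ = g⁻¹ * (g * (a ^ (-m₃) * b ^ m₁) * g⁻¹) * g⁻¹⁻¹ := by rw [h1]
      _ = _ := by group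

theorem Act.comm {a b g h : H} (hab : Commute a b) {m₁ m₂ m₃ m₄ n₁ n₂ n₃ n₄ : ℤ}
    (hg : Act a b g m₁ m₂ m₃ m₄) (hh : Act a b h n₁ n₂ n₃ n₄) (hd : m₁ * m₄ - m₂ * m₃ = 1)
    (hd' : n₁ * n₄ - n₂ * n₃ = 1) {k₁ k₂ k₃ k₄ : ℤ}
    (h1 : k₁ = (m₁ * n₁ + m₃ * n₂) * (m₄ * n₄ + -m₃ * -n₂) +
      (m₁ * n₃ + m₃ * n₄) * (-m₂ * n₄ + m₁ * -n₂))
    (h2 : k₂ = (m₂ * n₁ + m₄ * n₂) * (m₄ * n₄ + -m₃ * -n₂) +
      (m₂ * n₃ + m₄ * n₄) * (-m₂ * n₄ + m₁ * -n₂))
    (h3 : k₃ = (m₁ * n₁ + m₃ * n₂) * (m₄ * -n₃ + -m₃ * n₁) +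
      (m₁ * n₃ + m₃ * n₄) * (-m₂ * -n₃ + m₁ * n₁))
    (h4 : k₄ = (m₂ * n₁ + m₄ * n₂) * (m₄ * -n₃ + -m₃ * n₁) +
      (m₂ * n₃ + m₄ * n₄) * (-m₂ * -n₃ + m₁ * n₁)) :
    Act a b ⁅g, h⁆ k₁ k₂ k₃ k₄ := by
  have h5 := (hg.mul hab hh).mul hab ((hg.inv hab hd).mul hab (hh.inv hab hd'))
  rw [commutatorElement_def, mul_assoc (g * h), h1, h2, h3, h4]
  exact h5

/-- The double commutator inverts `a`. -/
theorem inverts_of_comm {a b u v : H} (hab : Commute a b) (ua : u * a = a * b * u)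
    (ub : Commute u b) (vb : v * b = b * a * v) (va : Commute v a) :
    ⁅⁅u⁻¹, v⁆, ⁅u, v⁻¹⁆⁆ * a * ⁅⁅u⁻¹, v⁆, ⁅u, v⁻¹⁆⁆⁻¹ = a⁻¹ := by
  have hu : Act a b u 1 1 0 1 := ⟨by rw [ua]; group, by rw [ub.eq]; group⟩
  have hv : Act a b v 1 0 1 1 := ⟨by rw [va.eq]; group, by rw [vb, ← hab.eq]; group⟩
  have hu' := hu.inv hab (by norm_num)
  have hv' := hv.inv hab (by norm_num)
  have h1 : Act a b ⁅u⁻¹, v⁆ 2 (-1) (-1) 1 :=
    hu'.comm hab hv (by norm_num) (by norm_num) (by norm_num) (by norm_num) (by norm_num)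
      (by norm_num)
  have h2 : Act a b ⁅u, v⁻¹⁆ 2 1 1 1 :=
    hu.comm hab hv' (by norm_num) (by norm_num) (by norm_num) (by norm_num) (by norm_num)
      (by norm_num)
  have h3 : Act a b ⁅⁅u⁻¹, v⁆, ⁅u, v⁻¹⁆⁆ (-1) 0 6 (-1) :=
    h1.comm hab h2 (by norm_num) (by norm_num) (by norm_num) (by norm_num) (by norm_num)
      (by norm_num)
  rw [h3.1]; group

end Act

section

variable {p : ℕ} {H : Type*} [Group H] {a b z u v : H}

theorem Heis.z_eq (h : Heis p a b z u v) : z = ⁅a, b⁆ := by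
  rw [commutatorElement_def, h.hab]; group

theorem Heis.z_mem (h : Heis p a b z u v) : z ∈ Subgroup.closure ({a, b} : Set H) := by
  have ha : a ∈ Subgroup.closure ({a, b} : Set H) := Subgroup.subset_closure (by simp)
  have hb : b ∈ Subgroup.closure ({a, b} : Set H) := Subgroup.subset_closure (by simp)
  rw [h.z_eq, commutatorElement_def]
  exact mul_mem (mul_mem (mul_mem ha hb) (inv_mem ha)) (inv_mem hb)

theorem isPGroup_zpowers_of_pow {g : H} {n : ℕ} (hg : g ^ p ^ n = 1) :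
    IsPGroup p (Subgroup.zpowers g) := by
  rintro ⟨_, k, rfl⟩
  refine ⟨n, Subtype.ext ?_⟩
  change (g ^ k) ^ p ^ n = 1
  rw [← zpow_natCast, ← zpow_mul, mul_comm, zpow_mul, zpow_natCast, hg, one_zpow]

theorem mem_normalizer_closure [Finite H] {S : Set H} {g : H}
    (hg : ∀ s ∈ S, g * s * g⁻¹ ∈ Subgroup.closure S) :
    g ∈ Subgroup.normalizer ((Subgroup.closure S : Subgroup H) : Set H) := by
  refine Subgroup.mem_normalizer_fintype fun n hn => ?_
  induction hn using Subgroup.closure_induction with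
  | mem s hs => exact hg s hs
  | one => simp
  | mul x y _ _ hx hy =>
    have : g * (x * y) * g⁻¹ = (g * x * g⁻¹) * (g * y * g⁻¹) := by group
    rw [this]; exact mul_mem hx hy
  | inv x _ hx =>
    have : g * x⁻¹ * g⁻¹ = (g * x * g⁻¹)⁻¹ := by group
    rw [this]; exact inv_mem hx

theorem Heis.isPGroup [Finite H] (h : Heis p a b z u v) :
    IsPGroup p (Subgroup.closure ({a, b} : Set H)) := by
  have hpa : IsPGroup p (Subgroup.zpowers a) :=
    isPGroup_zpowers_of_pow (n := 1) (by rw [pow_one, h.ha])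
  have hpb : IsPGroup p (Subgroup.zpowers b) :=
    isPGroup_zpowers_of_pow (n := 1) (by rw [pow_one, h.hb])
  have hpz : IsPGroup p (Subgroup.zpowers z) :=
    isPGroup_zpowers_of_pow (n := 1) (by rw [pow_one, h.hz])
  have h1 : IsPGroup p (Subgroup.zpowers b ⊔ Subgroup.zpowers z : Subgroup H) := by
    refine IsPGroup.to_sup_of_normal_left' hpb hpz ?_
    rw [Subgroup.zpowers_le, Subgroup.zpowers_eq_closure]
    refine mem_normalizer_closure ?_
    rintro _ rfl
    rw [h.zb.eq, mul_inv_cancel_right]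
    exact Subgroup.subset_closure rfl
  have h2 : Subgroup.zpowers b ⊔ Subgroup.zpowers z = Subgroup.closure ({b, z} : Set H) := by
    rw [Subgroup.zpowers_eq_closure, Subgroup.zpowers_eq_closure, ← Subgroup.closure_union]
    rfl
  rw [h2] at h1
  have hb : b ∈ Subgroup.closure ({b, z} : Set H) := Subgroup.subset_closure (by simp)
  have hz : z ∈ Subgroup.closure ({b, z} : Set H) := Subgroup.subset_closure (by simp)
  have h3 : IsPGroup p (Subgroup.closure ({b, z} : Set H) ⊔ Subgroup.zpowers a : Subgroup H) := by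
    refine IsPGroup.to_sup_of_normal_left' h1 hpa ?_
    rw [Subgroup.zpowers_le]
    refine mem_normalizer_closure ?_
    rintro _ (rfl | rfl)
    · rw [h.hab, mul_inv_cancel_right]
      exact mul_mem hz hb
    · rw [← h.za.eq, mul_inv_cancel_right]
      exact hz
  refine h3.to_le ?_
  rw [Subgroup.closure_le]
  rintro _ (rfl | rfl)
  · exact Subgroup.mem_sup_right (Subgroup.mem_zpowers _)
  · exact Subgroup.mem_sup_left hb

theorem Heis.le_normalizer [Finite H] (h : Heis p a b z u v) :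
    Subgroup.closure ({a, b, u, v} : Set H) ≤
      Subgroup.normalizer ((Subgroup.closure ({a, b} : Set H) : Subgroup H) : Set H) := by
  have ha : a ∈ Subgroup.closure ({a, b} : Set H) := Subgroup.subset_closure (by simp)
  have hb : b ∈ Subgroup.closure ({a, b} : Set H) := Subgroup.subset_closure (by simp)
  rw [Subgroup.closure_le]
  rintro _ (rfl | rfl | rfl | rfl)
  · exact Subgroup.le_normalizer ha
  · exact Subgroup.le_normalizer hb
  · refine mem_normalizer_closure ?_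
    rintro _ (rfl | rfl)
    · rw [h.ua, mul_inv_cancel_right]; exact mul_mem ha hb
    · rw [h.ub.eq, mul_inv_cancel_right]; exact hb
  · refine mem_normalizer_closure ?_
    rintro _ (rfl | rfl)
    · rw [h.va.eq, mul_inv_cancel_right]; exact ha
    · rw [h.vb, mul_inv_cancel_right]; exact mul_mem hb ha

theorem Heis.le_commutator (h : Heis p a b z u v) :
    Subgroup.closure ({a, b} : Set H) ≤
      ⁅Subgroup.closure ({a, b, u, v} : Set H), Subgroup.closure ({a, b, u, v} : Set H)⁆ := by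
  set N := Subgroup.closure ({a, b, u, v} : Set H)
  have ha : a ∈ N := Subgroup.subset_closure (by simp)
  have hb : b ∈ N := Subgroup.subset_closure (by simp)
  have hu : u ∈ N := Subgroup.subset_closure (by simp)
  have hv : v ∈ N := Subgroup.subset_closure (by simp)
  have h1 : ⁅b⁻¹, v⁆ = a := by
    rw [commutatorElement_def, inv_inv, mul_assoc b⁻¹, h.vb]; group
  have h2 : ⁅a⁻¹, u⁆ = b := by
    rw [commutatorElement_def, inv_inv, mul_assoc a⁻¹, h.ua]; group
  have h3 := Subgroup.commutator_mem_commutator (inv_mem hb) hv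
  have h4 := Subgroup.commutator_mem_commutator (inv_mem ha) hu
  rw [h1] at h3
  rw [h2] at h4
  rw [Subgroup.closure_le]
  rintro _ (rfl | rfl)
  · exact h3
  · exact h4

/-- The double commutator inverts `a` modulo `z`. -/
theorem Heis.inverts (h : Heis p a b z u v) : ∃ t : ℤ,
    ⁅⁅u⁻¹, v⁆, ⁅u, v⁻¹⁆⁆ * a * ⁅⁅u⁻¹, v⁆, ⁅u, v⁻¹⁆⁆⁻¹ = a⁻¹ * z ^ t := by
  let C := Subgroup.centralizer ({z} : Set H)
  have hm : ∀ {g : H}, Commute z g → g ∈ C := fun hg =>
    Subgroup.mem_centralizer_singleton_iff.2 hg.symm.eq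
  let a' : C := ⟨a, hm h.za⟩
  let b' : C := ⟨b, hm h.zb⟩
  let u' : C := ⟨u, hm h.zu⟩
  let v' : C := ⟨v, hm h.zv⟩
  let z' : C := ⟨z, hm (Commute.refl z)⟩
  have hzc : z' ∈ Subgroup.center C := Subgroup.mem_center_iff.2 fun g =>
    Subtype.ext (Subgroup.mem_centralizer_singleton_iff.1 g.2)
  have hn : (Subgroup.zpowers z').Normal := ⟨fun n hn g => by
    rw [Subgroup.mem_center_iff.1 ((Subgroup.zpowers_le).2 hzc hn) g, mul_inv_cancel_right]
    exact hn⟩
  let f := QuotientGroup.mk' (Subgroup.zpowers z')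
  have hfz : f z' = 1 := (QuotientGroup.eq_one_iff _).2 (Subgroup.mem_zpowers _)
  have hab : Commute (f a') (f b') := by
    have h1 : a' * b' = z' * b' * a' := Subtype.ext h.hab
    have h2 := congrArg f h1
    rw [map_mul, map_mul, map_mul, hfz, one_mul] at h2
    exact h2
  have h1 := inverts_of_comm (u := f u') (v := f v') hab
    (by simpa only [map_mul] using congrArg f (Subtype.ext h.ua : u' * a' = a' * b' * u'))
    (Commute.map (Subtype.ext h.ub.eq : u' * b' = b' * u') f)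
    (by simpa only [map_mul] using congrArg f (Subtype.ext h.vb : v' * b' = b' * a' * v'))
    (Commute.map (Subtype.ext h.va.eq : v' * a' = a' * v') f)
  have h2 : f (a' * (⁅⁅u'⁻¹, v'⁆, ⁅u', v'⁻¹⁆⁆ * a' * ⁅⁅u'⁻¹, v'⁆, ⁅u', v'⁻¹⁆⁆⁻¹)) = 1 := by
    simp only [map_mul, map_inv, map_commutatorElement]
    rw [h1, mul_inv_cancel]
  obtain ⟨t, ht⟩ := Subgroup.mem_zpowers_iff.1 ((QuotientGroup.eq_one_iff _).1 h2)
  refine ⟨t, ?_⟩
  have h3 := congrArg C.subtype ht
  simp only [map_mul, map_inv, map_commutatorElement, map_zpow] at h3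
  change z ^ t = a * (⁅⁅u⁻¹, v⁆, ⁅u, v⁻¹⁆⁆ * a * ⁅⁅u⁻¹, v⁆, ⁅u, v⁻¹⁆⁆⁻¹) at h3
  rw [h3]; group

/-- A power of `x` with exponent a power of `p` is `p`-regular. -/
theorem exists_reg_pow [Finite H] [hp : Fact p.Prime] (x : H) :
    ∃ k : ℕ, ¬ p ∣ orderOf (x ^ p ^ k) := by
  obtain ⟨k, m, hm, hkm⟩ := Nat.exists_eq_pow_mul_and_not_dvd (orderOf_pos x).ne' p hp.out.ne_one
  refine ⟨k, fun hd => hm (hd.trans (orderOf_dvd_of_pow_eq_one ?_))⟩
  rw [← pow_mul, ← hkm, pow_orderOf_eq_one]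

theorem Heis.exists_reg [Finite H] [hp : Fact p.Prime] (hp2 : p ≠ 2) (h : Heis p a b z u v) :
    ∃ x ∈ ⁅⁅Subgroup.closure ({a, b, u, v} : Set H), Subgroup.closure ({a, b, u, v} : Set H)⁆,
        ⁅Subgroup.closure ({a, b, u, v} : Set H), Subgroup.closure ({a, b, u, v} : Set H)⁆⁆,
      ¬ p ∣ orderOf x ∧ ¬ Commute x a := by
  set N := Subgroup.closure ({a, b, u, v} : Set H)
  have hu : u ∈ N := Subgroup.subset_closure (by simp)
  have hv : v ∈ N := Subgroup.subset_closure (by simp)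
  obtain ⟨t, ht⟩ := h.inverts
  have hx : ⁅⁅u⁻¹, v⁆, ⁅u, v⁻¹⁆⁆ ∈ ⁅⁅N, N⁆, ⁅N, N⁆⁆ := Subgroup.commutator_mem_commutator
    (Subgroup.commutator_mem_commutator (inv_mem hu) hv)
    (Subgroup.commutator_mem_commutator hu (inv_mem hv))
  have hzx : Commute z ⁅⁅u⁻¹, v⁆, ⁅u, v⁻¹⁆⁆ := by
    have h1 := h.zu
    have h2 := h.zv
    simp only [commutatorElement_def]
    (apply Commute.mul_right; apply Commute.mul_right; apply Commute.mul_right; apply Commute.mul_right; apply Commute.mul_right; apply Commute.mul_right; apply Commute.inv_right; assumption; assumption; apply Commute.inv_right; apply Commute.inv_right; assumption; apply Commute.inv_right; assumption; apply Commute.mul_right; apply Commute.mul_right; apply Commute.mul_right; assumption; apply Commute.inv_right; assumption; apply Commute.inv_right; assumption; apply Commute.inv_right; apply Commute.inv_right; assumption; apply Commute.inv_right; apply Commute.mul_right; apply Commute.mul_right;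 apply Commute.mul_right; apply Commute.inv_right; assumption; assumption; apply Commute.inv_right; apply Commute.inv_right; assumption; apply Commute.inv_right; assumption; apply Commute.inv_right; apply Commute.mul_right; apply Commute.mul_right; apply Commute.mul_right; assumption; apply Commute.inv_right; assumption; apply Commute.inv_right; assumption; apply Commute.inv_right; apply Commute.inv_right; assumption)
  generalize ⁅⁅u⁻¹, v⁆, ⁅u, v⁻¹⁆⁆ = x at ht hx hzx
  obtain ⟨k, hk⟩ := exists_reg_pow (p := p) x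
  refine ⟨x ^ p ^ k, pow_mem hx _, hk, fun hc => ?_⟩
  have hx2 : Commute (x ^ 2) a := by
    have h1 : x * z ^ t * x⁻¹ = z ^ t := by rw [← (hzx.zpow_left t).eq]; group
    have h2 : x ^ 2 * a * (x ^ 2)⁻¹ = a := by
      calc x ^ 2 * a * (x ^ 2)⁻¹ = x * (x * a * x⁻¹) * x⁻¹ := by rw [pow_two]; group
        _ = x * (a⁻¹ * z ^ t) * x⁻¹ := by rw [ht]
        _ = (x * a * x⁻¹)⁻¹ * (x * z ^ t * x⁻¹) := by group
        _ = (z ^ t)⁻¹ * (a * z ^ t) := by rw [ht, h1]; group
        _ = a := by rw [← (h.za.zpow_left t).eq]; group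
    exact mul_inv_eq_iff_eq_mul.1 h2
  obtain ⟨m, hm⟩ := (hp.out.odd_of_ne_two hp2).pow (n := k)
  have hxa : Commute x a := by
    have h1 : x = (x ^ 2)⁻¹ ^ m * x ^ p ^ k := by rw [hm]; group
    rw [h1]
    exact (hx2.inv_left.pow_left m).mul_left hc
  have ha2 : a ^ 2 = z ^ t := by
    rw [hxa.eq, mul_inv_cancel_right] at ht
    calc a ^ 2 = a * (a⁻¹ * z ^ t) := by rw [← ht, pow_two]
      _ = z ^ t := by group
  obtain ⟨r, hr⟩ := hp.out.odd_of_ne_two hp2
  have hab : Commute a b := by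
    have h1 : a = (a ^ 2) ^ (r + 1) := by
      rw [← pow_mul, show 2 * (r + 1) = p + 1 by omega, pow_succ, h.ha, one_mul]
    rw [h1, ha2]
    exact (h.zb.zpow_left t).pow_left _
  apply h.hz1
  rw [h.z_eq]
  exact commutatorElement_eq_one_iff_mul_comm.2 hab.eq

end

end Cfsg.Agent.BHZ.Nil
end

-- part: BHZ/Nil/Cut
section
/-!
# Groups of units closed under cutting

`av F N h` is the projection onto the fixed space of `h` (`h ^ N = 1`).  A group `Γ` of units is
`CutClosed` when, for `g, h ∈ Γ`, `h` a `p`-element and `g` commuting with `av h`, the element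
acting as `g` on the fixed space of `h` and trivially on the complement lies in `Γ`.
-/

set_option autoImplicit false

namespace Cfsg.Agent.BHZ.Nil

section Av

variable (F : Type*) [Field F] {A : Type*} [Ring A] [Algebra F A]

/-- The average of the powers of `h`. -/
noncomputable def av (N : ℕ) (h : A) : A := (N : F)⁻¹ • ∑ i ∈ Finset.range N, h ^ i

variable {F} {N : ℕ}

theorem semiconj_av {a h h' : A} (H : a * h = h' * a) : a * av F N h = av F N h' * a := by
  rw [av, av, mul_smul_comm, smul_mul_assoc, Finset.mul_sum, Finset.sum_mul]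
  congr 1
  exact Finset.sum_congr rfl fun i _ => (SemiconjBy.pow_right H i).eq

theorem commute_av {a h : A} (H : Commute a h) : Commute a (av F N h) := semiconj_av H.eq

theorem av_mul_of_fix (hN : (N : F) ≠ 0) {h y : A} (H : h * y = y) : av F N h * y = y := by
  have h1 : ∀ i : ℕ, h ^ i * y = y := fun i => by
    induction i with
    | zero => simp
    | succ i ih => rw [pow_succ, mul_assoc, H, ih]
  rw [av, smul_mul_assoc, Finset.sum_mul, Finset.sum_congr rfl fun i _ => h1 i, Finset.sum_const,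
    Finset.card_range, ← Nat.cast_smul_eq_nsmul F, smul_smul, inv_mul_cancel₀ hN, one_smul]

theorem mul_av {h : A} (hh : h ^ N = 1) : h * av F N h = av F N h := by
  rw [av, mul_smul_comm, Finset.mul_sum]
  congr 1
  have h1 := Finset.sum_range_succ (fun i => h ^ i) N
  have h2 := Finset.sum_range_succ' (fun i => h ^ i) N
  simp only [pow_zero] at h2
  rw [hh] at h1
  rw [h1, add_left_inj] at h2
  rw [h2]
  exact Finset.sum_congr rfl fun i _ => (pow_succ' h i).symm

theorem av_idem (hN : (N : F) ≠ 0) {h : A} (hh : h ^ N = 1) : av F N h * av F N h = av F N h :=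
  av_mul_of_fix hN (mul_av hh)

theorem av_one (hN : (N : F) ≠ 0) : av F N (1 : A) = 1 := by
  have := av_mul_of_fix (F := F) hN (mul_one (1 : A))
  rwa [mul_one] at this

theorem map_av {B : Type*} [Ring B] [Algebra F B] (φ : A →ₐ[F] B) (h : A) :
    φ (av F N h) = av F N (φ h) := by
  simp [av, map_sum]

theorem av_inv (hN : (N : F) ≠ 0) {h : Aˣ} (hh : h ^ N = 1) :
    av F N ((h⁻¹ : Aˣ) : A) = av F N (h : A) := by
  have h0 : (h : A) ^ N = 1 := by rw [← Units.val_pow_eq_pow_val, hh, Units.val_one]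
  have h0' : ((h⁻¹ : Aˣ) : A) ^ N = 1 := by
    rw [← Units.val_pow_eq_pow_val, inv_pow, hh, inv_one, Units.val_one]
  have h1 : ((h⁻¹ : Aˣ) : A) * av F N (h : A) = av F N (h : A) := by
    conv_lhs => rw [← mul_av (F := F) h0]
    rw [Units.inv_mul_cancel_left]
  have h2 : (h : A) * av F N ((h⁻¹ : Aˣ) : A) = av F N ((h⁻¹ : Aˣ) : A) := by
    conv_lhs => rw [← mul_av (F := F) h0']
    rw [Units.mul_inv_cancel_left]
  have h3 : Commute (av F N ((h⁻¹ : Aˣ) : A)) (av F N (h : A)) :=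
    commute_av (commute_av (Units.commute_coe_inv h)).symm
  rw [← av_mul_of_fix hN h2, ← h3.eq, av_mul_of_fix hN h1]

end Av

section Cut

variable {A : Type*} [Ring A]

/-- The units commuting with `ε`. -/
def commU (ε : A) : Subgroup Aˣ where
  carrier := {g | Commute (g : A) ε}
  mul_mem' := fun hx hy => by
    simp only [Set.mem_ofPred_eq, Units.val_mul] at *
    exact hx.mul_left hy
  one_mem' := by simp
  inv_mem' := fun hx => Commute.units_inv_left hx

theorem cut_mul {ε g h : A} (hε : ε * ε = ε) (hh : Commute h ε) :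
    (g * ε + (1 - ε)) * (h * ε + (1 - ε)) = g * h * ε + (1 - ε) := by
  have h1 : ε * h * ε = h * ε := by rw [← hh.eq, mul_assoc, hε]
  have h2 : (g * ε + (1 - ε)) * (h * ε + (1 - ε)) =
      g * (ε * h * ε) + g * (ε - ε * ε) + (h * ε - ε * h * ε) + (1 - ε - ε + ε * ε) := by
    noncomm_ring
  rw [h2, h1, hε]
  noncomm_ring

/-- `g ↦ g ε + (1 - ε)`. -/
def cutHom {ε : A} (hε : ε * ε = ε) : commU ε →* Aˣ where
  toFun g := ⟨(g.1 : A) * ε + (1 - ε), ((g.1⁻¹ : Aˣ) : A) * ε + (1 - ε),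
    by rw [cut_mul hε (commU ε |>.inv_mem g.2)]; simp,
    by rw [cut_mul hε g.2]; simp⟩
  map_one' := Units.ext (by simp)
  map_mul' g h := Units.ext (by
    change ((g.1 * h.1 : Aˣ) : A) * ε + (1 - ε) = _ * _
    rw [Units.val_mul]
    exact (cut_mul hε h.2).symm)

theorem val_cutHom {ε : A} (hε : ε * ε = ε) (g : commU ε) :
    (cutHom hε g : A) = (g.1 : A) * ε + (1 - ε) := rfl

/-- `Γ` is closed under cutting along `ε`. -/
def Good (Γ : Subgroup Aˣ) (ε : A) : Prop :=
  ∀ g ∈ Γ, Commute (g : A) ε → ∃ c ∈ Γ, (c : A) = g * ε + (1 - ε)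

theorem Good.cutHom_mem {Γ : Subgroup Aˣ} {ε : A} (h : Good Γ ε) (hε : ε * ε = ε) {g : commU ε}
    (hg : g.1 ∈ Γ) : cutHom hε g ∈ Γ := by
  obtain ⟨c, hc, hc'⟩ := h g.1 hg g.2
  rwa [show cutHom hε g = c from Units.ext hc'.symm]

theorem Good.one_sub {Γ : Subgroup Aˣ} {ε : A} (h : Good Γ ε) : Good Γ (1 - ε) := by
  intro g hg hc
  have hc' : Commute (g : A) ε := by
    have := (Commute.one_right (g : A)).sub_right hc
    rwa [sub_sub_cancel] at this
  obtain ⟨c, hcm, hc2⟩ := h g⁻¹ (inv_mem hg) hc'.units_inv_left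
  refine ⟨g * c, mul_mem hg hcm, ?_⟩
  rw [Units.val_mul, hc2, mul_add, Units.mul_inv_cancel_left, sub_sub_cancel, add_comm]

variable (p : ℕ) (F : Type*) [Field F] [Algebra F A]

/-- Closed under cutting along fixed spaces of `p`-elements. -/
def CutClosed (Γ : Subgroup Aˣ) : Prop :=
  ∀ h ∈ Γ, ∀ k : ℕ, h ^ p ^ k = 1 → Good Γ (av F (p ^ k) (h : A))

variable {p F}

theorem CutClosed.inf_centralizer {Γ : Subgroup Aˣ} (h : CutClosed p F Γ) (S : Set Aˣ) :
    CutClosed p F (Γ ⊓ Subgroup.centralizer S) := by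
  intro x hx k hk g hg hc
  obtain ⟨c, hcm, hc2⟩ := h x hx.1 k hk g hg.1 hc
  refine ⟨c, ⟨hcm, Subgroup.mem_centralizer_iff.2 fun s hs => Units.ext ?_⟩, hc2⟩
  have h1 : Commute (s : A) (x : A) :=
    Commute.units_val (Subgroup.mem_centralizer_iff.1 hx.2 s hs)
  have h2 : Commute (s : A) (g : A) :=
    Commute.units_val (Subgroup.mem_centralizer_iff.1 hg.2 s hs)
  have h3 : Commute (s : A) (av F (p ^ k) (x : A)) := commute_av h1
  rw [Units.val_mul, Units.val_mul, hc2]
  exact ((h2.mul_right h3).add_right ((Commute.one_right _).sub_right h3)).eq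

theorem CutClosed.good {Γ : Subgroup Aˣ} (h : CutClosed p F Γ) {x : Aˣ} (hx : x ∈ Γ)
    (hp : x ^ p = 1) : Good Γ (av F p (x : A)) := by
  have := h x hx 1 (by rw [pow_one, hp])
  rwa [pow_one] at this

theorem cutClosed_top (hp : (p : F) ≠ 0) : CutClosed p F (⊤ : Subgroup Aˣ) := by
  intro x _ k hk g _ hc
  have h0 : (x : A) ^ p ^ k = 1 := by rw [← Units.val_pow_eq_pow_val, hk, Units.val_one]
  exact ⟨cutHom (av_idem (by exact_mod_cast pow_ne_zero k hp) h0) ⟨g, hc⟩, trivial, rfl⟩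

end Cut

section Field

/-- Two roots of unity of `p`-power order in a domain: one is a power of the other. -/
theorem exists_pow_rel {K : Type*} [CommRing K] [IsDomain K] {p n : ℕ} [hp : Fact p.Prime]
    {x y : K} (hx : x ^ p ^ n = 1) (hy : y ^ p ^ n = 1) :
    (∃ j : ℕ, y * x ^ j = 1) ∨ ∃ j : ℕ, x * y ^ j = 1 := by
  obtain ⟨a, -, ha⟩ := (Nat.dvd_prime_pow hp.out).1 (orderOf_dvd_of_pow_eq_one hx)
  obtain ⟨b, -, hb⟩ := (Nat.dvd_prime_pow hp.out).1 (orderOf_dvd_of_pow_eq_one hy)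
  have key : ∀ {x y : K} {a b : ℕ}, orderOf x = p ^ a → orderOf y = p ^ b → b ≤ a →
      ∃ j : ℕ, y * x ^ j = 1 := by
    intro x y a b ha hb hab
    have h1 : IsPrimitiveRoot x (p ^ a) := ha ▸ IsPrimitiveRoot.orderOf x
    have h2 : y ^ p ^ a = 1 := orderOf_dvd_iff_pow_eq_one.1 (hb ▸ pow_dvd_pow p hab)
    have : NeZero (p ^ a) := ⟨pow_ne_zero _ hp.out.ne_zero⟩
    obtain ⟨i, -, hi⟩ := h1.eq_pow_of_pow_eq_one (ξ := y ^ (p ^ a - 1))
      (by rw [← pow_mul, mul_comm, pow_mul, h2, one_pow])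
    refine ⟨i, ?_⟩
    rw [hi, ← pow_succ', Nat.sub_add_cancel (Nat.pos_of_ne_zero (NeZero.ne _)), h2]
  rcases le_total b a with h | h
  · exact Or.inl (key ha hb h)
  · exact Or.inr (key hb ha h)

open scoped IsMulCommutative in
/-- On a nonzero idempotent, one of two commuting `p`-elements agrees somewhere with a power of
the inverse of the other. -/
theorem exists_av_ne_zero {F : Type*} [Field F] {A : Type*} [Ring A] [Algebra F A] {p n : ℕ}
    [hp : Fact p.Prime] (hF : (p : F) ≠ 0) {x y e : A} (hx : x ^ p ^ n = 1) (hy : y ^ p ^ n = 1)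
    (hxy : Commute x y) (hxe : Commute x e) (hye : Commute y e) (he : e * e = e) (he0 : e ≠ 0) :
    (∃ j : ℕ, e * av F (p ^ n) (y * x ^ j) ≠ 0) ∨ ∃ j : ℕ, e * av F (p ^ n) (x * y ^ j) ≠ 0 := by
  let R := Algebra.adjoin F ({x, y, e} : Set A)
  have : IsMulCommutative R := Algebra.isMulCommutative_adjoin F (by
    rintro _ (rfl | rfl | rfl) _ (rfl | rfl | rfl)
    exacts [rfl, hxy.eq, hxe.eq, hxy.symm.eq, rfl, hye.eq, hxe.symm.eq, hye.symm.eq, rfl])
  let x' : R := ⟨x, Algebra.subset_adjoin (by simp)⟩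
  let y' : R := ⟨y, Algebra.subset_adjoin (by simp)⟩
  let e' : R := ⟨e, Algebra.subset_adjoin (by simp)⟩
  have hn : ¬ IsNilpotent e' := by
    rintro ⟨k, hk⟩
    have h1 : e ^ k = 0 := congrArg Subtype.val hk
    rcases k with _ | k
    · apply he0
      rw [← mul_one e, ← pow_zero e, h1, mul_zero]
    · exact he0 ((IsIdempotentElem.pow_succ_eq k he).symm.trans h1)
  rw [nilpotent_iff_mem_prime] at hn
  push Not at hn
  obtain ⟨J, hJ, heJ⟩ := hn
  have hN : ((p ^ n : ℕ) : F) ≠ 0 := by exact_mod_cast pow_ne_zero n hF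
  have key : ∀ g : R, Ideal.Quotient.mkₐ F J g = 1 → e * av F (p ^ n) (g : A) ≠ 0 := by
    intro g hg h0
    have h1 : e' * av F (p ^ n) g = 0 := by
      apply Subtype.ext
      have := map_av (N := p ^ n) R.val g
      change e * R.val (av F (p ^ n) g) = 0
      rw [this]
      exact h0
    have h2 := congrArg (Ideal.Quotient.mkₐ F J) h1
    rw [map_mul, map_av, hg, av_one hN, mul_one, map_zero] at h2
    exact heJ (Ideal.Quotient.eq_zero_iff_mem.1 h2)
  have hx' : Ideal.Quotient.mkₐ F J x' ^ p ^ n = 1 := by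
    rw [← map_pow, show x' ^ p ^ n = 1 from Subtype.ext hx, map_one]
  have hy' : Ideal.Quotient.mkₐ F J y' ^ p ^ n = 1 := by
    rw [← map_pow, show y' ^ p ^ n = 1 from Subtype.ext hy, map_one]
  rcases exists_pow_rel hx' hy' with ⟨j, hj⟩ | ⟨j, hj⟩
  · exact Or.inl ⟨j, key (y' * x' ^ j) (by rw [map_mul, map_pow, hj])⟩
  · exact Or.inr ⟨j, key (x' * y' ^ j) (by rw [map_mul, map_pow, hj])⟩

end Field

end Cfsg.Agent.BHZ.Nil
end

-- part: BHZ/Nil/Cut2
section
/-!
# Diagonal elements and the Heisenberg configuration in a cut-closed group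
-/

set_option autoImplicit false
set_option linter.unusedSectionVars false

namespace Cfsg.Agent.BHZ.Nil

section Diag

variable {p : ℕ} [hp : Fact p.Prime] {A : Type*} [Ring A]

/-- `z ^ k` for `k : ZMod p`. -/
def zt (z : Aˣ) (k : ZMod p) : Aˣ := z ^ k.val

theorem zt_add {z : Aˣ} (hz : z ^ p = 1) (k l : ZMod p) : zt z (k + l) = zt z k * zt z l := by
  rw [zt, zt, zt, ← pow_add, ZMod.val_add, ← pow_eq_pow_mod _ hz]

theorem zt_zero (z : Aˣ) : zt z (0 : ZMod p) = 1 := by rw [zt, ZMod.val_zero, pow_zero]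

theorem zt_one (z : Aˣ) : zt z (1 : ZMod p) = z := by rw [zt, ZMod.val_one, pow_one]

theorem zt_mul_natCast {z : Aˣ} (hz : z ^ p = 1) (k : ZMod p) (i : ℕ) :
    zt z (k * (i : ZMod p)) = zt z k ^ i := by
  induction i with
  | zero => rw [Nat.cast_zero, mul_zero, zt_zero, pow_zero]
  | succ i ih => rw [Nat.cast_succ, mul_add, mul_one, zt_add hz, ih, pow_succ]

theorem zt_pow_p {z : Aˣ} (hz : z ^ p = 1) (k : ZMod p) : zt z k ^ p = 1 := by
  rw [zt, ← pow_mul, mul_comm, pow_mul, hz, one_pow]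

theorem commute_zt {z g : Aˣ} (h : Commute z g) (k : ZMod p) : Commute (zt z k) g :=
  h.pow_left _

theorem fix_of_zt {z : Aˣ} (hz : z ^ p = 1) {k : ZMod p} (hk : k ≠ 0) {y : A}
    (h : (zt z k : A) * y = y) : (z : A) * y = y := by
  have h1 : ∀ i : ℕ, ((zt z k ^ i : Aˣ) : A) * y = y := fun i => by
    induction i with
    | zero => simp
    | succ i ih => rw [pow_succ, Units.val_mul, mul_assoc, h, ih]
  have h2 := h1 (k⁻¹).val
  rwa [← zt_mul_natCast hz, ZMod.natCast_zmod_val, mul_inv_cancel₀ hk, zt_one] at h2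

theorem val_pow_one {g : Aˣ} {n : ℕ} (h : g ^ n = 1) : (g : A) ^ n = 1 := by
  rw [← Units.val_pow_eq_pow_val, h, Units.val_one]

variable (F : Type*) [Field F] [Algebra F A]

/-- The projection onto the space where `b` acts as `z ^ k`. -/
noncomputable def fk (b z : Aˣ) (k : ZMod p) : A := av F p ((b * zt z (-k) : Aˣ) : A)

/-- The projection onto the space where `b` acts as `z ^ k` and `z` has no fixed vectors. -/
noncomputable def Fk (b z : Aˣ) (k : ZMod p) : A := fk F b z k * (1 - av F p (z : A))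

variable {F} {b z : Aˣ}

theorem pow_bz (hb : b ^ p = 1) (hz : z ^ p = 1) (hzb : Commute z b) (k : ZMod p) :
    (b * zt z k) ^ p = 1 := by
  rw [(commute_zt hzb k).symm.mul_pow, hb, zt_pow_p hz, one_mul]

theorem commute_fk {g : A} (hgb : Commute g b) (hgz : Commute g z) (k : ZMod p) :
    Commute g (fk F b z k) := by
  apply commute_av
  rw [Units.val_mul, zt, Units.val_pow_eq_pow_val]
  exact hgb.mul_right (hgz.pow_right _)

theorem commute_Fk {g : A} (hgb : Commute g b) (hgz : Commute g z) (k : ZMod p) :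
    Commute g (Fk F b z k) :=
  (commute_fk hgb hgz k).mul_right ((Commute.one_right _).sub_right (commute_av hgz))

theorem b_mul_fk (hb : b ^ p = 1) (hz : z ^ p = 1) (hzb : Commute z b) (k : ZMod p) :
    (b : A) * fk F b z k = zt z k * fk F b z k := by
  have h1 := mul_av (F := F) (val_pow_one (pow_bz hb hz hzb (-k)))
  have h2 : b = zt z k * (b * zt z (-k)) := by
    rw [← mul_assoc, (commute_zt hzb k).eq, mul_assoc, ← zt_add hz, add_neg_cancel, zt_zero,
      mul_one]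
  conv_lhs => rw [h2]
  rw [Units.val_mul, mul_assoc, ← h2, fk, h1]

theorem b_mul_Fk (hb : b ^ p = 1) (hz : z ^ p = 1) (hzb : Commute z b) (k : ZMod p) :
    (b : A) * Fk F b z k = zt z k * Fk F b z k := by
  rw [Fk, ← mul_assoc, b_mul_fk hb hz hzb, mul_assoc]

theorem fk_mul_Fk_self (hF : (p : F) ≠ 0) (hb : b ^ p = 1) (hz : z ^ p = 1) (hzb : Commute z b)
    (k : ZMod p) : fk F b z k * Fk F b z k = Fk F b z k := by
  rw [Fk, ← mul_assoc, fk, av_idem hF (val_pow_one (pow_bz hb hz hzb (-k)))]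

theorem mul_one_sub_av (hF : (p : F) ≠ 0) {y : A} (h : (z : A) * y = y) (hc : Commute (z : A) y) :
    y * (1 - av F p (z : A)) = 0 := by
  rw [mul_sub, mul_one, (commute_av hc.symm).eq, av_mul_of_fix hF h, sub_self]

theorem fk_mul_Fk_ne (hF : (p : F) ≠ 0) (hb : b ^ p = 1) (hz : z ^ p = 1) (hzb : Commute z b)
    {j k : ZMod p} (hjk : j ≠ k) : fk F b z j * Fk F b z k = 0 := by
  have hzb' : Commute (z : A) (b : A) := Commute.units_val hzb
  have hcz : ∀ l : ZMod p, Commute (z : A) (fk F b z l) := commute_fk hzb' (Commute.refl _)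
  have hcb : ∀ l : ZMod p, Commute (b : A) (fk F b z l) := commute_fk (Commute.refl _) hzb'.symm
  have hc : Commute (fk F b z j) (fk F b z k) := commute_fk (hcb j).symm (hcz j).symm k
  have h1 : (b : A) * (fk F b z j * fk F b z k) = zt z j * (fk F b z j * fk F b z k) := by
    rw [← mul_assoc, b_mul_fk hb hz hzb, mul_assoc]
  have h2 : (b : A) * (fk F b z j * fk F b z k) = zt z k * (fk F b z j * fk F b z k) := by
    rw [hc.eq, ← mul_assoc, b_mul_fk hb hz hzb, mul_assoc]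
  have h3 : (zt z (j - k) : A) * (fk F b z j * fk F b z k) = fk F b z j * fk F b z k := by
    rw [sub_eq_neg_add, zt_add hz, Units.val_mul, mul_assoc, ← h1, h2, ← mul_assoc,
      ← Units.val_mul, ← zt_add hz, neg_add_cancel, zt_zero, Units.val_one, one_mul]
  rw [Fk, ← mul_assoc]
  exact mul_one_sub_av hF (fix_of_zt hz (sub_ne_zero.2 hjk) h3) ((hcz j).mul_right (hcz k))

theorem sum_Fk (hF : (p : F) ≠ 0) (hz : z ^ p = 1) (hzb : Commute z b) :
    ∑ k : ZMod p, Fk F b z k = 1 - av F p (z : A) := by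
  have h1 : ∀ i ∈ Finset.range p, i ≠ 0 →
      (∑ k : ZMod p, (zt z (-k * (i : ZMod p)) : A)) * (1 - av F p (z : A)) = 0 := by
    intro i hi hi0
    have hi' : (i : ZMod p) ≠ 0 := by
      rw [Ne, ZMod.natCast_eq_zero_iff]
      exact fun h => hi0 (Nat.eq_zero_of_dvd_of_lt h (Finset.mem_range.1 hi))
    refine mul_one_sub_av hF ?_ (Commute.sum_right _ _ _ fun k _ =>
      Commute.units_val (commute_zt (Commute.refl z) _).symm)
    rw [Finset.mul_sum]
    refine Fintype.sum_equiv (Equiv.subRight (i : ZMod p)⁻¹) _ _ fun k => ?_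
    rw [Equiv.subRight_apply, ← Units.val_mul,
      show -(k - (i : ZMod p)⁻¹) * (i : ZMod p) = 1 + -k * (i : ZMod p) by field_simp; ring, zt_add hz, zt_one]
  have h2 : ∀ k : ZMod p, Fk F b z k =
      (p : F)⁻¹ • ∑ i ∈ Finset.range p, (b : A) ^ i * (zt z (-k * (i : ZMod p)) *
        (1 - av F p (z : A))) := by
    intro k
    rw [Fk, fk, av, smul_mul_assoc, Finset.sum_mul]
    congr 1
    refine Finset.sum_congr rfl fun i _ => ?_
    rw [← Units.val_pow_eq_pow_val, (commute_zt hzb _).symm.mul_pow, Units.val_mul,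
      zt_mul_natCast hz, mul_assoc, Units.val_pow_eq_pow_val]
  rw [Finset.sum_congr rfl fun k _ => h2 k, ← Finset.smul_sum, Finset.sum_comm,
    Finset.sum_eq_single_of_mem 0 (Finset.mem_range.2 hp.out.pos)]
  · simp only [pow_zero, Nat.cast_zero, mul_zero, zt_zero, Units.val_one, one_mul,
      Finset.sum_const, Finset.card_univ, ZMod.card]
    rw [← Nat.cast_smul_eq_nsmul F, smul_smul, inv_mul_cancel₀ hF, one_smul]
  · intro i hi hi0
    rw [← Finset.mul_sum, ← Finset.sum_mul, h1 i hi hi0, mul_zero]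

theorem ext_Fk (hF : (p : F) ≠ 0) (hz : z ^ p = 1) (hzb : Commute z b) {X Y : A}
    (h0 : X * av F p (z : A) = Y * av F p (z : A))
    (h1 : ∀ k : ZMod p, X * Fk F b z k = Y * Fk F b z k) : X = Y := by
  have h2 : (1 : A) = av F p (z : A) + ∑ k : ZMod p, Fk F b z k := by
    rw [sum_Fk hF hz hzb, add_sub_cancel]
  rw [← mul_one X, ← mul_one Y, h2, mul_add, mul_add, h0, Finset.mul_sum, Finset.mul_sum,
    Finset.sum_congr rfl fun k _ => h1 k]

theorem a_mul_Fk (hz : z ^ p = 1) (hzb : Commute z b) {a : Aˣ} (hza : Commute z a)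
    (hab : a * b = z * b * a) (k : ZMod p) :
    (a : A) * Fk F b z k = Fk F b z (k - 1) * a := by
  have h1 : (a : A) * fk F b z k = fk F b z (k - 1) * a := by
    apply semiconj_av
    rw [← Units.val_mul, ← Units.val_mul, ← mul_assoc, hab, neg_sub, sub_eq_add_neg, zt_add hz,
      zt_one, mul_assoc, ← (commute_zt hza _).eq, hzb.eq]
    simp only [mul_assoc]
  have h2 : Commute (a : A) (1 - av F p (z : A)) :=
    (Commute.one_right _).sub_right (commute_av (Commute.units_val hza.symm))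
  rw [Fk, Fk, ← mul_assoc, h1, mul_assoc, h2.eq, mul_assoc]

/-- Diagonal elements. -/
theorem exists_diag (hF : (p : F) ≠ 0) {Γ : Subgroup Aˣ} (hΓ : CutClosed p F Γ) (hbΓ : b ∈ Γ)
    (hzΓ : z ∈ Γ) (hb : b ^ p = 1) (hz : z ^ p = 1) (hzb : Commute z b) (τ : ZMod p → Aˣ)
    (hτ : ∀ k, τ k ∈ Γ ∧ Commute (τ k) b ∧ Commute (τ k) z ∧
      (τ k : A) * av F p (z : A) = av F p (z : A)) :
    ∃ u ∈ Γ, Commute u b ∧ Commute u z ∧ (u : A) * av F p (z : A) = av F p (z : A) ∧
      ∀ k, (u : A) * Fk F b z k = τ k * Fk F b z k := by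
  classical
  suffices h : ∀ s : Finset (ZMod p), ∃ u ∈ Γ, Commute u b ∧ Commute u z ∧
      (u : A) * av F p (z : A) = av F p (z : A) ∧
      ∀ k, (u : A) * Fk F b z k = (if k ∈ s then (τ k : A) else 1) * Fk F b z k by
    obtain ⟨u, h1, h2, h3, h4, h5⟩ := h Finset.univ
    exact ⟨u, h1, h2, h3, h4, fun k => by rw [h5, if_pos (Finset.mem_univ k)]⟩
  intro s
  induction s using Finset.induction_on with
  | empty => exact ⟨1, one_mem _, Commute.one_left _, Commute.one_left _, by simp, by simp⟩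
  | insert j s hj ih =>
    obtain ⟨u, h1, h2, h3, h4, h5⟩ := ih
    obtain ⟨t1, t2, t3, t4⟩ := hτ j
    have hzb' : Commute (z : A) (b : A) := Commute.units_val hzb
    have hτf : ∀ k l : ZMod p, Commute (τ k : A) (fk F b z l) := fun k =>
      commute_fk (Commute.units_val (hτ k).2.1) (Commute.units_val (hτ k).2.2.1)
    obtain ⟨c, hc, hc2⟩ := hΓ.good (mul_mem hbΓ (pow_mem hzΓ (-j).val)) (pow_bz hb hz hzb (-j))
      (τ j) t1 (hτf j j)
    change (c : A) = τ j * fk F b z j + (1 - fk F b z j) at hc2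
    have hcc : ∀ g : Aˣ, Commute (τ j) g → Commute g b → Commute g z → Commute c g := by
      intro g g1 g2 g3
      apply Commute.units_of_val
      have g4 := commute_fk (F := F) (Commute.units_val g2) (Commute.units_val g3) j
      rw [hc2]
      exact (((Commute.units_val g1).symm.mul_right g4).add_right
        ((Commute.one_right _).sub_right g4)).symm
    refine ⟨c * u, mul_mem hc h1, (hcc b t2 (Commute.refl _) hzb.symm).mul_left h2,
      (hcc z t3 hzb (Commute.refl _)).mul_left h3, ?_, fun k => ?_⟩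
    · have hw : Commute (fk F b z j) (av F p (z : A)) :=
        commute_av (commute_fk hzb' (Commute.refl _) j).symm
      rw [Units.val_mul, mul_assoc, h4, hc2, add_mul, mul_assoc, hw.eq, ← mul_assoc, t4, sub_mul,
        one_mul, hw.eq, add_sub_cancel]
    · rw [Units.val_mul, mul_assoc, h5, hc2]
      by_cases hk : k = j
      · subst hk
        rw [if_neg hj, if_pos (Finset.mem_insert_self _ _), one_mul, add_mul, mul_assoc, sub_mul,
          fk_mul_Fk_self hF hb hz hzb, one_mul, sub_self, add_zero]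
      · have h0 : fk F b z j * ((if k ∈ s then (τ k : A) else 1) * Fk F b z k) = 0 := by
          split_ifs
          · rw [← mul_assoc, ← (hτf k j).eq, mul_assoc, fk_mul_Fk_ne hF hb hz hzb (Ne.symm hk),
              mul_zero]
          · rw [one_mul, fk_mul_Fk_ne hF hb hz hzb (Ne.symm hk)]
        rw [add_mul, mul_assoc, h0, mul_zero, sub_mul, h0, one_mul, zero_add, sub_zero]
        simp only [Finset.mem_insert, hk, false_or]

theorem zt_mul_av (hz : z ^ p = 1) (k : ZMod p) :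
    (zt z k : A) * av F p (z : A) = av F p (z : A) := by
  rw [zt, Units.val_pow_eq_pow_val]
  induction k.val with
  | zero => simp
  | succ i ih => rw [pow_succ, mul_assoc, mul_av (val_pow_one hz), ih]

/-- The transvection `a ↦ a b`, `b ↦ b`. -/
theorem exists_transv (hp2 : p ≠ 2) (hF : (p : F) ≠ 0) {Γ : Subgroup Aˣ} (hΓ : CutClosed p F Γ)
    (hbΓ : b ∈ Γ) (hzΓ : z ∈ Γ) (hb : b ^ p = 1) (hz : z ^ p = 1) (hzb : Commute z b) {a : Aˣ}
    (hza : Commute z a) (hab : a * b = z * b * a)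
    (hbw : (b : A) * av F p (z : A) = av F p (z : A)) :
    ∃ u ∈ Γ, Commute z u ∧ u * a = a * b * u ∧ Commute u b := by
  have h2 : (2 : ZMod p) ≠ 0 := by
    intro h
    have h' : ((2 : ℕ) : ZMod p) = 0 := by exact_mod_cast h
    rw [ZMod.natCast_eq_zero_iff] at h'
    exact hp2 ((Nat.prime_dvd_prime_iff_eq hp.out Nat.prime_two).1 h')
  obtain ⟨u, h1, h3, h4, h5, h6⟩ := exists_diag hF hΓ hbΓ hzΓ hb hz hzb
    (fun k => zt z (-(k * (k + 1)) / 2)) (fun k => ⟨pow_mem hzΓ _, commute_zt hzb _,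
      commute_zt (Commute.refl z) _, zt_mul_av hz _⟩)
  refine ⟨u, h1, h4.symm, Units.ext (ext_Fk hF hz hzb ?_ fun k => ?_), h3⟩
  · have haw : Commute (a : A) (av F p (z : A)) := commute_av (Commute.units_val hza.symm)
    rw [Units.val_mul, Units.val_mul, Units.val_mul, mul_assoc, haw.eq, ← mul_assoc, h5,
      mul_assoc, h5, mul_assoc, hbw, haw.eq]
  · have hc : ∀ l : ZMod p, Commute (zt z l : A) (a : A) := fun l =>
      Commute.units_val (commute_zt hza l)
    have hcb : ∀ l : ZMod p, Commute (zt z l : A) (b : A) := fun l =>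
      Commute.units_val (commute_zt hzb l)
    rw [Units.val_mul, Units.val_mul, Units.val_mul, mul_assoc, a_mul_Fk hz hzb hza hab,
      ← mul_assoc, h6, mul_assoc, ← a_mul_Fk hz hzb hza hab, mul_assoc, h6, mul_assoc,
      ← mul_assoc (b : A), ← (hcb _).eq, mul_assoc, b_mul_Fk hb hz hzb, ← mul_assoc, (hc _).eq,
      mul_assoc, ← mul_assoc (zt z (-(k * (k + 1)) / 2) : A), ← Units.val_mul, ← zt_add hz]
    congr 4
    field_simp
    ring

/-- Correcting `a` to an element of exponent `p`. -/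
theorem exists_order_p (hF : (p : F) ≠ 0) {Γ : Subgroup Aˣ} (hΓ : CutClosed p F Γ)
    (hbΓ : b ∈ Γ) (hzΓ : z ∈ Γ) (hb : b ^ p = 1) (hz : z ^ p = 1) (hzb : Commute z b) {a : Aˣ}
    (haΓ : a ∈ Γ) (hza : Commute z a) (hab : a * b = z * b * a)
    (haw : (a : A) * av F p (z : A) = av F p (z : A)) :
    ∃ a' ∈ Γ, a' ^ p = 1 ∧ Commute z a' ∧ a' * b = z * b * a' ∧
      (a' : A) * av F p (z : A) = av F p (z : A) := by
  classical
  have hpw : ∀ {g : Aˣ}, (g : A) * av F p (z : A) = av F p (z : A) → ∀ n : ℕ,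
      ((g ^ n : Aˣ) : A) * av F p (z : A) = av F p (z : A) := by
    intro g hg n
    induction n with
    | zero => simp
    | succ i ih => rw [pow_succ, Units.val_mul, mul_assoc, hg, ih]
  have hanb : ∀ n : ℕ, a ^ n * b = z ^ n * b * a ^ n := by
    intro n
    induction n with
    | zero => simp
    | succ i ih =>
      rw [pow_succ', mul_assoc, ih, ← mul_assoc, ← mul_assoc, ← (hza.pow_left i).eq,
        mul_assoc (z ^ i), hab, pow_succ z]
      simp only [mul_assoc]
  have hαb : Commute (a ^ p) b := by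
    have := hanb p
    rwa [hz, one_mul] at this
  let τ : ZMod p → Aˣ := fun k => if k = 0 then (a ^ p)⁻¹ else 1
  have hτa : ∀ k, Commute (τ k) a := fun k => by
    simp only [τ]
    split_ifs
    · exact (Commute.pow_self a p).inv_left
    · exact Commute.one_left a
  obtain ⟨g, h1, h3, h4, h5, h6⟩ := exists_diag hF hΓ hbΓ hzΓ hb hz hzb τ (fun k => by
    simp only [τ]
    split_ifs
    · refine ⟨inv_mem (pow_mem haΓ p), hαb.inv_left, (hza.symm.pow_left p).inv_left, ?_⟩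
      conv_lhs => rw [← hpw haw p]
      rw [Units.inv_mul_cancel_left]
    · exact ⟨one_mem _, Commute.one_left _, Commute.one_left _, by simp⟩)
  have haw' : ((a * g : Aˣ) : A) * av F p (z : A) = av F p (z : A) := by
    rw [Units.val_mul, mul_assoc, h5, haw]
  refine ⟨a * g, mul_mem haΓ h1, Units.ext (ext_Fk hF hz hzb ?_ fun k => ?_),
    hza.mul_right h4.symm, by rw [mul_assoc, h3.eq, ← mul_assoc, hab, mul_assoc], haw'⟩
  · rw [hpw haw', Units.val_one, one_mul]
  · have key : ∀ n : ℕ, n ≤ p → (((a * g) ^ n : Aˣ) : A) * Fk F b z k =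
        (((if k.val < n then (a ^ p)⁻¹ else 1) * a ^ n : Aˣ) : A) * Fk F b z k := by
      intro n hn
      induction n with
      | zero => simp
      | succ n ih =>
        have hFa : ∀ m : ℕ, ((a ^ m : Aˣ) : A) * Fk F b z k = 
            Fk F b z (k - (m : ZMod p)) * (a ^ m : Aˣ) := by
          intro m
          induction m with
          | zero => simp
          | succ m ihm =>
            rw [pow_succ', Units.val_mul, mul_assoc, ihm, ← mul_assoc, a_mul_Fk hz hzb hza hab,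
              Nat.cast_succ, sub_sub, mul_assoc]
        set c : Aˣ := if k.val < n then (a ^ p)⁻¹ else 1 with hc
        have hcF : Commute (c : A) (Fk F b z (k - (n : ZMod p))) := by
          rw [hc]
          split_ifs
          · exact commute_Fk (Commute.units_val hαb.inv_left)
              (Commute.units_val (hza.symm.pow_left p).inv_left) _
          · exact Commute.one_left _
        have hca : Commute c a := by
          rw [hc]
          split_ifs
          · exact (Commute.pow_self a p).inv_left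
          · exact Commute.one_left _
        have h7 : (if k.val < n + 1 then (a ^ p)⁻¹ else 1) = τ (k - (n : ZMod p)) * c := by
          have h8 : k - (n : ZMod p) = 0 ↔ k.val = n := by
            rw [sub_eq_zero]
            constructor
            · intro h
              rw [h, ZMod.val_cast_of_lt (by omega)]
            · intro h
              rw [← h, ZMod.natCast_zmod_val]
          simp only [τ, hc, h8]
          split_ifs <;> first | omega | simp
        rw [pow_succ', Units.val_mul, mul_assoc, ih (by omega), Units.val_mul, Units.val_mul,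
          mul_assoc (c : A), hFa, ← mul_assoc (c : A), hcF.eq, mul_assoc (a : A),
          ← mul_assoc (g : A), ← mul_assoc (g : A), h6, mul_assoc (τ _ : A), ← hcF.eq,
          mul_assoc (τ _ : A), mul_assoc (c : A), ← hFa, h7, ← mul_assoc, ← mul_assoc,
          ← mul_assoc, ← Units.val_mul, ← Units.val_mul, ← Units.val_mul, ← (hτa _).eq,
          mul_assoc (τ _), ← hca.eq, pow_succ']
        simp only [mul_assoc]
    rw [key p le_rfl, if_pos (ZMod.val_lt k), inv_mul_cancel]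

end Diag

end Cfsg.Agent.BHZ.Nil
end

-- part: BHZ/Nil/Cut3
section
/-!
# A nonabelian `p`-subgroup of a cut-closed group yields the Heisenberg configuration
-/

set_option autoImplicit false
set_option linter.unusedSectionVars false

namespace Cfsg.Agent.BHZ.Nil

open scoped commutatorElement

section Grp

variable {H : Type*} [Group H] {a b c : H}

theorem pow_mul_of_rel (hca : Commute c a) (hab : a * b = c * b * a) (n : ℕ) :
    a ^ n * b = c ^ n * b * a ^ n := by
  induction n with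
  | zero => simp
  | succ i ih =>
    rw [pow_succ', mul_assoc, ih, ← mul_assoc, ← mul_assoc, ← (hca.pow_left i).eq,
      mul_assoc (c ^ i), hab, pow_succ c]
    simp only [mul_assoc]

theorem mul_pow_of_rel (hca : Commute c a) (hcb : Commute c b) (hab : a * b = c * b * a) (n : ℕ) :
    (b * a) ^ n = c ^ n.choose 2 * (b ^ n * a ^ n) := by
  induction n with
  | zero => simp
  | succ i ih =>
    rw [pow_succ, ih, Nat.choose_succ_succ' i 1, Nat.choose_one_right, add_comm i, pow_add]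
    calc c ^ i.choose 2 * (b ^ i * a ^ i) * (b * a)
        = c ^ i.choose 2 * (b ^ i * (a ^ i * b) * a) := by simp only [mul_assoc]
      _ = c ^ i.choose 2 * ((b ^ i * c ^ i) * b * a ^ i * a) := by
          rw [pow_mul_of_rel hca hab]; simp only [mul_assoc]
      _ = _ := by rw [← (hcb.pow_pow i i).eq, pow_succ, pow_succ]; simp only [mul_assoc]

theorem rel_swap (hab : a * b = c * b * a) : b * a = c⁻¹ * a * b := by
  rw [mul_assoc, hab]; group

/-- A nonabelian finite `p`-group contains `a, b` with a central commutator of order `p`. -/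
theorem exists_triple {p : ℕ} [hp : Fact p.Prime] [Finite H] (hH : IsPGroup p H)
    (hn : ¬ IsMulCommutative H) :
    ∃ a b c : H, c ∈ Subgroup.center H ∧ c ≠ 1 ∧ c ^ p = 1 ∧ a * b = c * b * a := by
  have hnt : Nontrivial (H ⧸ Subgroup.center H) := by
    rw [QuotientGroup.nontrivial_iff]
    intro h
    exact hn ⟨⟨fun x y => (Subgroup.mem_center_iff.1 (h ▸ Subgroup.mem_top y) x)⟩⟩
  have hQ : IsPGroup p (H ⧸ Subgroup.center H) := hH.to_quotient _
  have hc := hQ.center_nontrivial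
  have hZ : IsPGroup p (Subgroup.center (H ⧸ Subgroup.center H)) := hQ.to_subgroup _
  obtain ⟨n, hn0, hcard⟩ := hZ.nontrivial_iff_card.1 hc
  obtain ⟨x, hx⟩ := exists_prime_orderOf_dvd_card' (G := Subgroup.center (H ⧸ Subgroup.center H))
    p (hcard ▸ dvd_pow_self p hn0.ne')
  obtain ⟨a, ha⟩ := QuotientGroup.mk_surjective x.1
  have hap : a ^ p ∈ Subgroup.center H := by
    rw [← QuotientGroup.eq_one_iff, QuotientGroup.mk_pow, ha, ← hx, ← Subgroup.coe_pow,
      pow_orderOf_eq_one, Subgroup.coe_one]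
  have ha1 : a ∉ Subgroup.center H := by
    intro h
    rw [← QuotientGroup.eq_one_iff, ha] at h
    rw [show x = 1 from Subtype.ext h, orderOf_one] at hx
    exact hp.out.one_lt.ne hx
  rw [Subgroup.mem_center_iff] at ha1
  push Not at ha1
  obtain ⟨b, hb⟩ := ha1
  have hcz : ⁅a, b⁆ ∈ Subgroup.center H := by
    rw [← QuotientGroup.eq_one_iff]
    change QuotientGroup.mk' _ ⁅a, b⁆ = 1
    rw [map_commutatorElement, commutatorElement_eq_one_iff_mul_comm]
    change (a : H ⧸ Subgroup.center H) * b = b * a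
    rw [ha]
    exact (Subgroup.mem_center_iff.1 x.2 _).symm
  have hab : a * b = ⁅a, b⁆ * b * a := by rw [commutatorElement_def]; group
  refine ⟨a, b, ⁅a, b⁆, hcz, fun h => hb ?_, ?_, hab⟩
  · exact (commutatorElement_eq_one_iff_mul_comm.1 h).symm
  · have h1 := pow_mul_of_rel (Subgroup.mem_center_iff.1 hcz a).symm hab p
    rw [← Subgroup.mem_center_iff.1 hap b, mul_assoc] at h1
    exact (mul_eq_right.1 h1.symm)

end Grp

section

variable {p : ℕ} [hp : Fact p.Prime] {A : Type*} [Ring A] {F : Type*} [Field F] [Algebra F A]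
  {Γ : Subgroup Aˣ}

theorem exists_norm_aux (hp2 : p ≠ 2) (hF : (p : F) ≠ 0) (hΓ : CutClosed p F Γ) {a b c : Aˣ}
    (haΓ : a ∈ Γ) (hbΓ : b ∈ Γ) (hcΓ : c ∈ Γ) (hca : Commute c a) (hcb : Commute c b)
    (hc : c ^ p = 1) (hab : a * b = c * b * a) {n : ℕ} (ha : a ^ p ^ n = 1) (hb : b ^ p ^ n = 1)
    {j : ℕ} (hj : (1 - av F p (c : A)) * av F (p ^ n) ((b ^ p * (a ^ p) ^ j : Aˣ) : A) ≠ 0) :
    ∃ a' ∈ Γ, ∃ b' ∈ Γ, ∃ z ∈ Γ, z ≠ 1 ∧ z ^ p = 1 ∧ a' ^ p = 1 ∧ b' ^ p = 1 ∧
      a' * b' = z * b' * a' ∧ Commute z a' ∧ Commute z b' ∧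
      (a' : A) * av F p (z : A) = av F p (z : A) ∧ (b' : A) * av F p (z : A) = av F p (z : A) := by
  have hαb : Commute (a ^ p) b := by
    have := pow_mul_of_rel hca hab p
    rwa [hc, one_mul] at this
  have hβa : Commute (b ^ p) a := by
    have := pow_mul_of_rel hcb.inv_left (rel_swap hab) p
    rwa [inv_pow, hc, inv_one, one_mul] at this
  set γ := b ^ p * (a ^ p) ^ j with hγ
  have hγa : Commute γ a := hβa.mul_left ((Commute.pow_self a p).pow_left j)
  have hγb : Commute γ b := (Commute.pow_self b p).mul_left (hαb.pow_left j)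
  have hγc : Commute γ c := (hcb.symm.pow_left p).mul_left ((hca.symm.pow_left p).pow_left j)
  have hγn : γ ^ p ^ n = 1 := by
    rw [hγ, ((hβa.pow_right p).pow_right j).mul_pow, ← pow_mul, mul_comm p, pow_mul, hb, one_pow,
      ← pow_mul, ← pow_mul, mul_comm j, mul_left_comm, pow_mul, ha, one_pow, one_mul]
  have hγΓ : γ ∈ Γ := mul_mem (pow_mem hbΓ _) (pow_mem (pow_mem haΓ _) _)
  -- the new `b`
  have hb1 : (b * a ^ j) ^ p = γ := by
    rw [mul_pow_of_rel (c := c ^ j) (hca.pow_pow j j) (hcb.pow_left j) (pow_mul_of_rel hca hab j)]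
    obtain ⟨m, hm⟩ := hp.out.dvd_choose_self (k := 2) two_ne_zero
      (lt_of_le_of_ne hp.out.two_le (Ne.symm hp2))
    rw [hm, ← pow_mul, mul_left_comm, pow_mul, hc, one_pow, one_mul, hγ, ← pow_mul, ← pow_mul,
      mul_comm j]
  have hab1 : a * (b * a ^ j) = c * (b * a ^ j) * a := by
    rw [← mul_assoc, hab, mul_assoc, (Commute.self_pow a j).eq]
    simp only [mul_assoc]
  have hN : ((p ^ n : ℕ) : F) ≠ 0 := by exact_mod_cast pow_ne_zero n hF
  -- first cut
  have hε := av_idem hN (val_pow_one hγn)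
  have hgε := hΓ γ hγΓ n hγn
  have hγε := mul_av (F := F) (val_pow_one hγn)
  have hcm : ∀ {g : Aˣ}, Commute γ g → g ∈ commU (av F (p ^ n) (γ : A)) := fun h =>
    commute_av (Commute.units_val h.symm)
  generalize av F (p ^ n) (γ : A) = ε at hε hgε hγε hcm hj
  let a₁ : commU ε := ⟨a, hcm hγa⟩
  let b₁ : commU ε := ⟨b * a ^ j, hcm (hγb.mul_right (hγa.pow_right j))⟩
  let c₁ : commU ε := ⟨c, hcm hγc⟩
  have r1 : cutHom hε a₁ * cutHom hε b₁ = cutHom hε c₁ * cutHom hε b₁ * cutHom hε a₁ := by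
    simpa only [map_mul] using congrArg (cutHom hε) (Subtype.ext hab1 : a₁ * b₁ = c₁ * b₁ * a₁)
  have r2 : Commute (cutHom hε c₁) (cutHom hε a₁) :=
    Commute.map (Subtype.ext hca.eq : c₁ * a₁ = a₁ * c₁) _
  have r3 : Commute (cutHom hε c₁) (cutHom hε b₁) :=
    Commute.map (Subtype.ext (hcb.mul_right (hca.pow_right j)).eq : c₁ * b₁ = b₁ * c₁) _
  have r4 : cutHom hε c₁ ^ p = 1 := by
    rw [← map_pow, show c₁ ^ p = 1 from Subtype.ext hc, map_one]
  have r5 : cutHom hε b₁ ^ p = 1 := by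
    rw [← map_pow]
    apply Units.ext
    rw [val_cutHom]
    change (((b * a ^ j) ^ p : Aˣ) : A) * ε + (1 - ε) = 1
    rw [hb1, hγε, add_sub_cancel]
  have r6 : cutHom hε c₁ ≠ 1 := by
    intro h
    have h1 : (c : A) * ε + (1 - ε) = 1 := congrArg Units.val h
    have h2 : (c : A) * ε = ε := by
      rw [← sub_eq_zero, ← sub_eq_zero.2 h1]; abel
    apply hj
    rw [sub_mul, one_mul, av_mul_of_fix hF h2, sub_self]
  have m1 := hgε.cutHom_mem hε (g := a₁) haΓ
  have m2 := hgε.cutHom_mem hε (g := b₁) (mul_mem hbΓ (pow_mem haΓ j))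
  have m3 := hgε.cutHom_mem hε (g := c₁) hcΓ
  generalize cutHom hε a₁ = a₂ at r1 r2 m1
  generalize cutHom hε b₁ = b₂ at r1 r3 r5 m2
  generalize cutHom hε c₁ = z at r1 r2 r3 r4 r6 m3
  -- second cut
  have hw := av_idem hF (val_pow_one r4)
  have hw' : (1 - av F p (z : A)) * (1 - av F p (z : A)) = 1 - av F p (z : A) :=
    IsIdempotentElem.one_sub hw
  have hgw := (hΓ.good m3 r4).one_sub
  have hcm' : ∀ {g : Aˣ}, Commute z g → g ∈ commU (1 - av F p (z : A)) := fun h =>
    (Commute.one_right _).sub_right (commute_av (Commute.units_val h.symm))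
  let a₃ : commU (1 - av F p (z : A)) := ⟨a₂, hcm' r2⟩
  let b₃ : commU (1 - av F p (z : A)) := ⟨b₂, hcm' r3⟩
  let c₃ : commU (1 - av F p (z : A)) := ⟨z, hcm' (Commute.refl z)⟩
  have s0 : cutHom hw' c₃ = z := by
    apply Units.ext
    rw [val_cutHom]
    change (z : A) * _ + _ = _
    rw [mul_sub, mul_av (val_pow_one r4), mul_one, sub_sub_cancel, sub_add_cancel]
  have s1 : cutHom hw' a₃ * cutHom hw' b₃ = z * cutHom hw' b₃ * cutHom hw' a₃ := by
    have := congrArg (cutHom hw') (Subtype.ext r1 : a₃ * b₃ = c₃ * b₃ * a₃)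
    rwa [map_mul, map_mul, map_mul, s0] at this
  have s2 : Commute z (cutHom hw' a₃) := by
    have := Commute.map (Subtype.ext r2.eq : c₃ * a₃ = a₃ * c₃) (cutHom hw')
    rwa [s0] at this
  have s3 : Commute z (cutHom hw' b₃) := by
    have := Commute.map (Subtype.ext r3.eq : c₃ * b₃ = b₃ * c₃) (cutHom hw')
    rwa [s0] at this
  have s5 : cutHom hw' b₃ ^ p = 1 := by
    rw [← map_pow, show b₃ ^ p = 1 from Subtype.ext r5, map_one]
  have sw : ∀ g, (cutHom hw' g : A) * av F p (z : A) = av F p (z : A) := fun g => by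
    rw [val_cutHom, sub_sub_cancel, add_mul, mul_assoc, sub_mul, one_mul, hw, sub_self, mul_zero,
      zero_add]
  have n1 := hgw.cutHom_mem hw' (g := a₃) m1
  have n2 := hgw.cutHom_mem hw' (g := b₃) m2
  obtain ⟨a', t1, t2, t3, t4, t5⟩ := exists_order_p hF hΓ n2 m3 s5 r4 s3 n1 s2 s1 (sw a₃)
  exact ⟨a', t1, _, n2, z, m3, r6, r4, t2, s5, t4, t3, s3, t5, sw b₃⟩

theorem exists_norm (hp2 : p ≠ 2) (hF : (p : F) ≠ 0) (hΓ : CutClosed p F Γ) {a b c : Aˣ}
    (haΓ : a ∈ Γ) (hbΓ : b ∈ Γ) (hcΓ : c ∈ Γ) (hca : Commute c a) (hcb : Commute c b)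
    (hc : c ^ p = 1) (hc1 : c ≠ 1) (hab : a * b = c * b * a) {n : ℕ} (ha : a ^ p ^ n = 1)
    (hb : b ^ p ^ n = 1) :
    ∃ a' ∈ Γ, ∃ b' ∈ Γ, ∃ z ∈ Γ, z ≠ 1 ∧ z ^ p = 1 ∧ a' ^ p = 1 ∧ b' ^ p = 1 ∧
      a' * b' = z * b' * a' ∧ Commute z a' ∧ Commute z b' ∧
      (a' : A) * av F p (z : A) = av F p (z : A) ∧ (b' : A) * av F p (z : A) = av F p (z : A) := by
  have hαb : Commute (a ^ p) b := by
    have := pow_mul_of_rel hca hab p
    rwa [hc, one_mul] at this
  have hw := av_idem hF (val_pow_one hc)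
  have hpp : ∀ {g : Aˣ}, g ^ p ^ n = 1 → ((g ^ p : Aˣ) : A) ^ p ^ n = 1 := fun h =>
    val_pow_one (by rw [← pow_mul, mul_comm, pow_mul, h, one_pow])
  have hce : ∀ {g : Aˣ}, Commute c g → Commute ((g ^ p : Aˣ) : A) (1 - av F p (c : A)) := fun h =>
    (Commute.one_right _).sub_right (commute_av (Commute.units_val (h.symm.pow_left p)))
  have he0 : 1 - av F p (c : A) ≠ 0 := by
    intro h
    apply hc1
    apply Units.ext
    have h1 := mul_av (F := F) (val_pow_one hc)
    rwa [← sub_eq_zero.1 h, mul_one] at h1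
  rcases exists_av_ne_zero hF (hpp ha) (hpp hb) (Commute.units_val (hαb.pow_right p)) (hce hca)
    (hce hcb) (IsIdempotentElem.one_sub hw) he0 with ⟨j, hj⟩ | ⟨j, hj⟩
  · exact exists_norm_aux hp2 hF hΓ haΓ hbΓ hcΓ hca hcb hc hab ha hb (j := j)
      (by rw [Units.val_mul, Units.val_pow_eq_pow_val _ j]; exact hj)
  · exact exists_norm_aux hp2 hF hΓ hbΓ haΓ (inv_mem hcΓ) hcb.inv_left hca.inv_left
      (by rw [inv_pow, hc, inv_one]) (rel_swap hab) hb ha (j := j)
      (by rw [av_inv hF hc, Units.val_mul, Units.val_pow_eq_pow_val _ j]; exact hj)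

/-- The Heisenberg configuration; `u, v` commute with everything commuting with `a` and `b`. -/
theorem exists_heis (hp2 : p ≠ 2) (hF : (p : F) ≠ 0) (hΓ : CutClosed p F Γ) {a b c : Aˣ}
    (haΓ : a ∈ Γ) (hbΓ : b ∈ Γ) (hcΓ : c ∈ Γ) (hca : Commute c a) (hcb : Commute c b)
    (hc : c ^ p = 1) (hc1 : c ≠ 1) (hab : a * b = c * b * a) {n : ℕ} (ha : a ^ p ^ n = 1)
    (hb : b ^ p ^ n = 1) :
    ∃ a' b' z u v : Aˣ, Heis p a' b' z u v ∧ Subgroup.closure ({a', b', u, v} : Set Aˣ) ≤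
      Γ ⊓ Subgroup.centralizer (Subgroup.centralizer ({a', b'} : Set Aˣ) : Set Aˣ) := by
  obtain ⟨a', h1, b', h2, z, h3, h4, h5, h6, h7, h8, h9, h10, h11, h12⟩ :=
    exists_norm hp2 hF hΓ haΓ hbΓ hcΓ hca hcb hc hc1 hab ha hb
  have hΓ' := hΓ.inf_centralizer (Subgroup.centralizer ({a', b'} : Set Aˣ) : Set Aˣ)
  set Γ' := Γ ⊓ Subgroup.centralizer (Subgroup.centralizer ({a', b'} : Set Aˣ) : Set Aˣ)
  have m1 : a' ∈ Γ' := ⟨h1, Subgroup.mem_centralizer_iff.2 fun s hs =>
    (Subgroup.mem_centralizer_iff.1 hs a' (by simp)).symm⟩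
  have m2 : b' ∈ Γ' := ⟨h2, Subgroup.mem_centralizer_iff.2 fun s hs =>
    (Subgroup.mem_centralizer_iff.1 hs b' (by simp)).symm⟩
  have m3 : z ∈ Γ' := by
    rw [show z = a' * b' * a'⁻¹ * b'⁻¹ by rw [h8]; group]
    exact mul_mem (mul_mem (mul_mem m1 m2) (inv_mem m1)) (inv_mem m2)
  obtain ⟨u, u1, u2, u3, u4⟩ := exists_transv hp2 hF hΓ' m2 m3 h7 h5 h10 h9 h8 h12
  obtain ⟨v, v1, v2, v3, v4⟩ := exists_transv hp2 hF hΓ' m1 (inv_mem m3) h6
    (by rw [inv_pow, h5, inv_one]) h9.inv_left h10.inv_left (rel_swap h8)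
    (by rw [av_inv hF h5, h11])
  refine ⟨a', b', z, u, v, ⟨h6, h7, h5, h4, h8, h9, h10, u2, by simpa using v2.inv_left, u3, u4,
    v3, v4⟩, ?_⟩
  rw [Subgroup.closure_le]
  rintro _ (rfl | rfl | rfl | rfl)
  exacts [m1, m2, u1, v1]

/-- The local property used in the classical groups. -/
def FusK (p : ℕ) {Y : Type*} [Group Y] (D : Subgroup Y) : Prop :=
  ∀ Q K : Subgroup Y, IsPGroup p Q →
    Q ≤ Subgroup.centralizer (Subgroup.centralizer (D : Set Y) : Set Y) →
    K ≤ Subgroup.centralizer (Subgroup.centralizer (Q : Set Y) : Set Y) →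
    ∀ x ∈ Subgroup.normalizer (Q : Set Y), x ∈ ⁅K, K⁆ → ¬ p ∣ orderOf x →
      x ∈ Subgroup.centralizer (Q : Set Y)

/-- Main theorem for classical groups in cross characteristic. -/
theorem comm_of_cut [Finite A] (hp2 : p ≠ 2) (hF : (p : F) ≠ 0) (hΓ : CutClosed p F Γ)
    {Y : Type*} [Group Y] (ι : Y →* Aˣ) (hι : Function.Injective ι) (h1 : ι.range ≤ Γ)
    (h2 : ⁅Γ, Γ⁆ ≤ ι.range) {D : Subgroup Y} (hD : IsPGroup p D) (hfus : FusK p D) :
    IsMulCommutative D := by
  by_contra hn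
  have : Finite Y := Finite.of_injective ι hι
  obtain ⟨a, b, c, hcz, hc1, hc, hab⟩ := exists_triple hD hn
  obtain ⟨n, hcard⟩ := hD.exists_card_eq
  let f : D →* Aˣ := ι.comp D.subtype
  have hf : Function.Injective f := hι.comp D.subtype_injective
  have hΓ' := hΓ.inf_centralizer ((Subgroup.centralizer (D : Set Y)).map ι : Set Aˣ)
  set Γ' := Γ ⊓ Subgroup.centralizer ((Subgroup.centralizer (D : Set Y)).map ι : Set Aˣ)
  have hm : ∀ d : D, f d ∈ Γ' := fun d => ⟨h1 ⟨d, rfl⟩, Subgroup.mem_centralizer_iff.2 (by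
    rintro _ ⟨s, hs, rfl⟩
    change ι s * ι d = ι d * ι s
    rw [← map_mul, ← map_mul, Subgroup.mem_centralizer_iff.1 hs d d.2])⟩
  have hpw : ∀ d : D, f d ^ p ^ n = 1 := fun d => by
    rw [← map_pow, ← hcard, pow_card_eq_one', map_one]
  obtain ⟨a', b', z, u, v, hh, hle⟩ := exists_heis hp2 hF hΓ' (hm a) (hm b) (hm c)
    (Commute.map (Subgroup.mem_center_iff.1 hcz a).symm f)
    (Commute.map (Subgroup.mem_center_iff.1 hcz b).symm f)
    (by rw [← map_pow, hc, map_one]) (fun h => hc1 (hf (h.trans (map_one f).symm)))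
    (by rw [← map_mul, hab, map_mul, map_mul]) (hpw a) (hpw b)
  obtain ⟨x, hx, hxr, hxa⟩ := hh.exists_reg hp2
  have hE := hh.isPGroup
  have hEN := hh.le_commutator
  have hNE := hh.le_normalizer
  have haE : a' ∈ Subgroup.closure ({a', b'} : Set Aˣ) := Subgroup.subset_closure (by simp)
  have hbE : b' ∈ Subgroup.closure ({a', b'} : Set Aˣ) := Subgroup.subset_closure (by simp)
  set N := Subgroup.closure ({a', b', u, v} : Set Aˣ)
  set E := Subgroup.closure ({a', b'} : Set Aˣ)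
  have hNN : ⁅N, N⁆ ≤ N := Subgroup.commutator_le_self N
  have hr : ⁅N, N⁆ ≤ ι.range :=
    (Subgroup.commutator_mono (hle.trans (inf_le_left.trans inf_le_left))
      (hle.trans (inf_le_left.trans inf_le_left))).trans h2
  rw [← Subgroup.map_comap_eq_self hr, ← Subgroup.map_commutator] at hx
  obtain ⟨x, hx, rfl⟩ := hx
  obtain ⟨a₀, rfl⟩ := hr (hEN haE)
  obtain ⟨b₀, rfl⟩ := hr (hEN hbE)
  have h3 := hfus (E.comap ι) (⁅N, N⁆.comap ι) (hE.comap_of_injective ι hι) ?_ ?_ x ?_ hx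
    (by rwa [orderOf_injective ι hι] at hxr)
  · exact hxa (Commute.map (Subgroup.mem_centralizer_iff.1 h3 a₀ haE).symm ι)
  · intro y hy
    refine Subgroup.mem_centralizer_iff.2 fun s hs => hι ?_
    rw [map_mul, map_mul]
    exact Subgroup.mem_centralizer_iff.1 (hle (hNN (hEN hy))).1.2 _ ⟨s, hs, rfl⟩
  · intro y hy
    refine Subgroup.mem_centralizer_iff.2 fun s hs => hι ?_
    rw [map_mul, map_mul]
    refine Subgroup.mem_centralizer_iff.1 (hle (hNN hy)).2 _ (Subgroup.mem_centralizer_iff.2 ?_)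
    rintro _ (rfl | rfl)
    · rw [← map_mul, ← map_mul, Subgroup.mem_centralizer_iff.1 hs a₀ haE]
    · rw [← map_mul, ← map_mul, Subgroup.mem_centralizer_iff.1 hs b₀ hbE]
  · exact Subgroup.le_normalizer_comap ι (hNE (hNN
      (Subgroup.commutator_le_self (⁅N, N⁆.comap ι) hx)))

end

end Cfsg.Agent.BHZ.Nil
end

private theorem dce_e89722ea3f38 : _root_.True := by
  try have : _root_.True := by simp only [_root_.Cfsg.Agent.BHZ.Nil.Fk.eq_1]
  try have : _root_.True := by simp only [_root_.Cfsg.Agent.BHZ.Nil.zt.eq_1]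
  try have : _root_.True := by simp only [_root_.Cfsg.Agent.BHZ.Nil.fk.congr_simp]
  try have : _root_.True := by simp only [_root_.Cfsg.Agent.BHZ.Nil.av.eq_1]
  try have : _root_.True := by simp only [_root_.Cfsg.Agent.BHZ.Nil.Fk.congr_simp]
  try have : _root_.True := by simp only [_root_.Cfsg.Agent.BHZ.Nil.cutHom.congr_simp]
  try have : _root_.True := by simp only [_root_.Cfsg.Agent.BHZ.Nil.fk.eq_1]
  exact _root_.True.intro
end

-- part: BHZ/Nil/Cover
section
prune_inst 0x156075450b621208001c859211203cf7df0001b2006b8c01dda60f460e86df6229872f61cda01c12123aaac50031006003080070421000000a000c00011905a188ab52063350ad0436009f803087180c00000000000000000000000000041004200000000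
set_option linter.all false
open scoped Cfsg.Agent.FastGrp

-- part: BHZ/Nil/LocDef
section
/-!
# The local conditions satisfied by a defect group of a nilpotent block
-/

set_option autoImplicit false

namespace Cfsg.Agent.BHZ.Nil

/-- The subgroup generated by the `p`-regular elements of `C(Q)`. -/
def RR (p : ℕ) {X : Type*} [Group X] (Q : Subgroup X) : Subgroup X :=
  Subgroup.closure {y | y ∈ Subgroup.centralizer (Q : Set X) ∧ ¬ p ∣ orderOf y}

/-- The centralizer of `RR p Q`. -/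
def KK (p : ℕ) {X : Type*} [Group X] (Q : Subgroup X) : Subgroup X :=
  Subgroup.centralizer (RR p Q : Set X)

/-- The local conditions. -/
structure Loc (p : ℕ) (X : Type*) [Group X] (D : Subgroup X) : Prop where
  pg : IsPGroup p D
  syl : ∀ P : Subgroup X, IsPGroup p P → D ≤ P → P ≤ KK p D → P = D
  rad : ∀ P : Subgroup X, IsPGroup p P → D ≤ P →
    Subgroup.normalizer (D : Set X) ≤ Subgroup.normalizer (P : Set X) →
    P ≤ Subgroup.normalizer (D : Set X) → P = D
  fus : ∀ Q ≤ D, ∀ x ∈ Subgroup.normalizer (Q : Set X), x ∈ ⁅KK p Q, KK p Q⁆ →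
    ¬ p ∣ orderOf x → x ∈ Subgroup.centralizer (Q : Set X)

end Cfsg.Agent.BHZ.Nil
end

-- part: BHZ/Nil/Central
section
/-!
# Central extensions with arbitrary central kernel
-/

set_option autoImplicit false
set_option linter.unusedSectionVars false

namespace Cfsg.Agent.BHZ.Nil

open scoped commutatorElement

variable {p : ℕ} [hp : Fact p.Prime] {G X : Type*} [Group G] [Group X] {π : G →* X}

theorem cent_comm (hc : π.ker ≤ Subgroup.center G) {z : G} (hz : π z = 1) (g : G) :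
    g * z = z * g :=
  Subgroup.mem_center_iff.1 (hc (MonoidHom.mem_ker.2 hz)) g

theorem cent_conj_pow (hc : π.ker ≤ Subgroup.center G) {a b : G} (hab : π a * π b = π b * π a)
    (n : ℕ) : a ^ n * b * (a ^ n)⁻¹ = ⁅a, b⁆ ^ n * b := by
  have hc := cent_comm hc (CentPP.comm_ker hab)
  have h1 : a * b * a⁻¹ = ⁅a, b⁆ * b := by rw [commutatorElement_def]; group
  induction n with
  | zero => simp
  | succ n ih =>
    have hcn : a * ⁅a, b⁆ ^ n = ⁅a, b⁆ ^ n * a :=
      (Commute.pow_right (show Commute a ⁅a, b⁆ from hc a) n).eq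
    calc a ^ (n + 1) * b * (a ^ (n + 1))⁻¹ = a * (a ^ n * b * (a ^ n)⁻¹) * a⁻¹ := by
          rw [pow_succ']; group
      _ = (a * ⁅a, b⁆ ^ n) * b * a⁻¹ := by rw [ih]; group
      _ = ⁅a, b⁆ ^ n * (a * b * a⁻¹) := by rw [hcn]; group
      _ = ⁅a, b⁆ ^ (n + 1) * b := by rw [h1, pow_succ]; group

theorem cent_comm_pow (hc : π.ker ≤ Subgroup.center G) {a b : G} (hab : π a * π b = π b * π a)
    {n : ℕ} (ha : a ^ n = 1) : ⁅a, b⁆ ^ n = 1 := by
  have h1 := cent_conj_pow hc hab n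
  rw [ha] at h1
  have : ⁅a, b⁆ ^ n * b = 1 * b := by rw [← h1]; simp
  exact mul_right_cancel this

/-- A `p`-element and a `p`-regular element commuting modulo a central subgroup commute. -/
theorem comm_of_coprime (hc : π.ker ≤ Subgroup.center G) {a b : G} {n : ℕ} (ha : a ^ p ^ n = 1)
    (hb : ¬ p ∣ orderOf b) (hab : π a * π b = π b * π a) : a * b = b * a := by
  have h1 := cent_comm_pow hc hab ha
  have h2 := cent_comm_pow hc hab.symm (pow_orderOf_eq_one b)
  rw [← commutatorElement_inv, inv_pow, inv_eq_one] at h2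
  have h3 : (p ^ n).Coprime (orderOf b) :=
    Nat.Coprime.pow_left _ ((Nat.Prime.coprime_iff_not_dvd hp.out).2 hb)
  rw [← commutatorElement_eq_one_iff_mul_comm, ← orderOf_eq_one_iff]
  exact Nat.eq_one_of_dvd_coprimes h3 (orderOf_dvd_of_pow_eq_one h1) (orderOf_dvd_of_pow_eq_one h2)

/-- `p`-regular elements lift to `p`-regular powers of any preimage. -/
theorem exists_reg_lift [Finite G] (g : G) (h : ¬ p ∣ orderOf (π g)) :
    ∃ n : ℕ, ¬ p ∣ orderOf (g ^ n) ∧ π (g ^ n) = π g := by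
  obtain ⟨k, hk⟩ := exists_reg_pow (p := p) g
  obtain ⟨m, hm⟩ := exists_pow_eq_self_of_coprime (x := π g) (n := p ^ k)
    (Nat.Coprime.pow_left _ ((Nat.Prime.coprime_iff_not_dvd hp.out).2 h))
  refine ⟨p ^ k * m, fun hd => hk (hd.trans ?_), ?_⟩
  · rw [pow_mul]
    exact orderOf_pow_dvd m
  · rw [pow_mul, map_pow, map_pow, hm]

/-- `p`-elements lift to `p`-elements. -/
theorem exists_pelt_lift [Finite G] (g : G) {k : ℕ} (h : π g ^ p ^ k = 1) :
    ∃ n l : ℕ, (g ^ n) ^ p ^ l = 1 ∧ π (g ^ n) = π g := by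
  obtain ⟨l, m, hm, hlm⟩ := Nat.exists_eq_pow_mul_and_not_dvd (orderOf_pos g).ne' p hp.out.ne_one
  obtain ⟨j, -, hj⟩ := (Nat.dvd_prime_pow hp.out).1 (orderOf_dvd_of_pow_eq_one h)
  obtain ⟨r, hr⟩ := exists_pow_eq_self_of_coprime (x := π g) (n := m) (by
    rw [hj]
    exact Nat.Coprime.pow_right _ ((Nat.Prime.coprime_iff_not_dvd hp.out).2 hm).symm)
  refine ⟨m * r, l, ?_, by rw [pow_mul, map_pow, map_pow, hr]⟩
  rw [← pow_mul, show m * r * p ^ l = p ^ l * m * r by ring, ← hlm, pow_mul, pow_orderOf_eq_one,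
    one_pow]

/-- `P` contains the `p`-elements of the kernel. -/
def Sat (p : ℕ) (π : G →* X) (P : Subgroup G) : Prop :=
  ∀ z : G, π z = 1 → ∀ n : ℕ, z ^ p ^ n = 1 → z ∈ P

theorem Sat.mono {P Q : Subgroup G} (h : Sat p π P) (hPQ : P ≤ Q) : Sat p π Q :=
  fun z hz n hn => hPQ (h z hz n hn)

theorem Sat.mem_of_pelt (hc : π.ker ≤ Subgroup.center G) {P : Subgroup G} (h : Sat p π P)
    (hP : IsPGroup p P) {a : G} {n : ℕ} (ha : a ^ p ^ n = 1) (hm : π a ∈ P.map π) : a ∈ P := by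
  obtain ⟨k, hk, hka⟩ := hm
  obtain ⟨m, hm⟩ := hP ⟨k, hk⟩
  have hm' : k ^ p ^ m = 1 := congrArg Subtype.val hm
  have hz : π (k⁻¹ * a) = 1 := by rw [map_mul, map_inv, hka, inv_mul_cancel]
  have hc' : Commute k⁻¹ a := by
    have h1 := cent_comm hc hz k
    have h2 : k * a = a * k := by
      have h3 : k * (k⁻¹ * a) = a := by group
      rw [h3] at h1
      calc k * a = k * (k⁻¹ * a * k) := by rw [← h1]
        _ = a * k := by group
    exact Commute.inv_left h2
  have h1 : (k⁻¹ * a) ^ p ^ (n + m) = 1 := by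
    rw [hc'.mul_pow, inv_pow, pow_add, mul_comm (p ^ n), pow_mul k, hm', one_pow, mul_comm (p ^ m),
      pow_mul, ha, one_pow, inv_one, one_mul]
  have h2 := mul_mem hk (h _ hz _ h1)
  rwa [mul_inv_cancel_left] at h2

theorem Sat.le_of_map_le (hc : π.ker ≤ Subgroup.center G) {P Q : Subgroup G} (h : Sat p π P)
    (hP : IsPGroup p P) (hQ : IsPGroup p Q) (hle : Q.map π ≤ P.map π) : Q ≤ P := by
  intro a ha
  obtain ⟨n, hn⟩ := hQ ⟨a, ha⟩
  exact h.mem_of_pelt hc hP (congrArg Subtype.val hn) (hle ⟨a, ha, rfl⟩)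

theorem Sat.mem_normalizer [Finite G] (hc : π.ker ≤ Subgroup.center G) {P : Subgroup G}
    (h : Sat p π P) (hP : IsPGroup p P) {x : G}
    (hx : π x ∈ Subgroup.normalizer ((P.map π : Subgroup X) : Set X)) :
    x ∈ Subgroup.normalizer (P : Set G) := by
  refine Subgroup.mem_normalizer_fintype fun k hk => ?_
  obtain ⟨n, hn⟩ := hP ⟨k, hk⟩
  have hn' : k ^ p ^ n = 1 := congrArg Subtype.val hn
  refine h.mem_of_pelt hc hP (n := n) ?_ ?_
  · rw [_root_.conj_pow, hn']; group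
  · rw [map_mul, map_mul, map_inv]
    exact (Subgroup.mem_normalizer_iff.1 hx (π k)).1 ⟨k, hk, rfl⟩

/-- A `p`-regular element centralizing the image of a `p`-subgroup centralizes it. -/
theorem mem_centralizer_of_reg (hc : π.ker ≤ Subgroup.center G) {P : Subgroup G}
    (hP : IsPGroup p P) {x : G} (hr : ¬ p ∣ orderOf x)
    (hx : π x ∈ Subgroup.centralizer ((P.map π : Subgroup X) : Set X)) :
    x ∈ Subgroup.centralizer (P : Set G) := by
  refine Subgroup.mem_centralizer_iff.2 fun k hk => ?_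
  obtain ⟨n, hn⟩ := hP ⟨k, hk⟩
  exact comm_of_coprime hc (congrArg Subtype.val hn) hr
    (Subgroup.mem_centralizer_iff.1 hx (π k) ⟨k, hk, rfl⟩)

/-- The `p`-elements of a central kernel. -/
def pker (p : ℕ) (hc : π.ker ≤ Subgroup.center G) : Subgroup G where
  carrier := {z | π z = 1 ∧ ∃ n : ℕ, z ^ p ^ n = 1}
  mul_mem' := by
    rintro a b ⟨ha, n, hn⟩ ⟨hb, m, hm⟩
    refine ⟨by rw [map_mul, ha, hb, one_mul], n + m, ?_⟩
    rw [Commute.mul_pow (cent_comm hc hb a), pow_add, pow_mul a, hn, one_pow, mul_comm (p ^ n),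
      pow_mul, hm, one_pow, one_mul]
  one_mem' := ⟨map_one π, 0, by simp⟩
  inv_mem' := by
    rintro a ⟨ha, n, hn⟩
    exact ⟨by rw [map_inv, ha, inv_one], n, by rw [inv_pow, hn, inv_one]⟩

/-- The full lift of a `p`-subgroup. -/
theorem exists_sat_lift [Finite G] (hπ : Function.Surjective π) (hc : π.ker ≤ Subgroup.center G)
    {P : Subgroup X} (hP : IsPGroup p P) :
    ∃ P' : Subgroup G, IsPGroup p P' ∧ Sat p π P' ∧ P'.map π = P := by
  obtain ⟨P', h1, h2, h3⟩ := exists_lift_pgroup (D := pker p hc) hπ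
    (fun ⟨_, _, n, hn⟩ => ⟨n, Subtype.ext hn⟩) hP (by
      rintro _ ⟨z, hz, rfl⟩
      rw [hz.1]
      exact one_mem _)
  exact ⟨P', h1, fun z hz n hn => h2 ⟨hz, n, hn⟩, h3⟩

/-- If the image of `K` centralizes the image of `y`, then `⁅K, K⁆` centralizes `y`. -/
theorem cent_commutator_le (hc : π.ker ≤ Subgroup.center G) {K : Subgroup G} {y : G}
    (hK : ∀ k ∈ K, π k * π y = π y * π k) : ⁅K, K⁆ ≤ Subgroup.centralizer ({y} : Set G) := by
  let f : K →* Subgroup.center G :=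
    { toFun := fun k => ⟨⁅(k : G), y⁆, hc (CentPP.comm_ker (hK k k.2))⟩
      map_one' := Subtype.ext (by simp)
      map_mul' := fun a b => Subtype.ext (by
        have h1 := cent_comm hc (CentPP.comm_ker (hK b b.2)) a
        change ⁅(a : G) * b, y⁆ = ⁅(a : G), y⁆ * ⁅(b : G), y⁆
        calc ⁅(a : G) * b, y⁆ = (a * ⁅(b : G), y⁆) * (y * (a : G)⁻¹ * y⁻¹) := by
              simp only [commutatorElement_def]; group
          _ = ⁅(b : G), y⁆ * ⁅(a : G), y⁆ := by
              rw [h1, commutatorElement_def (a : G)]; group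
          _ = _ := (cent_comm hc (CentPP.comm_ker (hK b b.2)) _).symm) }
  refine Subgroup.commutator_le.2 fun a ha b hb => ?_
  have h1 : f ⁅(⟨a, ha⟩ : K), ⟨b, hb⟩⁆ = 1 := by
    rw [map_commutatorElement, commutatorElement_eq_one_iff_mul_comm]
    exact Subtype.ext (Subgroup.mem_center_iff.1 (f _).2 _)
  have h2 : ⁅⁅a, b⁆, y⁆ = 1 := congrArg Subtype.val h1
  exact Subgroup.mem_centralizer_singleton_iff.2 (commutatorElement_eq_one_iff_mul_comm.1 h2)

end Cfsg.Agent.BHZ.Nil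
end

-- part: BHZ/Nil/LocBasic
section
/-!
# `Loc`: lifting along central extensions, fusion for all `p`-subgroups of `K(D)`
-/

set_option autoImplicit false
set_option linter.unusedSectionVars false

namespace Cfsg.Agent.BHZ.Nil

open scoped commutatorElement

variable {p : ℕ} [hp : Fact p.Prime] {Y X : Type*} [Group Y] [Group X]

theorem mem_KK_iff {Q : Subgroup X} {x : X} : x ∈ KK p Q ↔
    ∀ y ∈ Subgroup.centralizer (Q : Set X), ¬ p ∣ orderOf y → y * x = x * y := by
  rw [KK, RR, Subgroup.centralizer_closure, Subgroup.mem_centralizer_iff]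
  exact ⟨fun h y h1 h2 => h y ⟨h1, h2⟩, fun h y hy => h y hy.1 hy.2⟩

theorem bicent_le_KK (Q : Subgroup X) :
    Subgroup.centralizer (Subgroup.centralizer (Q : Set X) : Set X) ≤ KK p Q := fun _ hx =>
  mem_KK_iff.2 fun y hy _ => Subgroup.mem_centralizer_iff.1 hx y hy

theorem self_le_KK (Q : Subgroup X) : Q ≤ KK p Q := fun x hx =>
  mem_KK_iff.2 fun _ hy _ => (Subgroup.mem_centralizer_iff.1 hy x hx).symm

theorem KK_mono' {Q P : Subgroup X} (h : Q ≤ P) : KK p Q ≤ KK p P := fun _ hx =>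
  mem_KK_iff.2 fun y hy hr => mem_KK_iff.1 hx y (Subgroup.centralizer_le h hy) hr

theorem map_mem_KK [Finite Y] {ρ : Y →* X} (hρ : Function.Surjective ρ)
    (hc : ρ.ker ≤ Subgroup.center Y) {Q : Subgroup Y} (hQ : IsPGroup p Q) {x : Y}
    (hx : x ∈ KK p Q) : ρ x ∈ KK p (Q.map ρ) := by
  refine mem_KK_iff.2 fun y hy hr => ?_
  obtain ⟨g, rfl⟩ := hρ y
  obtain ⟨n, hn, hgn⟩ := exists_reg_lift g hr
  rw [← hgn] at hy ⊢
  rw [← map_mul, ← map_mul, mem_KK_iff.1 hx _ (mem_centralizer_of_reg hc hQ hn hy) hn]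

/-- `Loc` lifts along central extensions. -/
theorem Loc.lift_sat [Finite Y] {ρ : Y →* X} (hρ : Function.Surjective ρ)
    (hc : ρ.ker ≤ Subgroup.center Y) {D : Subgroup Y} (hD : IsPGroup p D) (hs : Sat p ρ D)
    (h : Loc p X (D.map ρ)) : Loc p Y D where
  pg := hD
  syl P hP hle hK := by
    have h1 := h.syl (P.map ρ) (hP.map ρ) (Subgroup.map_mono hle) (by
      rintro _ ⟨x, hx, rfl⟩
      exact map_mem_KK hρ hc hD (hK hx))
    exact le_antisymm (hs.le_of_map_le hc hD hP h1.le) hle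
  rad P hP hle h1 h2 := by
    have h3 := h.rad (P.map ρ) (hP.map ρ) (Subgroup.map_mono hle) (by
      intro x hx
      obtain ⟨g, rfl⟩ := hρ x
      exact map_mem_normalizer (h1 (hs.mem_normalizer hc hD hx))) (by
      rintro _ ⟨x, hx, rfl⟩
      exact map_mem_normalizer (h2 hx))
    exact le_antisymm (hs.le_of_map_le hc hD hP h3.le) hle
  fus Q hQ x hx hxK hr := by
    have hQp : IsPGroup p Q := hD.to_le hQ
    refine mem_centralizer_of_reg hc hQp hr (h.fus _ (Subgroup.map_mono hQ) _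
      (map_mem_normalizer hx) ?_ (reg_map hr))
    have h1 : (KK p Q).map ρ ≤ KK p (Q.map ρ) := by
      rintro _ ⟨k, hk, rfl⟩
      exact map_mem_KK hρ hc hQp hk
    refine Subgroup.commutator_mono h1 h1 ?_
    rw [← Subgroup.map_commutator]
    exact ⟨x, hxK, rfl⟩

theorem Loc.lift [Finite Y] {ρ : Y →* X} (hρ : Function.Surjective ρ)
    (hc : ρ.ker ≤ Subgroup.center Y) {D : Subgroup X} (h : Loc p X D) :
    ∃ D' : Subgroup Y, Loc p Y D' ∧ Sat p ρ D' ∧ D'.map ρ = D := by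
  obtain ⟨D', h1, h2, rfl⟩ := exists_sat_lift hρ hc h.pg
  exact ⟨D', Loc.lift_sat hρ hc h1 h2 h, h2, rfl⟩

theorem ker_le_center_of_injective {ρ : Y →* X} (h : Function.Injective ρ) :
    ρ.ker ≤ Subgroup.center Y := by
  rw [(MonoidHom.ker_eq_bot_iff ρ).2 h]
  exact bot_le

/-- Transport along an isomorphism. -/
theorem Loc.map_equiv [Finite X] (e : X ≃* Y) {D : Subgroup X} (h : Loc p X D) :
    Loc p Y (D.map e.toMonoidHom) := by
  have : Finite Y := Finite.of_equiv X e.toEquiv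
  refine Loc.lift_sat (ρ := e.symm.toMonoidHom) e.symm.surjective
    (ker_le_center_of_injective e.symm.injective) (h.pg.map _) ?_ ?_
  · intro z hz _ _
    rw [show z = 1 from e.symm.injective (hz.trans (map_one _).symm)]
    exact one_mem _
  · rw [Subgroup.map_map]
    have : e.symm.toMonoidHom.comp e.toMonoidHom = MonoidHom.id X := by
      ext x; simp
    rwa [this, Subgroup.map_id]

/-- Every `p`-subgroup of `K(D)` is conjugate into `D` by an element of `K(D)`. -/
theorem Loc.exists_conj_le [Finite X] {D : Subgroup X} (h : Loc p X D) {Q : Subgroup X}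
    (hQ : IsPGroup p Q) (hle : Q ≤ KK p D) :
    ∃ g ∈ KK p D, Q.map (MulAut.conj g).toMonoidHom ≤ D := by
  obtain ⟨S, hS⟩ := (h.pg.comap_subtype (K := KK p D)).exists_le_sylow
  obtain ⟨T, hT⟩ := (hQ.comap_subtype (K := KK p D)).exists_le_sylow
  have h1 : (S : Subgroup (KK p D)).map (KK p D).subtype = D :=
    h.syl _ (S.isPGroup'.map _) (fun d hd => ⟨⟨d, self_le_KK D hd⟩, hS hd, rfl⟩)
      (Subgroup.map_subtype_le _)
  obtain ⟨g, hg⟩ := MulAction.exists_smul_eq (KK p D) T S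
  refine ⟨g, g.2, ?_⟩
  rintro _ ⟨x, hx, rfl⟩
  refine h1.le ⟨g * ⟨x, hle hx⟩ * g⁻¹, ?_, rfl⟩
  rw [← hg]
  exact Subgroup.smul_mem_pointwise_smul _ (MulAut.conj g) _ (hT hx)

/-- The fusion property holds for all `p`-subgroups of `K(D)`. -/
theorem Loc.fus' [Finite X] {D : Subgroup X} (h : Loc p X D) {Q : Subgroup X}
    (hQ : IsPGroup p Q) (hle : Q ≤ KK p D) {x : X} (hx : x ∈ Subgroup.normalizer (Q : Set X))
    (hxK : x ∈ ⁅KK p Q, KK p Q⁆) (hr : ¬ p ∣ orderOf x) : x ∈ Subgroup.centralizer (Q : Set X) := by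
  obtain ⟨g, -, hg⟩ := h.exists_conj_le hQ hle
  let ρ := (MulAut.conj g).toMonoidHom
  have hρ : Function.Surjective ρ := (MulAut.conj g).surjective
  have hc : ρ.ker ≤ Subgroup.center X := ker_le_center_of_injective (MulAut.conj g).injective
  refine mem_centralizer_of_reg hc hQ hr (h.fus _ hg _ (map_mem_normalizer hx) ?_ (reg_map hr))
  have h1 : (KK p Q).map ρ ≤ KK p (Q.map ρ) := by
    rintro _ ⟨k, hk, rfl⟩
    exact map_mem_KK hρ hc hQ hk
  refine Subgroup.commutator_mono h1 h1 ?_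
  rw [← Subgroup.map_commutator]
  exact ⟨x, hxK, rfl⟩

theorem Loc.fusK [Finite X] {D : Subgroup X} (h : Loc p X D) : FusK p D := by
  intro Q K hQ h1 h2 x hx hxK hr
  have h3 := h2.trans (bicent_le_KK (p := p) Q)
  exact h.fus' hQ (h1.trans (bicent_le_KK D)) hx (Subgroup.commutator_mono h3 h3 hxK) hr

/-- The Heisenberg configuration is excluded. -/
theorem Loc.not_heis [Finite X] (hp2 : p ≠ 2) {D : Subgroup X} (h : Loc p X D) {a b z u v : X}
    (hh : Heis p a b z u v) (hE : Subgroup.closure ({a, b} : Set X) ≤ KK p D)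
    (hN : ⁅Subgroup.closure ({a, b, u, v} : Set X), Subgroup.closure ({a, b, u, v} : Set X)⁆ ≤
      KK p (Subgroup.closure ({a, b} : Set X))) : False := by
  obtain ⟨x, hx, hxr, hxa⟩ := hh.exists_reg hp2
  have h1 := h.fus' hh.isPGroup hE (hh.le_normalizer (Subgroup.commutator_le_self _
    (Subgroup.commutator_le_self _ hx))) (Subgroup.commutator_mono hN hN hx) hxr
  exact hxa (Subgroup.mem_centralizer_iff.1 h1 a (Subgroup.subset_closure (by simp))).symm

end Cfsg.Agent.BHZ.Nil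
end

-- part: BHZ/Nil/Cover
section
/-!
# Rows: from `Loc` in the simple group to commutativity in the quasisimple group
-/

set_option autoImplicit false
set_option linter.unusedSectionVars false

namespace Cfsg.Agent.BHZ.Nil

open Cfsg

universe u

/-- `Loc` forces commutativity in `Y`. -/
def LocAb (p : ℕ) (Y : Type*) [Group Y] : Prop := ∀ D : Subgroup Y, Loc p Y D → IsMulCommutative D

/-- The row of the simple group `S`: in every perfect central extension, a `p`-subgroup whose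
image satisfies `Loc` is abelian. -/
def Row (p : ℕ) (S : Type*) [Group S] : Prop :=
  ∀ (G : Type u) [Group G] [Finite G] (σ : G →* S), commutator G = ⊤ → Function.Surjective σ →
    σ.ker ≤ Subgroup.center G → ∀ D : Subgroup G, IsPGroup p D → Loc p S (D.map σ) →
      IsMulCommutative D

variable {p : ℕ} [hp : Fact p.Prime] {S T Y : Type*} [Group S] [Group T] [Group Y]

theorem Row.of_equiv (e : S ≃* T) (h : Row.{u} p T) : Row.{u} p S := by
  intro G _ _ σ hG hσ hc D hD hL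
  have : Finite S := Finite.of_surjective σ hσ
  refine h G (e.toMonoidHom.comp σ) hG (e.surjective.comp hσ) (fun x hx => hc ?_) D hD ?_
  · exact e.injective (hx.trans (map_one e).symm)
  · rw [← Subgroup.map_map]
    exact hL.map_equiv e

theorem isMulCommutative_map {G X : Type*} [Group G] [Group X] (f : G →* X) {D : Subgroup G}
    (h : IsMulCommutative D) : IsMulCommutative (D.map f) := ⟨⟨by
  rintro ⟨_, a, ha, rfl⟩ ⟨_, b, hb, rfl⟩
  apply Subtype.ext
  change f a * f b = f b * f a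
  rw [← map_mul, ← map_mul, show a * b = b * a from
    congrArg Subtype.val (h.1.1 ⟨a, ha⟩ ⟨b, hb⟩)]⟩⟩

theorem LocAb.of_equiv [Finite S] (e : S ≃* T) (h : LocAb p T) : LocAb p S := by
  intro D hD
  have h1 := isMulCommutative_map e.symm.toMonoidHom (h _ (hD.map_equiv e))
  rw [Subgroup.map_map] at h1
  have : e.symm.toMonoidHom.comp e.toMonoidHom = MonoidHom.id S := by
    ext x; simp
  rwa [this, Subgroup.map_id] at h1

theorem LocAb.of_cover [Finite Y] {τ : Y →* S} (hτ : Function.Surjective τ)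
    (hc : τ.ker ≤ Subgroup.center Y) (h : LocAb p Y) : LocAb p S := by
  intro D hD
  obtain ⟨D', h1, -, rfl⟩ := hD.lift hτ hc
  exact isMulCommutative_map τ (h D' h1)

theorem LocAb.quotient_center [Finite Y] (h : LocAb p Y) : LocAb p (Y ⧸ Subgroup.center Y) :=
  h.of_cover (QuotientGroup.mk'_surjective _) (QuotientGroup.ker_mk' _).le

theorem Row.of_cyclic (h : ∀ D : Subgroup S, Loc p S D → IsCyclic D) : Row.{u} p S := by
  intro G _ _ σ _ _ hc D _ hL
  have := h _ hL
  refine (σ.subgroupMap D).isMulCommutative_of_isCyclic_of_ker_le_center fun x hx => ?_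
  have h1 : σ x = 1 := congrArg Subtype.val hx
  exact Subgroup.mem_center_iff.2 fun g => Subtype.ext (cent_comm hc h1 g)

theorem Row.of_mult {A : Type*} [CommGroup A] (hA : HasSchurMultiplier S A)
    (hpA : ¬ p ∣ Nat.card A) (h : LocAb p S) : Row.{u} p S := by
  intro G _ _ σ hG hσ hc D hD hL
  have h1 : CentPP p σ := ⟨hc, fun hd => hpA (hd.trans (H95.StemCover.card_ker_dvd hA hG σ hσ hc))⟩
  have h2 := h _ hL
  refine ⟨⟨fun a b => Subtype.ext ?_⟩⟩
  obtain ⟨n, hn⟩ := hD a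
  exact h1.comm_of_pelt (congrArg Subtype.val hn)
    (congrArg Subtype.val (h2.1.1 ⟨σ a, a, a.2, rfl⟩ ⟨σ b, b, b.2, rfl⟩))

theorem Row.of_cyclic_mult {n : ℕ} (hA : HasCyclicSchurMultiplier S n)
    (hpA : ¬ p ∣ n) (h : LocAb p S) : Row.{u} p S :=
  Row.of_mult hA (by rwa [Nat.card_congr Multiplicative.toAdd, Nat.card_zmod]) h

theorem Row.of_cover [Finite Y] {A : Type*} [CommGroup A] (hA : HasSchurMultiplier S A)
    {τ : Y →* S} (hY : commutator Y = ⊤) (hτ : Function.Surjective τ)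
    (hτc : τ.ker ≤ Subgroup.center Y) (hpA : ¬ p * Nat.card τ.ker ∣ Nat.card A) (h : LocAb p Y) :
    Row.{u} p S := by
  intro G _ _ σ hG hσ hc D hD hL
  have hS : commutator S = ⊤ := by
    have h1 : (commutator G).map σ = ⁅σ.range, σ.range⁆ := map_commutator_eq G σ
    rw [hG, ← MonoidHom.range_eq_map, MonoidHom.range_eq_top.2 hσ] at h1
    rw [commutator_def]; exact h1.symm
  have hst := H95.StemCover.stem_EE hS hτ hσ hτc hc
  have hW := H95.StemCover.commutator_EE hS hτ hσ hτc hc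
  have h1 := H95.StemCover.pΓ_surj hS (H95.StemCover.isStem hY hτ hτc) hσ
  have h2 := H95.StemCover.pP_surj hS hτ (H95.StemCover.isStem hG hσ hc)
  have h3 := H95.StemCover.comp_eq (σ := τ) (π := σ)
  have h4 := H95.StemCover.card_ker_dvd hA hW _ hst.1 hst.2.1
  have hfin : Finite (H95.StemCover.EE τ σ) := inferInstance
  generalize H95.StemCover.pΓ τ σ = f at hst h1 h3 h4
  generalize H95.StemCover.pP τ σ = g at h2 h3
  have hcp : CentPP p f := by
    refine ⟨fun x hx => hst.2.1 ?_, fun hd => hpA ?_⟩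
    · change τ (f x) = 1
      rw [MonoidHom.mem_ker.1 hx, map_one]
    · refine dvd_trans ?_ h4
      have h5 : (τ.comp f).ker = τ.ker.comap f := rfl
      have h6 : Nat.card (τ.comp f).ker * τ.ker.index = Nat.card (H95.StemCover.EE τ σ) := by
        rw [h5, ← Subgroup.index_comap_of_surjective _ h1, Subgroup.card_mul_index]
      have h7 : Nat.card f.ker * Nat.card Y = Nat.card (H95.StemCover.EE τ σ) := by
        rw [← Subgroup.card_mul_index f.ker, Subgroup.index_ker, MonoidHom.range_eq_top.2 h1,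
          Subgroup.card_top]
      have h8 : Nat.card (τ.comp f).ker = Nat.card f.ker * Nat.card τ.ker := by
        apply Nat.eq_of_mul_eq_mul_right (Nat.pos_of_ne_zero τ.ker.index_ne_zero_of_finite)
        rw [h6, mul_assoc, Subgroup.card_mul_index, h7]
      rw [h8]
      exact Nat.mul_dvd_mul_right hd _
  obtain ⟨D', hL', hs, hmap⟩ := hL.lift hτ hτc
  have hcomm := h D' hL'
  have key : ∀ a : D, ∃ w, g w = a ∧ (∃ l : ℕ, w ^ p ^ l = 1) ∧ f w ∈ D' := by
    intro a
    obtain ⟨w, hw⟩ := h2 a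
    obtain ⟨k, hk⟩ := hD a
    obtain ⟨n, l, hn, hl⟩ := exists_pelt_lift (π := g) w (k := k)
      (by rw [hw]; exact congrArg Subtype.val hk)
    refine ⟨w ^ n, hl.trans hw, ⟨l, hn⟩, hs.mem_of_pelt hτc hL'.pg (n := l)
      (by rw [← map_pow, hn, map_one]) ?_⟩
    rw [hmap, h3, hl, hw]
    exact ⟨a, a.2, rfl⟩
  refine ⟨⟨fun a b => Subtype.ext ?_⟩⟩
  obtain ⟨w, hw, ⟨l, hl⟩, hwD⟩ := key a
  obtain ⟨w', hw', -, hwD'⟩ := key b
  have h5 := hcp.comm_of_pelt (b := w') hl (congrArg Subtype.val (hcomm.1.1 ⟨_, hwD⟩ ⟨_, hwD'⟩))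
  change (a : G) * b = b * a
  rw [← hw, ← hw', ← map_mul, h5, map_mul]

theorem Row.of_cover_center [Finite Y] {A : Type*} [CommGroup A]
    (hA : HasSchurMultiplier (Y ⧸ Subgroup.center Y) A) (hY : commutator Y = ⊤)
    (hpA : ¬ p * Nat.card (Subgroup.center Y) ∣ Nat.card A) (h : LocAb p Y) :
    Row.{u} p (Y ⧸ Subgroup.center Y) :=
  Row.of_cover hA hY (QuotientGroup.mk'_surjective _) (QuotientGroup.ker_mk' _).le
    (by rwa [QuotientGroup.ker_mk']) h

end Cfsg.Agent.BHZ.Nil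
end

private theorem dce_fef66ddd62b4 : _root_.True := by
  try have : _root_.True := by simp only [_root_.Cfsg.Agent.BHZ.Nil.RR.eq_1]
  try have : _root_.True := by simp only [_root_.Cfsg.Agent.BHZ.Nil.KK.eq_1]
  exact _root_.True.intro
end

-- part: BHZ/Nil/Iface
section
set_option linter.all false
open scoped Cfsg.Agent.FastGrp

-- part: BHZ/Nil/Block
section
/-!
# A nilpotent block gives `Loc` in every central quotient
-/

set_option autoImplicit false

namespace Cfsg.Agent.BHZ.Nil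

open Cfsg
open scoped commutatorElement

variable {G X : Type*} [Group G] [Group X] [Finite G] {p : ℕ} [hp : Fact p.Prime]
  {M : Ideal AlgInt} {π : G →* X}

theorem sat_defect (hM : IsPModular p M) {B : Set (IrrCharacter G)} (hB : IsPBlock M B)
    {D : Subgroup G} (hD : IsDefectGroup p M B D) (hc : π.ker ≤ Subgroup.center G) :
    Sat p π D := by
  obtain ⟨g, -, hgD, hmax⟩ := exists_reg_defect hM hB hD
  intro z hz n hn
  have hp' : IsPGroup p (D ⊔ Subgroup.zpowers z : Subgroup G) := by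
    refine IsPGroup.to_sup_of_normal_left' (isPGroup_defect hD) (isPGroup_zpowers_of_pow hn) ?_
    rw [Subgroup.zpowers_le]
    exact Subgroup.center_le_normalizer _ (hc hz)
  have hle : D ⊔ Subgroup.zpowers z ≤ Subgroup.centralizer ({g} : Set G) := by
    refine sup_le (fun d hd => ?_) ?_
    · exact Subgroup.mem_centralizer_singleton_iff.2 (Subgroup.mem_centralizer_iff.1 hgD d hd)
    · rw [Subgroup.zpowers_le]
      exact Subgroup.mem_centralizer_singleton_iff.2 (cent_comm hc hz g).symm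
  rw [← hmax _ hp' le_sup_left fun k hk => Subgroup.mem_centralizer_singleton_iff.1 (hle hk)]
  exact Subgroup.mem_sup_right (Subgroup.mem_zpowers z)

theorem cent_syl (hM : IsPModular p M) {B : Set (IrrCharacter G)} (hB : IsPBlock M B)
    {D : Subgroup G} (hD : IsDefectGroup p M B D) (hπ : Function.Surjective π)
    (hc : π.ker ≤ Subgroup.center G) {P : Subgroup X} (hP : IsPGroup p P) (hle : D.map π ≤ P)
    (hK : P ≤ KK p (D.map π)) : P = D.map π := by
  obtain ⟨g, hg, hgD, hmax⟩ := exists_reg_defect hM hB hD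
  obtain ⟨P', hP', hDP', rfl⟩ := exists_lift_pgroup hπ (isPGroup_defect hD) hP hle
  rw [hmax P' hP' hDP' fun k hk => ?_]
  obtain ⟨n, hn⟩ := hP' ⟨k, hk⟩
  have h1 : π k ∈ KK p (D.map π) := hK ⟨k, hk, rfl⟩
  exact comm_of_coprime hc (congrArg Subtype.val hn) hg
    (mem_KK_iff.1 h1 _ (map_mem_centralizer hgD) (reg_map hg)).symm

theorem cent_rad (hM : IsPModular p M) {B : Set (IrrCharacter G)} (hB : IsPBlock M B)
    {D : Subgroup G} (hD : IsDefectGroup p M B D) (hπ : Function.Surjective π)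
    (hc : π.ker ≤ Subgroup.center G) {P : Subgroup X} (hP : IsPGroup p P) (hle : D.map π ≤ P)
    (h1 : Subgroup.normalizer ((D.map π : Subgroup X) : Set X) ≤ Subgroup.normalizer (P : Set X))
    (h2 : P ≤ Subgroup.normalizer ((D.map π : Subgroup X) : Set X)) : P = D.map π := by
  have hs := sat_defect hM hB hD hc
  obtain ⟨P', hP', hDP', rfl⟩ := exists_lift_pgroup hπ (isPGroup_defect hD) hP hle
  have h3 : P' ≤ D := defect_rad hM hB hD hP'
    (fun x hx => (hs.mono hDP').mem_normalizer hc hP' (h1 (map_mem_normalizer hx)))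
    (fun x hx => hs.mem_normalizer hc (isPGroup_defect hD) (h2 ⟨x, hx, rfl⟩))
  rw [le_antisymm h3 hDP']

theorem cent_fus (hM : IsPModular p M) {B : Set (IrrCharacter G)} (hB : IsNilpotentBlock p M B)
    {D : Subgroup G} (hD : IsDefectGroup p M B D) (hπ : Function.Surjective π)
    (hc : π.ker ≤ Subgroup.center G) {Q : Subgroup X} (hQ : Q ≤ D.map π)
    {x : X} (hx : x ∈ Subgroup.normalizer (Q : Set X)) (hxK : x ∈ ⁅KK p Q, KK p Q⁆)
    (hr : ¬ p ∣ orderOf x) : x ∈ Subgroup.centralizer (Q : Set X) := by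
  have hs := sat_defect hM hB.1 hD hc
  have hQ' : (D ⊓ Q.comap π).map π = Q := by
    apply le_antisymm
    · rintro _ ⟨a, ha, rfl⟩
      exact ha.2
    · intro y hy
      obtain ⟨a, ha, rfl⟩ := hQ hy
      exact ⟨a, ⟨ha, hy⟩, rfl⟩
  have hQp : IsPGroup p (D ⊓ Q.comap π : Subgroup G) := (isPGroup_defect hD).to_inf_left
  have hQs : Sat p π (D ⊓ Q.comap π) := fun z hz n hn =>
    ⟨hs z hz n hn, Subgroup.mem_comap.2 (hz ▸ one_mem Q)⟩
  generalize hQ0 : D ⊓ Q.comap π = Q0 at hQ' hQp hQs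
  have hQ0D : Q0 ≤ D := hQ0 ▸ inf_le_left
  subst hQ'
  rw [← Subgroup.map_comap_eq_self_of_surjective hπ (KK p _), ← Subgroup.map_commutator] at hxK
  obtain ⟨x, hxK, rfl⟩ := hxK
  obtain ⟨n, hn, hxn⟩ := exists_reg_lift x hr
  rw [← hxn] at hx ⊢
  refine map_mem_centralizer (mem_centralizer_of_nilpotent hM hB hD hQ0D
    (hQs.mem_normalizer hc hQp hx) hn fun y hy hyr => ?_)
  have h1 : ∀ k ∈ (KK p (Q0.map π)).comap π, π k * π y = π y * π k := fun k hk =>
    (mem_KK_iff.1 (Subgroup.mem_comap.1 hk) _ (map_mem_centralizer hy) (reg_map hyr)).symm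
  exact Subgroup.mem_centralizer_singleton_iff.1 (cent_commutator_le hc h1 (pow_mem hxK n))

/-- The local conditions hold in every central quotient. -/
theorem loc_of_nilpotent (hM : IsPModular p M) {B : Set (IrrCharacter G)}
    (hB : IsNilpotentBlock p M B) {D : Subgroup G} (hD : IsDefectGroup p M B D)
    (hπ : Function.Surjective π) (hc : π.ker ≤ Subgroup.center G) : Loc p X (D.map π) :=
  ⟨(isPGroup_defect hD).map π, fun _ => cent_syl hM hB.1 hD hπ hc,
    fun _ => cent_rad hM hB.1 hD hπ hc, fun _ hQ _ => cent_fus hM hB hD hπ hc hQ⟩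

end Cfsg.Agent.BHZ.Nil
end

-- part: BHZ/Nil/Iface
section
/-!
# S4806 (nilpotent blocks of quasisimple groups, `p` odd): the interface

* `BRow p S` : the statement for all perfect central extensions of `S` (block level);
* `Row.brow` : `Row p S` (file `Cover`) gives `BRow p S`;
* `RowFor C` : `BRow p S` for the simple groups `S` with `C p S`;
* `Rows`, `Rows.main` : the assembly over the known simple groups.
-/

set_option autoImplicit false

namespace Cfsg.Agent.BHZ.Nil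

open Cfsg

universe u

/-- The statement for the perfect central extensions of `S`. -/
def BRow (p : ℕ) (S : Type*) [Group S] : Prop :=
  ∀ (G : Type u) [Group G] [Finite G] (σ : G →* S), commutator G = ⊤ → Function.Surjective σ →
    σ.ker ≤ Subgroup.center G → ∀ M : Ideal AlgInt, IsPModular p M → ∀ B : Set (IrrCharacter G),
      IsNilpotentBlock p M B → ∀ D : Subgroup G, IsDefectGroup p M B D → IsMulCommutative D

theorem Row.brow {p : ℕ} [Fact p.Prime] {S : Type*} [Group S] (h : Row.{u} p S) : BRow.{u} p S :=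
  fun G _ _ σ hG hσ hc _ hM _ hB D hD =>
    h G σ hG hσ hc D (isPGroup_defect hD) (loc_of_nilpotent hM hB hD hσ hc)

theorem BRow.of_equiv {p : ℕ} {S T : Type*} [Group S] [Group T] (e : S ≃* T) (h : BRow.{u} p T) :
    BRow.{u} p S := fun G _ _ σ hG hσ hc =>
  h G (e.toMonoidHom.comp σ) hG (e.surjective.comp hσ)
    (fun _ hx => hc (e.injective (hx.trans (map_one e).symm)))

/-- the statement for the nonabelian simple groups with the property `C p` -/
def RowFor (C : ℕ → ∀ (S : Type) [Group S], Prop) : Prop :=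
  ∀ (p : ℕ) [Fact p.Prime], p ≠ 2 → ∀ (S : Type) [Group S] [Finite S] [IsSimpleGroup S],
    ¬ IsMulCommutative S → C p S → BRow.{u} p S

/-- the rows; all the rows of Lie type except `lie` are in cross characteristic -/
structure Rows : Prop where
  alt : RowFor.{u} (fun _ S _ => IsAlternating S)
  lie : RowFor.{u} (fun p S _ => IsLieTypeChar p S)
  psl : RowFor.{u} (fun p S _ => ∃ (F : Type) (_ : Field F) (_ : Fintype F) (n : ℕ), (p : F) ≠ 0 ∧
    2 ≤ n ∧ (n = 2 → 4 ≤ Fintype.card F) ∧ Nonempty (S ≃* Matrix.ProjectiveSpecialLinearGroup (Fin n) F))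
  psp : RowFor.{u} (fun p S _ => ∃ (F : Type) (_ : Field F) (_ : Fintype F) (m : ℕ), (p : F) ≠ 0 ∧
    2 ≤ m ∧ (m = 2 → 3 ≤ Fintype.card F) ∧ Nonempty (S ≃* PSp m F))
  psu : RowFor.{u} (fun p S _ => ∃ (F : Type) (_ : Field F) (_ : Fintype F) (n q : ℕ), (p : F) ≠ 0 ∧
    Fintype.card F = q ^ 2 ∧ 3 ≤ n ∧ ¬ (n = 3 ∧ q = 2) ∧ Nonempty (S ≃* PSU n F q))
  oodd : RowFor.{u} (fun p S _ => ∃ (F : Type) (_ : Field F) (_ : Fintype F) (m : ℕ), (p : F) ≠ 0 ∧
    3 ≤ m ∧ Odd (Fintype.card F) ∧ Nonempty (S ≃* POmega F (quadFormOdd m F)))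
  oplus : RowFor.{u} (fun p S _ => ∃ (F : Type) (_ : Field F) (_ : Fintype F) (m : ℕ), (p : F) ≠ 0 ∧
    4 ≤ m ∧ Nonempty (S ≃* POmega F (quadFormPlus m F)))
  ominus : RowFor.{u} (fun p S _ => ∃ (F : Type) (_ : Field F) (_ : Fintype F) (m : ℕ) (a b : F),
    (p : F) ≠ 0 ∧ 4 ≤ m ∧ (∀ z₁ z₂ : F, z₁ ^ 2 + a * z₁ * z₂ + b * z₂ ^ 2 = 0 → z₁ = 0 ∧ z₂ = 0) ∧
    Nonempty (S ≃* POmega F (quadFormMinus (m - 1) F a b)))
  g2 : RowFor.{u} (fun p S _ => ∃ (F : Type) (_ : Field F) (_ : Fintype F), (p : F) ≠ 0 ∧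
    3 ≤ Fintype.card F ∧ Nonempty (S ≃* Lie.chevG2.group F))
  f4 : RowFor.{u} (fun p S _ => ∃ (F : Type) (_ : Field F) (_ : Fintype F), (p : F) ≠ 0 ∧
    Nonempty (S ≃* Lie.chevF4.group F))
  e6 : RowFor.{u} (fun p S _ => ∃ (F : Type) (_ : Field F) (_ : Fintype F), (p : F) ≠ 0 ∧
    Nonempty (S ≃* Lie.chevE6.group F))
  e7 : RowFor.{u} (fun p S _ => ∃ (F : Type) (_ : Field F) (_ : Fintype F), (p : F) ≠ 0 ∧
    Nonempty (S ≃* Lie.chevE7.group F))
  e8 : RowFor.{u} (fun p S _ => ∃ (F : Type) (_ : Field F) (_ : Fintype F), (p : F) ≠ 0 ∧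
    Nonempty (S ≃* Lie.chevE8.group F))
  te6 : RowFor.{u} (fun p S _ => ∃ (K : Type) (_ : Field K) (_ : Fintype K) (q : ℕ), (p : K) ≠ 0 ∧
    IsPrimePow q ∧ Fintype.card K = q ^ 2 ∧ Nonempty (S ≃* Lie.twistedE6 K q))
  td4 : RowFor.{u} (fun p S _ => ∃ (K : Type) (_ : Field K) (_ : Fintype K) (q : ℕ), (p : K) ≠ 0 ∧
    IsPrimePow q ∧ Fintype.card K = q ^ 3 ∧ Nonempty (S ≃* Lie.twistedD4 K q))
  sz : RowFor.{u} (fun _ S _ => Lie.IsoSuzuki S)
  ree : RowFor.{u} (fun p S _ => p ≠ 3 ∧ Lie.IsoRee S)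
  tf4 : RowFor.{u} (fun _ S _ => Lie.Iso2F4 S)
  tits : RowFor.{u} (fun _ S _ => Lie.IsoTits S)
  spor : RowFor.{u} (fun _ S _ => IsSporadicGroup S)

theorem charP_of_cast {p : ℕ} [Fact p.Prime] {F : Type*} [Field F] (h : (p : F) = 0) : CharP F p :=
  (CharP.charP_iff_prime_eq_zero Fact.out).2 h

/-- the assembly over the known simple groups -/
theorem Rows.known (R : Rows.{u}) : RowFor.{u} (fun _ S _ => IsKnownSimple' S) := by
  intro p _ hp S _ _ _ hS hC
  have lie : IsLieTypeChar p S → BRow.{u} p S := fun h => R.lie p hp S hS h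
  have exc : IsExceptionalChevChar p S → BRow.{u} p S := fun h =>
    lie (Or.inr (Or.inr (Or.inr (Or.inr (Or.inr (Or.inr (Or.inl h)))))))
  have tw : IsTwistedE6D4Char p S → BRow.{u} p S := fun h =>
    lie (Or.inr (Or.inr (Or.inr (Or.inr (Or.inr (Or.inr (Or.inr (Or.inl h))))))))
  rcases hC with h | h | h | h | h | h | h | h | h | h
  · exfalso
    apply hS
    have : Fact (Nat.card S).Prime := ⟨h⟩
    have := isCyclic_of_prime_card (p := Nat.card S) (α := S) rfl
    exact ⟨⟨fun a b => (IsCyclic.commGroup (α := S)).mul_comm a b⟩⟩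
  · exact R.alt p hp S hS h
  · obtain ⟨F, iF, iN, n, hn, hn2, he⟩ := h
    by_cases hF : (p : F) = 0
    · exact lie (Or.inl ⟨F, iF, iN, charP_of_cast hF, n, hn, hn2, he⟩)
    · exact R.psl p hp S hS ⟨F, iF, iN, n, hF, hn, hn2, he⟩
  · obtain ⟨F, iF, iN, n, hn, hn2, he⟩ := h
    by_cases hF : (p : F) = 0
    · exact lie (Or.inr (Or.inl ⟨F, iF, iN, charP_of_cast hF, n, hn, hn2, he⟩))
    · exact R.psp p hp S hS ⟨F, iF, iN, n, hF, hn, hn2, he⟩
  · obtain ⟨F, iF, iN, n, q, hq, hn, hn2, he⟩ := h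
    by_cases hF : (p : F) = 0
    · exact lie (Or.inr (Or.inr (Or.inl ⟨F, iF, iN, charP_of_cast hF, n, q, hq, hn, hn2, he⟩)))
    · exact R.psu p hp S hS ⟨F, iF, iN, n, q, hF, hq, hn, hn2, he⟩
  · obtain ⟨F, iF, iN, m, hm, hodd, he⟩ := h
    by_cases hF : (p : F) = 0
    · exact lie (Or.inr (Or.inr (Or.inr (Or.inl ⟨F, iF, iN, charP_of_cast hF, m, hm, hodd, he⟩))))
    · exact R.oodd p hp S hS ⟨F, iF, iN, m, hF, hm, hodd, he⟩
  · obtain ⟨F, iF, iN, m, hm, he⟩ := h
    by_cases hF : (p : F) = 0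
    · exact lie (Or.inr (Or.inr (Or.inr (Or.inr (Or.inl ⟨F, iF, iN, charP_of_cast hF, m, hm, he⟩)))))
    · exact R.oplus p hp S hS ⟨F, iF, iN, m, hF, hm, he⟩
  · obtain ⟨F, iF, iN, m, a, b, hm, hab, he⟩ := h
    by_cases hF : (p : F) = 0
    · exact lie (Or.inr (Or.inr (Or.inr (Or.inr (Or.inr (Or.inl
        ⟨F, iF, iN, charP_of_cast hF, m, a, b, hm, hab, he⟩))))))
    · exact R.ominus p hp S hS ⟨F, iF, iN, m, a, b, hF, hm, hab, he⟩
  · rcases h with h | h | h | h | h | h | h | h | h | h | h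
    · obtain ⟨F, iF, iN, h3, he⟩ := h
      by_cases hF : (p : F) = 0
      · exact exc ⟨F, iF, iN, charP_of_cast hF, Or.inl ⟨h3, he⟩⟩
      · exact R.g2 p hp S hS ⟨F, iF, iN, hF, h3, he⟩
    · obtain ⟨F, iF, iN, he⟩ := h
      by_cases hF : (p : F) = 0
      · exact exc ⟨F, iF, iN, charP_of_cast hF, Or.inr (Or.inl he)⟩
      · exact R.f4 p hp S hS ⟨F, iF, iN, hF, he⟩
    · obtain ⟨F, iF, iN, he⟩ := h
      by_cases hF : (p : F) = 0
      · exact exc ⟨F, iF, iN, charP_of_cast hF, Or.inr (Or.inr (Or.inl he))⟩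
      · exact R.e6 p hp S hS ⟨F, iF, iN, hF, he⟩
    · obtain ⟨F, iF, iN, he⟩ := h
      by_cases hF : (p : F) = 0
      · exact exc ⟨F, iF, iN, charP_of_cast hF, Or.inr (Or.inr (Or.inr (Or.inl he)))⟩
      · exact R.e7 p hp S hS ⟨F, iF, iN, hF, he⟩
    · obtain ⟨F, iF, iN, he⟩ := h
      by_cases hF : (p : F) = 0
      · exact exc ⟨F, iF, iN, charP_of_cast hF, Or.inr (Or.inr (Or.inr (Or.inr he)))⟩
      · exact R.e8 p hp S hS ⟨F, iF, iN, hF, he⟩
    · obtain ⟨K, iF, iN, q, hq, hK, he⟩ := h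
      by_cases hF : (p : K) = 0
      · exact tw ⟨K, iF, iN, charP_of_cast hF, q, hq, Or.inl ⟨hK, he⟩⟩
      · exact R.te6 p hp S hS ⟨K, iF, iN, q, hF, hq, hK, he⟩
    · obtain ⟨K, iF, iN, q, hq, hK, he⟩ := h
      by_cases hF : (p : K) = 0
      · exact tw ⟨K, iF, iN, charP_of_cast hF, q, hq, Or.inr ⟨hK, he⟩⟩
      · exact R.td4 p hp S hS ⟨K, iF, iN, q, hF, hq, hK, he⟩
    · exact R.sz p hp S hS h
    · by_cases hp3 : p = 3
      · exact lie (Or.inr (Or.inr (Or.inr (Or.inr (Or.inr (Or.inr (Or.inr (Or.inr (Or.inr (Or.inr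
          ⟨hp3, h⟩))))))))))
      · exact R.ree p hp S hS ⟨hp3, h⟩
    · exact R.tf4 p hp S hS h
    · exact R.tits p hp S hS h
  · exact R.spor p hp S hS h

/-- **The assembly**: the statement `S4806` from the rows and the classification. -/
theorem Rows.main (R : Rows.{u})
    (cfsg : ∀ (S : Type) [Group S] [Finite S] [IsSimpleGroup S], IsKnownSimple' S)
    {G : Type u} [Group G] [Finite G] (hG : IsQuasisimple G) (p : ℕ) [Fact p.Prime] (hp : p ≠ 2)
    (M : Ideal AlgInt) (hM : IsPModular p M) (B : Set (IrrCharacter G)) (hB : IsNilpotentBlock p M B)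
    (D : Subgroup G) (hD : IsDefectGroup p M B D) : IsMulCommutative D := by
  have hs := hG.2
  have hP := hG.1
  let e : (G ⧸ Subgroup.center G) ≃* Shrink.{0} (G ⧸ Subgroup.center G) := (Shrink.mulEquiv.{0}).symm
  have hf : Finite (Shrink.{0} (G ⧸ Subgroup.center G)) := Finite.of_equiv _ e.toEquiv
  have hs' : IsSimpleGroup (Shrink.{0} (G ⧸ Subgroup.center G)) := e.symm.isSimpleGroup
  have hna : ¬ IsMulCommutative (Shrink.{0} (G ⧸ Subgroup.center G)) := by
    intro h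
    have h1 : Group.IsPerfect (Shrink.{0} (G ⧸ Subgroup.center G)) :=
      Group.IsPerfect.ofSurjective (f := e.toMonoidHom.comp (QuotientGroup.mk' (Subgroup.center G)))
        (e.surjective.comp (QuotientGroup.mk'_surjective _))
    have h2 : commutator (Shrink.{0} (G ⧸ Subgroup.center G)) = ⊥ := by
      rw [commutator_def, Subgroup.commutator_eq_bot_iff_le_centralizer]
      exact fun x _ => Subgroup.mem_centralizer_iff.2 fun y _ => h.1.1 y x
    exact bot_ne_top (h2.symm.trans h1.commutator_eq_top)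
  exact BRow.of_equiv e (R.known p hp _ hna (cfsg _)) G (QuotientGroup.mk' _) hP.commutator_eq_top
    (QuotientGroup.mk'_surjective _) (QuotientGroup.ker_mk' _).le M hM B hB D hD

end Cfsg.Agent.BHZ.Nil
end
end

-- part: TO/Defs
section
set_option linter.all false
open scoped Cfsg.Agent.FastGrp

/-!
# S4817 (three orbits): definitions and the block theoretic boxes

Proofs on paper: `notes/BHZ/s4817.md`.
-/

set_option autoImplicit false

namespace Cfsg.Agent.TO

open Cfsg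
open Cfsg.Agent.BHZ.Nil (KK)

section Defs

variable {G : Type*} [Group G]

/-- the members of `b` as functions -/
def Fn (b : Set (IrrCharacter G)) : Set (G → ℂ) := Subtype.val '' b

/-- the automorphisms which stabilise `b` -/
def Stab (b : Set (IrrCharacter G)) : Subgroup (MulAut G) where
  carrier := {α | ∀ f : G → ℂ, f ∘ α ∈ Fn b ↔ f ∈ Fn b}
  one_mem' := fun _ => Iff.rfl
  mul_mem' := fun {α β} ha hb f => (hb (f ∘ α)).trans (ha f)
  inv_mem' := fun {α} ha f => by
    have h := ha (f ∘ ⇑α⁻¹)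
    have e : (f ∘ ⇑α⁻¹) ∘ ⇑α = f := funext fun g => by simp
    rw [e] at h
    exact h.symm

/-- the orbit of a function under the stabiliser of `b` -/
def Orb (b : Set (IrrCharacter G)) (f : G → ℂ) : Set (G → ℂ) := {f' | ∃ α ∈ Stab b, f' = f ∘ α}

/-- the part of the regular character in `b` -/
noncomputable def reg (b : Set (IrrCharacter G)) : G → ℂ := fun g => ∑ᶠ χ ∈ b, (χ : G → ℂ) 1 * (χ : G → ℂ) g

/-- a `p`-element -/
def PElt (p : ℕ) (u : G) : Prop := ∃ k : ℕ, orderOf u = p ^ k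

/-- `b` is the union of the orbits of `χ₁` and `χ₂`, which have different degrees -/
structure TwoOf (b : Set (IrrCharacter G)) (χ₁ χ₂ : G → ℂ) : Prop where
  m1 : χ₁ ∈ Fn b
  m2 : χ₂ ∈ Fn b
  ne : χ₁ 1 ≠ χ₂ 1
  cov : ∀ f ∈ Fn b, f ∈ Orb b χ₁ ∨ f ∈ Orb b χ₂

/-- **Hypothesis (H)**, for any finite group. -/
structure Two (p : ℕ) (M : Ideal AlgInt) (b : Set (IrrCharacter G)) (D : Subgroup G) : Prop where
  odd : p ≠ 2
  hM : IsPModular p M
  hb : IsPBlock M b
  hD : IsDefectGroup p M b D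
  nc : ¬ IsCyclic D
  two : ∃ χ₁ χ₂, TwoOf b χ₁ χ₂

/-- **Hypothesis (H), normalised**: the centre has order prime to `p`, `b` is faithful, `σ` is the
quotient by the centre. -/
structure Hyp (p : ℕ) (M : Ideal AlgInt) (b : Set (IrrCharacter G)) (D : Subgroup G) {X : Type*} [Group X]
    (σ : G →* X) : Prop extends Two p M b D where
  perf : commutator G = ⊤
  surj : Function.Surjective σ
  ker : σ.ker = Subgroup.center G
  zp : ¬ p ∣ Nat.card (Subgroup.center G)
  cyc : IsCyclic (Subgroup.center G)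
  faith : ∀ f ∈ Fn b, ∀ z ∈ Subgroup.center G, f z = f 1 → z = 1

/-- the automorphisms of `X` induced by the stabiliser of `b` -/
def Ind {X : Type*} [Group X] (σ : G →* X) (b : Set (IrrCharacter G)) : Subgroup (MulAut X) where
  carrier := {β | ∃ α ∈ Stab b, ∀ g, σ (α g) = β (σ g)}
  one_mem' := ⟨1, one_mem _, fun _ => rfl⟩
  mul_mem' := by
    rintro β β' ⟨α, ha, h⟩ ⟨α', ha', h'⟩
    exact ⟨α * α', mul_mem ha ha', fun g => by simp [h, h']⟩
  inv_mem' := by
    rintro β ⟨α, ha, h⟩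
    refine ⟨α⁻¹, inv_mem ha, fun g => ?_⟩
    have := h (α⁻¹ g)
    simp only [MulAut.apply_inv_self] at this
    rw [this]
    simp

/-- the automorphisms which fix `D` and `θ` -/
def LA (D : Subgroup G) (θ : G → ℂ) : Subgroup (MulAut G) where
  carrier := {α | (∀ x, α x ∈ D ↔ x ∈ D) ∧ ∀ g, θ (α g) = θ g}
  one_mem' := ⟨fun _ => Iff.rfl, fun _ => rfl⟩
  mul_mem' := fun {α β} ha hb => ⟨fun x => (ha.1 (β x)).trans (hb.1 x), fun g => (ha.2 (β g)).trans (hb.2 g)⟩
  inv_mem' := fun {α} ha => ⟨fun x => by simpa using (ha.1 (α⁻¹ x)).symm, fun g => by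
    simpa using (ha.2 (α⁻¹ g)).symm⟩

/-- the inertia group `N_G(D, θ)` -/
def In (D : Subgroup G) (θ : G → ℂ) : Subgroup G := (LA D θ).comap (MulAut.conj : G →* MulAut G)

/-- the centralizer -/
abbrev Ce (D : Subgroup G) : Subgroup G := Subgroup.centralizer (D : Set G)

/-- the centralizer of an element -/
abbrev Cu (u : G) : Subgroup G := Subgroup.centralizer ({u} : Set G)

/-- `θ` is the canonical character (extended by zero) of a root of the block `b` with the abelian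
defect group `D` -/
structure Can (p : ℕ) (M : Ideal AlgInt) (b : Set (IrrCharacter G)) (D : Subgroup G) (θ : G → ℂ) : Prop where
  hM : IsPModular p M
  hD : IsDefectGroup p M b D
  ab : D ≤ Ce D
  irr : IsIrrCharacter (Ce D) (fun c => θ c)
  ind : IsInducedBlock M (Ce D) (blockOf M (fun c : Ce D => θ c)) b
  zero : ∀ g, g ∉ Ce D → θ g = 0
  triv : ∀ d ∈ D, θ d = θ 1

/-- `η` (a function on `G`) is on `R` an irreducible character which extends `θ` -/
structure Ext (D : Subgroup G) (θ : G → ℂ) (R : Subgroup G) (η : G → ℂ) : Prop where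
  le : Ce D ≤ R
  irr : IsIrrCharacter R (fun x => η x)
  ext : ∀ c ∈ Ce D, η c = θ c

/-- `K` is invariant under the automorphisms in `A` and meets `C(D)` inside the kernel of `θ` -/
structure Canon (D : Subgroup G) (θ : G → ℂ) (A : Subgroup (MulAut G)) (K : Subgroup G) : Prop where
  inv : ∀ α ∈ A, ∀ x ∈ K, α x ∈ K
  ker : ∀ x ∈ K, x ∈ Ce D → θ x = θ 1

/-- the stabiliser of an element -/
def FixE (u : G) : Subgroup (MulAut G) := MulAction.stabilizer (MulAut G) u

/-- `B` covers `b` -/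
def Covers (N : Subgroup G) [Fintype N] (B : Set (IrrCharacter G)) (b : Set (IrrCharacter N)) : Prop :=
  ∃ χ ∈ B, ∃ θ ∈ b, classInner (fun n : N => (χ : G → ℂ) n) (θ : N → ℂ) ≠ 0

end Defs

/-- **The group theoretic shadow** of (H) in the simple quotient. -/
structure Pure (p : ℕ) (X : Type*) [Group X] (A : Subgroup (MulAut X)) (Q : Subgroup X) : Prop where
  odd : p ≠ 2
  inn : Inn X ≤ A
  pg : IsPGroup p Q
  nc : ¬ IsCyclic Q
  syl : ∀ P : Subgroup X, IsPGroup p P → Q ≤ P → P ≤ KK p Q → P = Q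
  rad : ∀ P : Subgroup X, IsPGroup p P → Q ≤ P →
    Subgroup.normalizer (Q : Set X) ≤ Subgroup.normalizer (P : Set X) →
    P ≤ Subgroup.normalizer (Q : Set X) → P = Q
  /-- all nontrivial `p`-elements of `K(Q)` (in particular of `Q`) are conjugate under `A` -/
  conj : ∀ u ∈ KK p Q, ∀ v ∈ KK p Q, PElt p u → PElt p v → u ≠ 1 → v ≠ 1 → ∃ α ∈ A, α u = v
  expo : ∀ u ∈ KK p Q, PElt p u → u ^ p = 1
  abel : Q ≤ Ce Q → ∀ u ∈ Q, ∀ v ∈ Q, u ≠ 1 → v ≠ 1 → ∃ α ∈ A, (∀ x, α x ∈ Q ↔ x ∈ Q) ∧ α u = v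

/-- the statement for the covers of `X` -/
def Row (p : ℕ) (X : Type) [Group X] : Prop :=
  ∀ (G : Type) [Group G] [Finite G] (σ : G →* X) (M : Ideal AlgInt) (b : Set (IrrCharacter G)) (D : Subgroup G),
    ¬ Hyp p M b D σ

theorem Row.of_equiv {p : ℕ} {S T : Type} [Group S] [Group T] (e : S ≃* T) (h : Row p T) : Row p S :=
  fun G _ _ σ M b D H => h G (e.toMonoidHom.comp σ) M b D
    { toTwo := H.toTwo, perf := H.perf, surj := e.surjective.comp H.surj
      ker := by
        rw [← H.ker]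
        ext x
        simp [MonoidHom.mem_ker]
      zp := H.zp, cyc := H.cyc, faith := H.faith }

/-- the statement for the nonabelian simple groups with the property `C p` -/
def RowFor (C : ℕ → ∀ (S : Type) [Group S], Prop) : Prop :=
  ∀ (p : ℕ) [Fact p.Prime], p ≠ 2 → ∀ (S : Type) [Group S] [Finite S] [IsSimpleGroup S],
    ¬ IsMulCommutative S → C p S → Row p S

end Cfsg.Agent.TO
end

-- part: TO/Box
section
set_option linter.all false

/-!
# S4817: the block theoretic boxes (statements only)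

Every box is a `Prop`; a box may be used as a hypothesis by the proofs of the other boxes as listed
in `notes/BHZ/s4817.md`.
-/

set_option autoImplicit false

namespace Cfsg.Agent.TO

open Cfsg

universe u

/-- [SUB] the nontrivial subsections are conjugate under the stabiliser -/
def BoxSUB : Prop := ∀ (G : Type) [Group G] [Finite G] (p : ℕ) [Fact p.Prime] (M : Ideal AlgInt)
  (b : Set (IrrCharacter G)) (D : Subgroup G), Two p M b D → ∀ u v : G, PElt p u → PElt p v → u ≠ 1 → v ≠ 1 →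
  ∀ (c : Set (IrrCharacter (Cu u))) (c' : Set (IrrCharacter (Cu v))), IsInducedBlock M (Cu u) c b →
    IsInducedBlock M (Cu v) c' b → ∃ α ∈ Stab b, α u = v ∧
      ∀ ξ' ∈ c', ∃ ξ ∈ c, ∀ (x : Cu u) (y : Cu v), (y : G) = α x → ξ.1 x = ξ'.1 y

/-- [LOC] the invariants in the `p`-regular part of a local block form a line -/
def BoxLOC : Prop := ∀ (G : Type) [Group G] [Finite G] (p : ℕ) [Fact p.Prime] (M : Ideal AlgInt)
  (b : Set (IrrCharacter G)) (D : Subgroup G), Two p M b D → ∀ u : G, PElt p u → u ≠ 1 →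
  ∀ c : Set (IrrCharacter (Cu u)), IsInducedBlock M (Cu u) c b → ∀ f ∈ Submodule.span ℂ (Fn c),
    (∀ α ∈ Stab b, α u = u → (∀ ξ ∈ c, ∃ ξ' ∈ c, ∀ x y : Cu u, (y : G) = α x → ξ'.1 x = ξ.1 y) →
      ∀ x y : Cu u, (y : G) = α x → IsPRegular p x → f y = f x) →
    ∀ x : Cu u, IsPRegular p x → f x * reg c 1 = f 1 * reg c x

/-- [T] the central characters agree on invariant `p`-regular functions -/
def BoxT : Prop := ∀ (G : Type) [Group G] [Fintype G] (p : ℕ) [Fact p.Prime] (M : Ideal AlgInt)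
  (b : Set (IrrCharacter G)) (D : Subgroup G), Two p M b D → ∀ γ : G → ℂ, (∀ x, ¬ IsPRegular p x → γ x = 0) →
    (∀ α ∈ Stab b, ∀ x, γ (α x) = γ x) → ∀ χ ∈ Fn b, ∀ ψ ∈ Fn b,
      (∑ x, χ x * γ x) * ψ 1 = (∑ x, ψ x * γ x) * χ 1

/-- [NP] the block is not the principal block -/
def BoxNP : Prop := ∀ (G : Type) [Group G] [Finite G] (p : ℕ) [Fact p.Prime] (M : Ideal AlgInt)
  (b : Set (IrrCharacter G)) (D : Subgroup G), Two p M b D → commutator G = ⊤ → (fun _ => (1 : ℂ)) ∉ Fn b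

/-- [FIX] not both orbit lengths are divisible by `p` -/
def BoxFIX : Prop := ∀ (G : Type) [Group G] [Finite G] (p : ℕ) [Fact p.Prime] (M : Ideal AlgInt)
  (b : Set (IrrCharacter G)), IsPModular p M → IsPBlock M b → ∃ χ ∈ Fn b, ¬ p ∣ (Orb b χ).ncard

/-- [CAN0] existence of the canonical character -/
def BoxCAN0 : Prop := ∀ (G : Type) [Group G] [Finite G] (p : ℕ) [Fact p.Prime] (M : Ideal AlgInt)
  (b : Set (IrrCharacter G)) (D : Subgroup G), IsPModular p M → IsPBlock M b → IsDefectGroup p M b D →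
    D ≤ Ce D → ∃ θ : G → ℂ, Can p M b D θ

/-- the properties of the canonical character -/
structure CanP (p : ℕ) (M : Ideal AlgInt) {G : Type} [Group G] (b : Set (IrrCharacter G)) (D : Subgroup G)
    (θ : G → ℂ) : Prop where
  mul : ∀ d ∈ D, ∀ g, θ (d * g) = θ g
  van : ∀ g x, IsPPart p g x → x ∉ D → θ g = 0
  deg : (charDegree θ).factorization p = (D.relIndex (Ce D)).factorization p
  le : LA D θ ≤ Stab b
  frat : ∀ α ∈ Stab b, ∃ g : G, MulAut.conj g * α ∈ LA D θ
  idx : ¬ p ∣ (Ce D).relIndex (In D θ)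
  prin : (∀ c ∈ Ce D, θ c = 1) → (fun _ => (1 : ℂ)) ∈ Fn b
  cent : ∀ z ∈ Subgroup.center G, IsPRegular p z → ∀ χ ∈ Fn b, ∀ g, θ (z * g) * χ 1 = χ z * θ g
  loc : ∀ u ∈ D, ∃ c : Set (IrrCharacter (Cu u)), IsInducedBlock M (Cu u) c b ∧
    Can p M c (D.subgroupOf (Cu u)) (fun x => θ x)
  nil : In D θ ≤ Ce D → ∀ χ ∈ Fn b, ∀ ψ ∈ Fn b, χ 1 = ψ 1

/-- [CAN1] -/
def BoxCAN1 : Prop := ∀ (G : Type) [Group G] [Finite G] (p : ℕ) [Fact p.Prime] (M : Ideal AlgInt)
  (b : Set (IrrCharacter G)) (D : Subgroup G) (θ : G → ℂ), Can p M b D θ → CanP p M b D θ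

/-- [CAN2] the local automorphisms are transitive on `D \ 1` -/
def BoxCAN2 : Prop := ∀ (G : Type) [Group G] [Finite G] (p : ℕ) [Fact p.Prime] (M : Ideal AlgInt)
  (b : Set (IrrCharacter G)) (D : Subgroup G) (θ : G → ℂ), Two p M b D → Can p M b D θ →
    (∀ u ∈ D, ∀ v ∈ D, u ≠ 1 → v ≠ 1 → ∃ α ∈ LA D θ, α u = v) ∧ ¬ In D θ ≤ Ce D

/-- [PURE] -/
def BoxPURE : Prop := ∀ (G : Type) [Group G] [Finite G] (p : ℕ) [Fact p.Prime] (M : Ideal AlgInt)
  (b : Set (IrrCharacter G)) (D : Subgroup G) (X : Type) [Group X] (σ : G →* X), Hyp p M b D σ →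
    Pure p X (Ind σ b) (D.map σ)

/-- [RED] the theorem from the rows -/
def BoxRED : Prop := RowFor (fun _ _ _ => True) → ∀ (S : Type u) [Group S] [Finite S], IsQuasisimple S →
  ∀ (p : ℕ) [Fact p.Prime] (M : Ideal AlgInt) (b : Set (IrrCharacter S)) (D : Subgroup S), ¬ Two p M b D

/-- [DA] automorphisms which centralize `D` and fix an extension of `θ` fix the block pointwise -/
def BoxDA : Prop := ∀ (G : Type) [Group G] [Finite G] (p : ℕ) [Fact p.Prime] (M : Ideal AlgInt)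
  (b : Set (IrrCharacter G)) (D : Subgroup G) (θ η : G → ℂ), Can p M b D θ → Ext D θ (In D θ) η →
    ∀ α : MulAut G, (∀ d ∈ D, α d = d) → (∀ g, θ (α g) = θ g) → (∀ x ∈ In D θ, η (α x) = η x) →
      ∀ χ ∈ Fn b, χ ∘ α = χ

/-- [CY] defect group of order `p²` containing a central element -/
def BoxCY : Prop := ∀ (G : Type) [Group G] [Finite G] (p : ℕ) [Fact p.Prime] (M : Ideal AlgInt)
  (B : Set (IrrCharacter G)) (D : Subgroup G) (θ : G → ℂ), Can p M B D θ → Nat.card D = p ^ 2 →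
  ∀ u ∈ D, u ≠ 1 → u ^ p = 1 → u ∈ Subgroup.center G → ∀ e : ℕ, (Ce D).relIndex (In D θ) = e →
    e ∣ p - 1 ∧ ∃ X Y : Set (IrrCharacter G), {χ ∈ B | χ.1 u = χ.1 1} = X ∪ Y ∧ Disjoint X Y ∧
      X.ncard = e ∧ Y.ncard = (p - 1) / e ∧ blockRank p X = e ∧
      (∀ ψ ∈ Y, ∀ ψ' ∈ Y, ∀ g, IsPRegular p g → ψ.1 g = ψ'.1 g) ∧
      ∃ (δ : IrrCharacter G → ℤ) (δ₀ : ℤ), (∀ χ ∈ X, δ χ = 1 ∨ δ χ = -1) ∧ (δ₀ = 1 ∨ δ₀ = -1) ∧
        ∀ ψ ∈ Y, ∀ g, IsPRegular p g → (δ₀ : ℂ) * ψ.1 g + ∑ᶠ χ ∈ X, (δ χ : ℂ) * χ.1 g = 0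

/-- [K] -/
def BoxK : Prop := ∀ (G : Type) [Group G] [Finite G] (p : ℕ) [Fact p.Prime] (M : Ideal AlgInt)
  (b : Set (IrrCharacter G)) (D : Subgroup G) (θ η : G → ℂ), Two p M b D → Can p M b D θ → (p = 3 ∨ p = 5) →
    Nat.card D = p ^ 2 → ∀ u ∈ D, u ≠ 1 → ∀ R : Subgroup G, R ≤ In D θ ⊓ Cu u → ¬ R ≤ Ce D → Ext D θ R η →
      (∀ α ∈ LA D θ, α u = u → ∀ x ∈ R, α x ∈ R → η (α x) = η x) → False

/-- [K2] -/
def BoxK2 : Prop := ∀ (G : Type) [Group G] [Finite G] (p : ℕ) [Fact p.Prime] (M : Ideal AlgInt)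
  (b : Set (IrrCharacter G)) (D : Subgroup G) (θ : G → ℂ), Two p M b D → Can p M b D θ → (p = 3 ∨ p = 5) →
    Nat.card D = p ^ 2 → ∀ u ∈ D, u ≠ 1 → ∀ K : Subgroup G, Canon D θ (LA D θ ⊓ FixE u) K →
      ∀ x ∈ K, x ∈ Subgroup.normalizer (D : Set G) → x ∈ Cu u → x ∈ Ce D

/-- [K34] extensions of index two -/
def BoxK34 : Prop := ∀ (G : Type) [Group G] [Finite G] (p : ℕ) [Fact p.Prime] (M : Ideal AlgInt) (N : Subgroup G)
  [N.Normal], N.index = 2 → p ≠ 2 → IsPModular p M → ∀ b : Set (IrrCharacter N), IsPBlock M b →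
  ∀ D : Subgroup N, IsDefectGroup p M b D → ¬ IsCyclic D →
    (∀ g : G, MulAut.conjNormal g ∈ Stab b) → ∀ χ₁ χ₂ : N → ℂ,
    (∀ f ∈ Fn b, ∃ g : G, f = χ₁ ∘ MulAut.conjNormal g ∨ f = χ₂ ∘ MulAut.conjNormal g) → False

/-- [EX] one automorphism whose square is inner -/
def BoxEX : Prop := ∀ (G : Type) [Group G] [Finite G] (p : ℕ) [Fact p.Prime] (M : Ideal AlgInt)
  (b : Set (IrrCharacter G)) (D : Subgroup G) (X : Type) [Group X] (σ : G →* X), Hyp p M b D σ →
  ∀ α ∈ Stab b, ∀ s : G, α * α = MulAut.conj s → ∀ χ₁ χ₂ : G → ℂ,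
    (∀ f ∈ Fn b, f = χ₁ ∨ f = χ₁ ∘ α ∨ f = χ₂ ∨ f = χ₂ ∘ α) →
    α s ≠ s ∧ (∀ f ∈ Fn b, f ∘ α ≠ f) ∧ 2 ∣ Nat.card (Subgroup.center G)

/-- [S1] at most two classes of automorphisms -/
def BoxS1 : Prop := ∀ (G : Type) [Group G] [Finite G] (p : ℕ) [Fact p.Prime] (M : Ideal AlgInt)
  (b : Set (IrrCharacter G)) (D : Subgroup G) (X : Type) [Group X] (σ : G →* X), Hyp p M b D σ →
    (Inn X).relIndex (Ind σ b) ≤ 2 → p % 4 = 1 ∧ 2 ∣ Nat.card (Subgroup.center G) ∧ b.ncard = 4 ∧
      (Inn X).relIndex (Ind σ b) = 2 ∧ ∀ τ ∈ Ind σ b, τ * τ = 1 → τ ∈ Inn X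

/-- `T` is regular on `D \ 1` modulo the centralizer -/
def RegOn {G : Type*} [Group G] (T D : Subgroup G) : Prop :=
  (∀ u ∈ D, ∀ v ∈ D, u ≠ 1 → v ≠ 1 → ∃ t ∈ T, t * u * t⁻¹ = v) ∧
    ∀ t ∈ T, ∀ u ∈ D, u ≠ 1 → t * u * t⁻¹ = u → t ∈ Ce D

/-- [Q8A] -/
def BoxQ8A : Prop := ∀ (G : Type) [Group G] [Finite G] (M : Ideal AlgInt) (b : Set (IrrCharacter G))
  (D : Subgroup G) (θ : G → ℂ), Two 3 M b D → Can 3 M b D θ → Nat.card D = 9 → RegOn (In D θ) D →
    ∀ χ₁ χ₂, TwoOf b χ₁ χ₂ → ∃ x y : ℕ, 0 < x ∧ 0 < y ∧ (Orb b χ₁).ncard * x ^ 2 + (Orb b χ₂).ncard * y ^ 2 = 9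

/-- [Q8B] -/
def BoxQ8B : Prop := ∀ (G : Type) [Group G] [Finite G] (M : Ideal AlgInt) (b : Set (IrrCharacter G))
  (D : Subgroup G) (θ : G → ℂ), Two 3 M b D → Can 3 M b D θ → Nat.card D = 9 →
    (∀ t ∈ Subgroup.normalizer (D : Set G), ¬ 3 ∣ orderOf t → ∀ u ∈ D, u ≠ 1 → t * u * t⁻¹ = u → t ∈ Ce D) →
    ∀ K : Subgroup G, Canon D θ (LA D θ) K →
      (∀ u ∈ D, ∀ v ∈ D, u ≠ 1 → v ≠ 1 → ∃ t ∈ K, t ∈ Subgroup.normalizer (D : Set G) ∧ t * u * t⁻¹ = v) → False

/-- [Q8C] -/
def BoxQ8C : Prop := ∀ (G : Type) [Group G] [Finite G] (M : Ideal AlgInt) (b : Set (IrrCharacter G))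
  (D : Subgroup G) (θ : G → ℂ) (X : Type) [Group X] (σ : G →* X), Hyp 3 M b D σ → Can 3 M b D θ →
    Nat.card D = 9 → RegOn (In D θ) D → (Inn X).relIndex (Ind σ b) ∣ 12 → (∀ β ∈ Ind σ b, β ^ 6 ∈ Inn X) → False

/-- [NEG] a normal `2`-subgroup of a transitive linear group contains `-1` -/
def BoxNEG : Prop := ∀ (G : Type) [Group G] [Finite G] (p : ℕ) [Fact p.Prime] (M : Ideal AlgInt)
  (b : Set (IrrCharacter G)) (D : Subgroup G) (θ : G → ℂ), Two p M b D → Can p M b D θ →
    ((∀ t ∈ In D θ, ∃ k : ℕ, t ^ 2 ^ k ∈ Ce D) ∨ Nat.card D = 9) → ∃ t ∈ In D θ, ∀ d ∈ D, t * d * t⁻¹ = d⁻¹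

end Cfsg.Agent.TO
end

-- part: TO/Rows
section
set_option linter.all false

/-!
# S4817: the rows
-/

set_option autoImplicit false

namespace Cfsg.Agent.TO

open Cfsg

/-- all the block theoretic boxes which the rows may use -/
structure Blk : Prop where
  sub : BoxSUB
  loc : BoxLOC
  t : BoxT
  np : BoxNP
  fix : BoxFIX
  can0 : BoxCAN0
  can1 : BoxCAN1
  can2 : BoxCAN2
  pure : BoxPURE
  da : BoxDA
  cy : BoxCY
  k : BoxK
  k2 : BoxK2
  k34 : BoxK34
  ex : BoxEX
  s1 : BoxS1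
  q8a : BoxQ8A
  q8b : BoxQ8B
  q8c : BoxQ8C
  neg : BoxNEG

/-- a row which is settled in the simple group -/
theorem Blk.row_of_pure (B : Blk) {p : ℕ} [Fact p.Prime] {X : Type} [Group X]
    (h : ∀ (A : Subgroup (MulAut X)) (Q : Subgroup X), ¬ Pure p X A Q) : Row p X :=
  fun G _ _ σ M b D H => h _ _ (B.pure G p M b D X σ H)

/-- the rows; all the rows of Lie type except `lie` are in cross characteristic -/
structure Rows : Prop where
  alt : RowFor (fun _ S _ => IsAlternating S)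
  lie : RowFor (fun p S _ => IsLieTypeChar p S)
  psl : RowFor (fun p S _ => ∃ (F : Type) (_ : Field F) (_ : Fintype F) (n : ℕ), (p : F) ≠ 0 ∧
    2 ≤ n ∧ (n = 2 → 4 ≤ Fintype.card F) ∧ Nonempty (S ≃* Matrix.ProjectiveSpecialLinearGroup (Fin n) F))
  psp : RowFor (fun p S _ => ∃ (F : Type) (_ : Field F) (_ : Fintype F) (m : ℕ), (p : F) ≠ 0 ∧
    2 ≤ m ∧ (m = 2 → 3 ≤ Fintype.card F) ∧ Nonempty (S ≃* PSp m F))
  psu : RowFor (fun p S _ => ∃ (F : Type) (_ : Field F) (_ : Fintype F) (n q : ℕ), (p : F) ≠ 0 ∧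
    Fintype.card F = q ^ 2 ∧ 3 ≤ n ∧ ¬ (n = 3 ∧ q = 2) ∧ Nonempty (S ≃* PSU n F q))
  oodd : RowFor (fun p S _ => ∃ (F : Type) (_ : Field F) (_ : Fintype F) (m : ℕ), (p : F) ≠ 0 ∧
    3 ≤ m ∧ Odd (Fintype.card F) ∧ Nonempty (S ≃* POmega F (quadFormOdd m F)))
  oplus : RowFor (fun p S _ => ∃ (F : Type) (_ : Field F) (_ : Fintype F) (m : ℕ), (p : F) ≠ 0 ∧
    4 ≤ m ∧ Nonempty (S ≃* POmega F (quadFormPlus m F)))
  ominus : RowFor (fun p S _ => ∃ (F : Type) (_ : Field F) (_ : Fintype F) (m : ℕ) (a b : F),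
    (p : F) ≠ 0 ∧ 4 ≤ m ∧ (∀ z₁ z₂ : F, z₁ ^ 2 + a * z₁ * z₂ + b * z₂ ^ 2 = 0 → z₁ = 0 ∧ z₂ = 0) ∧
    Nonempty (S ≃* POmega F (quadFormMinus (m - 1) F a b)))
  g2 : RowFor (fun p S _ => ∃ (F : Type) (_ : Field F) (_ : Fintype F), (p : F) ≠ 0 ∧
    3 ≤ Fintype.card F ∧ Nonempty (S ≃* Lie.chevG2.group F))
  f4 : RowFor (fun p S _ => ∃ (F : Type) (_ : Field F) (_ : Fintype F), (p : F) ≠ 0 ∧
    Nonempty (S ≃* Lie.chevF4.group F))
  e6 : RowFor (fun p S _ => ∃ (F : Type) (_ : Field F) (_ : Fintype F), (p : F) ≠ 0 ∧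
    Nonempty (S ≃* Lie.chevE6.group F))
  e7 : RowFor (fun p S _ => ∃ (F : Type) (_ : Field F) (_ : Fintype F), (p : F) ≠ 0 ∧
    Nonempty (S ≃* Lie.chevE7.group F))
  e8 : RowFor (fun p S _ => ∃ (F : Type) (_ : Field F) (_ : Fintype F), (p : F) ≠ 0 ∧
    Nonempty (S ≃* Lie.chevE8.group F))
  te6 : RowFor (fun p S _ => ∃ (K : Type) (_ : Field K) (_ : Fintype K) (q : ℕ), (p : K) ≠ 0 ∧
    IsPrimePow q ∧ Fintype.card K = q ^ 2 ∧ Nonempty (S ≃* Lie.twistedE6 K q))
  td4 : RowFor (fun p S _ => ∃ (K : Type) (_ : Field K) (_ : Fintype K) (q : ℕ), (p : K) ≠ 0 ∧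
    IsPrimePow q ∧ Fintype.card K = q ^ 3 ∧ Nonempty (S ≃* Lie.twistedD4 K q))
  sz : RowFor (fun _ S _ => Lie.IsoSuzuki S)
  ree : RowFor (fun p S _ => p ≠ 3 ∧ Lie.IsoRee S)
  tf4 : RowFor (fun _ S _ => Lie.Iso2F4 S)
  tits : RowFor (fun _ S _ => Lie.IsoTits S)
  spor : RowFor (fun _ S _ => IsSporadicGroup S)

/-- the assembly over the known simple groups -/
theorem Rows.known (R : Rows) : RowFor (fun _ S _ => IsKnownSimple' S) := by
  intro p _ hp S _ _ _ hS hC
  have lie : IsLieTypeChar p S → Row p S := fun h => R.lie p hp S hS h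
  have exc : IsExceptionalChevChar p S → Row p S := fun h =>
    lie (Or.inr (Or.inr (Or.inr (Or.inr (Or.inr (Or.inr (Or.inl h)))))))
  have tw : IsTwistedE6D4Char p S → Row p S := fun h =>
    lie (Or.inr (Or.inr (Or.inr (Or.inr (Or.inr (Or.inr (Or.inr (Or.inl h))))))))
  rcases hC with h | h | h | h | h | h | h | h | h | h
  · exfalso
    apply hS
    have : Fact (Nat.card S).Prime := ⟨h⟩
    have := isCyclic_of_prime_card (p := Nat.card S) (α := S) rfl
    exact ⟨⟨fun a b => (IsCyclic.commGroup (α := S)).mul_comm a b⟩⟩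
  · exact R.alt p hp S hS h
  · obtain ⟨F, iF, iN, n, hn, hn2, he⟩ := h
    by_cases hF : (p : F) = 0
    · exact lie (Or.inl ⟨F, iF, iN, BHZ.Nil.charP_of_cast hF, n, hn, hn2, he⟩)
    · exact R.psl p hp S hS ⟨F, iF, iN, n, hF, hn, hn2, he⟩
  · obtain ⟨F, iF, iN, n, hn, hn2, he⟩ := h
    by_cases hF : (p : F) = 0
    · exact lie (Or.inr (Or.inl ⟨F, iF, iN, BHZ.Nil.charP_of_cast hF, n, hn, hn2, he⟩))
    · exact R.psp p hp S hS ⟨F, iF, iN, n, hF, hn, hn2, he⟩
  · obtain ⟨F, iF, iN, n, q, hq, hn, hn2, he⟩ := h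
    by_cases hF : (p : F) = 0
    · exact lie (Or.inr (Or.inr (Or.inl ⟨F, iF, iN, BHZ.Nil.charP_of_cast hF, n, q, hq, hn, hn2, he⟩)))
    · exact R.psu p hp S hS ⟨F, iF, iN, n, q, hF, hq, hn, hn2, he⟩
  · obtain ⟨F, iF, iN, m, hm, hodd, he⟩ := h
    by_cases hF : (p : F) = 0
    · exact lie (Or.inr (Or.inr (Or.inr (Or.inl ⟨F, iF, iN, BHZ.Nil.charP_of_cast hF, m, hm, hodd, he⟩))))
    · exact R.oodd p hp S hS ⟨F, iF, iN, m, hF, hm, hodd, he⟩
  · obtain ⟨F, iF, iN, m, hm, he⟩ := h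
    by_cases hF : (p : F) = 0
    · exact lie (Or.inr (Or.inr (Or.inr (Or.inr (Or.inl ⟨F, iF, iN, BHZ.Nil.charP_of_cast hF, m, hm, he⟩)))))
    · exact R.oplus p hp S hS ⟨F, iF, iN, m, hF, hm, he⟩
  · obtain ⟨F, iF, iN, m, a, b, hm, hab, he⟩ := h
    by_cases hF : (p : F) = 0
    · exact lie (Or.inr (Or.inr (Or.inr (Or.inr (Or.inr (Or.inl
        ⟨F, iF, iN, BHZ.Nil.charP_of_cast hF, m, a, b, hm, hab, he⟩))))))
    · exact R.ominus p hp S hS ⟨F, iF, iN, m, a, b, hF, hm, hab, he⟩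
  · rcases h with h | h | h | h | h | h | h | h | h | h | h
    · obtain ⟨F, iF, iN, h3, he⟩ := h
      by_cases hF : (p : F) = 0
      · exact exc ⟨F, iF, iN, BHZ.Nil.charP_of_cast hF, Or.inl ⟨h3, he⟩⟩
      · exact R.g2 p hp S hS ⟨F, iF, iN, hF, h3, he⟩
    · obtain ⟨F, iF, iN, he⟩ := h
      by_cases hF : (p : F) = 0
      · exact exc ⟨F, iF, iN, BHZ.Nil.charP_of_cast hF, Or.inr (Or.inl he)⟩
      · exact R.f4 p hp S hS ⟨F, iF, iN, hF, he⟩
    · obtain ⟨F, iF, iN, he⟩ := h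
      by_cases hF : (p : F) = 0
      · exact exc ⟨F, iF, iN, BHZ.Nil.charP_of_cast hF, Or.inr (Or.inr (Or.inl he))⟩
      · exact R.e6 p hp S hS ⟨F, iF, iN, hF, he⟩
    · obtain ⟨F, iF, iN, he⟩ := h
      by_cases hF : (p : F) = 0
      · exact exc ⟨F, iF, iN, BHZ.Nil.charP_of_cast hF, Or.inr (Or.inr (Or.inr (Or.inl he)))⟩
      · exact R.e7 p hp S hS ⟨F, iF, iN, hF, he⟩
    · obtain ⟨F, iF, iN, he⟩ := h
      by_cases hF : (p : F) = 0
      · exact exc ⟨F, iF, iN, BHZ.Nil.charP_of_cast hF, Or.inr (Or.inr (Or.inr (Or.inr he)))⟩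
      · exact R.e8 p hp S hS ⟨F, iF, iN, hF, he⟩
    · obtain ⟨K, iF, iN, q, hq, hK, he⟩ := h
      by_cases hF : (p : K) = 0
      · exact tw ⟨K, iF, iN, BHZ.Nil.charP_of_cast hF, q, hq, Or.inl ⟨hK, he⟩⟩
      · exact R.te6 p hp S hS ⟨K, iF, iN, q, hF, hq, hK, he⟩
    · obtain ⟨K, iF, iN, q, hq, hK, he⟩ := h
      by_cases hF : (p : K) = 0
      · exact tw ⟨K, iF, iN, BHZ.Nil.charP_of_cast hF, q, hq, Or.inr ⟨hK, he⟩⟩
      · exact R.td4 p hp S hS ⟨K, iF, iN, q, hF, hq, hK, he⟩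
    · exact R.sz p hp S hS h
    · by_cases hp3 : p = 3
      · exact lie (Or.inr (Or.inr (Or.inr (Or.inr (Or.inr (Or.inr (Or.inr (Or.inr (Or.inr (Or.inr
          ⟨hp3, h⟩))))))))))
      · exact R.ree p hp S hS ⟨hp3, h⟩
    · exact R.tf4 p hp S hS h
    · exact R.tits p hp S hS h
  · exact R.spor p hp S hS h


end Cfsg.Agent.TO
end

-- part: TO/X/BigE
section
prune_inst 0x201044005822100800048000022000000000002000000400048200000108000000c00040090000000200000100010060031000004000000000000000000504010000000000400000000000000000000000000000000000000000000000000000200000000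
set_option linter.all false
open scoped Cfsg.Agent.FastGrp

-- part: TO/X/BigA
section
/-!
# Transitive groups on the projective line with rational traces
-/

set_option autoImplicit false
set_option linter.unusedSectionVars false

namespace Cfsg.Agent.TO.X.Big

open Matrix
open scoped LinearAlgebra.Projectivization

section Two

variable {F : Type*} [Field F]

/-- two by two matrices -/
abbrev M2 (F : Type*) := Matrix (Fin 2) (Fin 2) F

theorem ch (a : M2 F) : a * a = a.trace • a - a.det • (1 : M2 F) := by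
  ext i j
  (revert i j; simp only [Matrix.mul_apply, Fin.sum_univ_two, trace_fin_two, det_fin_two, _root_.Fin.forall_fin_succ, Fin.isValue, _root_.Matrix.sub_apply, _root_.Matrix.smul_apply, _root_.smul_eq_mul, _root_.Fin.succ_zero_eq_one, _root_.IsEmpty.forall_iff, _root_.and_true, _root_.Matrix.one_apply_eq, _root_.mul_one, Nat.reduceAdd, _root_.ne_eq, _root_.zero_ne_one, _root_.not_false_eq_true, _root_.Matrix.one_apply_ne, _root_.MulZeroClass.mul_zero, _root_.sub_zero, _root_.Fin.succ_ne_zero]) <;> (repeat' with_reducible apply And.intro) <;> ring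

theorem anti {a b : M2 F} (ha : a.trace = 0) (hb : b.trace = 0) (hab : (a * b).trace = 0) : b * a = -(a * b) := by
  rw [trace_fin_two] at ha hb hab
  simp only [Matrix.mul_apply, Fin.sum_univ_two] at hab
  have h1 : a 1 1 = -a 0 0 := by linear_combination ha
  have h2 : b 1 1 = -b 0 0 := by linear_combination hb
  rw [h1, h2] at hab
  ext i j
  (revert i j; simp only [Matrix.mul_apply, Fin.sum_univ_two, h1, h2, _root_.Fin.forall_fin_succ, Fin.isValue, _root_.Matrix.neg_apply, _root_.neg_add_rev, _root_.Fin.succ_zero_eq_one, _root_.mul_neg, _root_.neg_neg, _root_.IsEmpty.forall_iff, _root_.and_true, _root_.neg_mul]) <;> (repeat' with_reducible apply And.intro) <;>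
    first | linear_combination hab | ring

theorem trace_mul_adj (a b : M2 F) : (a * b).trace + (a.adjugate * b).trace = a.trace * b.trace := by
  rw [adjugate_fin_two]
  simp only [Matrix.mul_apply, Fin.sum_univ_two, trace_fin_two, of_apply, cons_val', cons_val_zero, cons_val_one,
    cons_val_fin_one]
  ring

theorem trace_sq (a : M2 F) : (a * a).trace = a.trace ^ 2 - 2 * a.det := by
  rw [ch]
  simp only [trace_smul, trace_sub, trace_one, _root_.smul_eq_mul, _root_.Fintype.card_fin, _root_.Nat.cast_ofNat]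
  ring

/-- a matrix with a double eigenvalue and of order prime to the characteristic is scalar -/
theorem eq_of_double {a : M2 F} {e : F} (ht : a.trace = 2 * e) (hd : a.det = e ^ 2) {n : ℕ} (hn : (n : F) ≠ 0)
    (ha : a ^ n = 1) : a = e • (1 : M2 F) := by
  have hx : (a - e • 1) * (a - e • 1) = 0 := by
    rw [sub_mul, mul_sub, mul_sub, ch, ht, hd]
    simp only [mul_smul_comm, smul_mul_assoc, mul_one, one_mul, smul_smul]
    module
  obtain ⟨x, rfl⟩ : ∃ x, a = e • (1 : M2 F) + x := ⟨a - e • 1, by abel⟩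
  rw [add_sub_cancel_left] at hx
  have key : ∀ k : ℕ, (e • (1 : M2 F) + x) ^ (k + 1) = e ^ (k + 1) • (1 : M2 F) + (((k + 1 : ℕ) : F) * e ^ k) • x := by
    intro k
    induction k with
    | zero => simp only [_root_.zero_add, _root_.pow_one, _root_.Nat.cast_one, _root_.pow_zero, _root_.mul_one, _root_.one_smul]
    | succ k ih =>
      rw [pow_succ, ih]
      simp only [add_mul, mul_add, mul_smul_comm, smul_mul_assoc, mul_one, one_mul, smul_smul, hx, smul_zero]
      push_cast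
      module
  obtain ⟨k, rfl⟩ : ∃ k, n = k + 1 := ⟨n - 1, by
    rcases n with _ | n
    · simp at hn
    · rfl⟩
  have he : e ≠ 0 := by
    rintro rfl
    have h1 := congrArg det ha
    rw [det_pow, hd, det_one] at h1
    simp at h1
  have h1 := key k
  rw [ha] at h1
  have h2 : x = x * (e ^ (k + 1) • (1 : M2 F) + (((k + 1 : ℕ) : F) * e ^ k) • x) := by rw [← h1, mul_one]
  simp only [mul_add, mul_smul_comm, mul_one, hx, smul_zero, add_zero] at h2
  have h3 : (((k + 1 : ℕ) : F) * e ^ k) • x = (1 - e ^ (k + 1)) • (1 : M2 F) := by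
    rw [sub_smul, one_smul]
    exact (sub_eq_of_eq_add' h1).symm
  have h4 : (1 - e ^ (k + 1)) • x = 0 := by rw [sub_smul, one_smul, ← h2, sub_self]
  rcases smul_eq_zero.1 h4 with h5 | h5
  · rw [h5, zero_smul] at h3
    rw [(smul_eq_zero.1 h3).resolve_left (mul_ne_zero hn (pow_ne_zero _ he)), add_zero]
  · rw [h5, add_zero]

end Two

variable {p : ℕ} [hp : Fact p.Prime] {N : Type*} [Group N] [Finite N] (τ : N →* M2 (ZMod p))

/-- transitivity on the points -/
def Tr2 : Prop := ∀ s s' : Fin 2 → ZMod p, s ≠ 0 → s' ≠ 0 → ∃ (h : N) (a : ZMod p), s' = a • (τ h *ᵥ s)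

variable {τ}

theorem le_of_cover (htr : Tr2 τ) {l a : ℕ} [Fact l.Prime] (P : Sylow l N) (hd : l ^ a ∣ p + 1) (L : Finset N)
    (hL : ∀ h ∈ (P : Subgroup N), ∃ x ∈ L, ∃ c : ZMod p, τ h = c • τ x) : l ^ a ≤ L.card := by
  classical
  letI : DistribMulAction N (Fin 2 → ZMod p) :=
    { smul := fun h v => τ h *ᵥ v
      one_smul := fun v => by change τ 1 *ᵥ v = v; rw [map_one, one_mulVec]
      mul_smul := fun g h v => by change τ (g * h) *ᵥ v = τ g *ᵥ (τ h *ᵥ v); rw [map_mul, mulVec_mulVec]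
      smul_zero := fun h => mulVec_zero _
      smul_add := fun h v w => mulVec_add _ _ _ }
  have hs : ∀ (h : N) (v : Fin 2 → ZMod p), h • v = τ h *ᵥ v := fun _ _ => rfl
  haveI : SMulCommClass N (ZMod p) (Fin 2 → ZMod p) := ⟨fun h c v => by rw [hs, hs, mulVec_smul]⟩
  haveI : MulAction.IsPretransitive N (ℙ (ZMod p) (Fin 2 → ZMod p)) := ⟨fun x y => by
    induction x using Projectivization.ind with | h s h1 => ?_
    induction y using Projectivization.ind with | h s' h2 => ?_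
    obtain ⟨h, a, e⟩ := htr s s' h1 h2
    exact ⟨h, by
      rw [Projectivization.smul_mk]
      exact ((Projectivization.mk_eq_mk_iff' _ _ _ _ _).2 ⟨a, e.symm⟩).symm⟩⟩
  have h0 : (Pi.single 0 1 : Fin 2 → ZMod p) ≠ 0 := by simp
  set x0 := Projectivization.mk (ZMod p) _ h0 with hx0
  have h1 : (MulAction.stabilizer N x0).index = p + 1 := by
    rw [MulAction.index_stabilizer_of_transitive, Projectivization.card_of_finrank_two _ _ (by simp), Nat.card_zmod]
  have h2 : l ^ a ∣ (MulAction.stabilizer N x0).relIndex P := by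
    have h3 : (MulAction.stabilizer N x0 ⊓ P).relIndex P * (P : Subgroup N).index =
        (MulAction.stabilizer N x0 ⊓ P).relIndex (MulAction.stabilizer N x0) * (p + 1) := by
      rw [← h1, Subgroup.relIndex_mul_index inf_le_right, Subgroup.relIndex_mul_index inf_le_left]
    rw [Subgroup.inf_relIndex_right] at h3
    refine (Nat.Coprime.pow_left a ((Nat.Prime.coprime_iff_not_dvd Fact.out).2 P.not_dvd_index)).dvd_of_dvd_mul_right ?_
    rw [h3]
    exact hd.mul_left _
  have h3 : (MulAction.stabilizer N x0).relIndex P = (MulAction.orbit (P : Subgroup N) x0).ncard := by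
    rw [← MulAction.index_stabilizer]
    rfl
  have h4 : MulAction.orbit (P : Subgroup N) x0 ⊆ (fun h : N => h • x0) '' L := by
    rintro _ ⟨h, rfl⟩
    obtain ⟨x, hx, c, e⟩ := hL h h.2
    refine ⟨x, hx, ?_⟩
    change x • x0 = (h : N) • x0
    rw [hx0, Projectivization.smul_mk, Projectivization.smul_mk]
    exact ((Projectivization.mk_eq_mk_iff' _ _ _ _ _).2 ⟨c, by rw [hs, hs, e, smul_mulVec]⟩).symm
  have h5 : (MulAction.orbit (P : Subgroup N) x0).ncard ≤ L.card :=
    (Set.ncard_le_ncard h4 (L.finite_toSet.image _)).trans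
      ((Set.ncard_image_le L.finite_toSet).trans (Set.ncard_coe_finset L).le)
  refine (Nat.le_of_dvd ?_ h2).trans (h3 ▸ h5)
  exact Nat.pos_of_ne_zero (Subgroup.index_ne_zero_of_finite)

/-- the traces on the Sylow subgroup `P` are rational -/
def Rat (τ : N →* M2 (ZMod p)) (l : ℕ) (P : Subgroup N) : Prop :=
  ∀ h ∈ P, ∀ j : ℕ, ¬ l ∣ j → (τ (h ^ j)).trace = (τ h).trace

theorem pow_card (h : N) : τ h ^ Nat.card N = 1 := by rw [← map_pow, pow_card_eq_one', map_one]

theorem odd_case (hN : ¬ p ∣ Nat.card N) {l : ℕ} [hl : Fact l.Prime] (hl2 : l ≠ 2) (hd : l ∣ p + 1) (P : Sylow l N)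
    (hR : Rat τ l P) {h : N} (hh : h ∈ (P : Subgroup N)) :
    (τ h).det = 1 ∧ (τ h = 1 ∨ (τ h).trace = -1) := by
  have hN' : ((Nat.card N : ℕ) : ZMod p) ≠ 0 := fun e => hN ((ZMod.natCast_eq_zero_iff _ _).1 e)
  have hdet : (τ h).det = 1 := by
    obtain ⟨k, hk⟩ := P.isPGroup' ⟨h, hh⟩
    have h1 : (τ h).det ^ l ^ k = 1 := by
      rw [← det_pow, ← map_pow, show h ^ l ^ k = 1 from congrArg Subtype.val hk, map_one, det_one]
    have h2 : (τ h).det ≠ 0 := by
      intro e
      rw [e, zero_pow (pow_pos hl.out.pos k).ne'] at h1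
      exact zero_ne_one h1
    have h3 := ZMod.pow_card_sub_one_eq_one h2
    have h4 : Nat.Coprime (l ^ k) (p - 1) := by
      refine Nat.Coprime.pow_left _ ((Nat.Prime.coprime_iff_not_dvd hl.out).2 fun h5 => hl2 ?_)
      have h6 : l ∣ (p + 1) - (p - 1) := Nat.dvd_sub hd h5
      have h7 : p + 1 - (p - 1) = 2 := by have := hp.out.two_le; omega
      rw [h7] at h6
      exact (Nat.prime_dvd_prime_iff_eq hl.out Nat.prime_two).1 h6
    exact (pow_eq_one_iff_of_coprime h4).1 ⟨h1, h3⟩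
  refine ⟨hdet, ?_⟩
  have h1 := hR h hh 2 fun e => hl2 ((Nat.prime_dvd_prime_iff_eq hl.out Nat.prime_two).1 e)
  rw [map_pow, pow_two, trace_sq, hdet] at h1
  have h2 : ((τ h).trace - 2) * ((τ h).trace + 1) = 0 := by linear_combination h1
  rcases mul_eq_zero.1 h2 with h3 | h3
  · left
    have := eq_of_double (e := 1) (by linear_combination h3) (by rw [hdet]; ring) hN' (pow_card h)
    rwa [one_smul] at this
  · right
    linear_combination h3

theorem not_big_prime (htr : Tr2 τ) (hN : ¬ p ∣ Nat.card N) {l : ℕ} [hl : Fact l.Prime] (hl5 : 5 ≤ l) (hd : l ∣ p + 1)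
    (P : Sylow l N) (hR : Rat τ l P) : False := by
  have h1 := le_of_cover htr P (a := 1) (by rwa [pow_one]) {1} fun h hh => ⟨1, Finset.mem_singleton_self _, 1, by
    rw [map_one, one_smul]
    obtain ⟨h1, h2 | h2⟩ := odd_case hN (by omega) hd P hR hh
    · exact h2
    have h3 : τ h ^ 3 = 1 := by
      have h4 := ch (τ h)
      rw [h1, h2] at h4
      rw [pow_succ, pow_two, h4, sub_mul, smul_mul_assoc, h4]
      simp
    obtain ⟨k, hk⟩ := P.isPGroup' ⟨h, hh⟩
    have h4 : τ h ^ l ^ k = 1 := by rw [← map_pow, show h ^ l ^ k = 1 from congrArg Subtype.val hk, map_one]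
    refine (pow_eq_one_iff_of_coprime (Nat.Coprime.pow_left k ?_)).1 ⟨h4, h3⟩
    exact (Nat.coprime_primes hl.out Nat.prime_three).2 (by omega)⟩
  rw [Finset.card_singleton, pow_one] at h1
  omega

theorem not_nine (htr : Tr2 τ) (hN : ¬ p ∣ Nat.card N) (hd : 9 ∣ p + 1) [Fact (Nat.Prime 3)] (P : Sylow 3 N)
    (hR : Rat τ 3 P) : False := by
  classical
  have h3 : 3 ∣ p + 1 := dvd_trans (by norm_num) hd
  have key := fun h (hh : h ∈ (P : Subgroup N)) => odd_case hN (by norm_num) h3 P hR hh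
  have h30 : (3 : ZMod p) ≠ 0 := by
    intro e
    have h1 : p ∣ 3 := (ZMod.natCast_eq_zero_iff 3 p).1 (by exact_mod_cast e)
    have h2 := (Nat.prime_dvd_prime_iff_eq hp.out Nat.prime_three).1 h1
    omega
  by_cases ha : ∃ a ∈ (P : Subgroup N), τ a ≠ 1
  swap
  · push Not at ha
    have h1 := le_of_cover htr P (a := 2) hd {1} fun h hh => ⟨1, Finset.mem_singleton_self _, 1, by
      rw [map_one, one_smul, ha h hh]⟩
    simp at h1
  obtain ⟨a, ha, ha1⟩ := ha
  have h1 := le_of_cover htr P (a := 2) hd {1, a, a⁻¹} fun h hh => by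
    rcases (key h hh).2 with h2 | h2
    · exact ⟨1, by simp, 1, by rw [map_one, one_smul, h2]⟩
    rcases (key _ (mul_mem ha hh)).2 with h4 | h4
    · refine ⟨a⁻¹, by simp, 1, ?_⟩
      rw [one_smul, ← one_mul (τ h), ← map_one τ, ← inv_mul_cancel a, map_mul, mul_assoc, ← map_mul τ a h, h4, mul_one]
    rcases (key _ (mul_mem (inv_mem ha) hh)).2 with h5 | h5
    · refine ⟨a, by simp, 1, ?_⟩
      rw [one_smul, ← one_mul (τ h), ← map_one τ, ← mul_inv_cancel a, map_mul, mul_assoc, ← map_mul τ a⁻¹ h, h5, mul_one]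
    exfalso
    have h6 : τ a⁻¹ = (τ a).adjugate := by
      have h7 := mul_adjugate (τ a)
      rw [(key a ha).1, one_smul] at h7
      rw [← mul_one (τ a⁻¹), ← h7, ← mul_assoc, ← map_mul, inv_mul_cancel, map_one, one_mul]
    have h7 := trace_mul_adj (τ a) (τ h)
    rw [← h6, ← map_mul, ← map_mul, h4, h5, h2, ((key a ha).2).resolve_left ha1] at h7
    exact h30 (by linear_combination -h7)
  have h2 : ({1, a, a⁻¹} : Finset N).card ≤ 3 := Finset.card_le_three
  omega

theorem not_eight (htr : Tr2 τ) (hN : ¬ p ∣ Nat.card N) (hd : 8 ∣ p + 1) [Fact (Nat.Prime 2)] (P : Sylow 2 N)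
    (hR : Rat τ 2 P) : False := by
  classical
  have hN' : ((Nat.card N : ℕ) : ZMod p) ≠ 0 := fun e => hN ((ZMod.natCast_eq_zero_iff _ _).1 e)
  have h20 : (2 : ZMod p) ≠ 0 := by
    intro e
    have h1 : p ∣ 2 := (ZMod.natCast_eq_zero_iff 2 p).1 (by exact_mod_cast e)
    have h2 := Nat.le_of_dvd two_pos h1
    omega
  have hdet : ∀ h : N, (τ h).det ≠ 0 := fun h e => by
    have h1 := congrArg det (pow_card (τ := τ) h)
    rw [det_pow, e, zero_pow Nat.card_pos.ne', det_one] at h1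
    exact zero_ne_one h1
  have key : ∀ h ∈ (P : Subgroup N), (∃ c : ZMod p, τ h = c • 1) ∨ (τ h).trace = 0 := by
    intro h hh
    obtain ⟨k, hk⟩ := P.isPGroup' ⟨h, hh⟩
    have h1 : (τ h).det ^ 2 ^ k = 1 := by
      rw [← det_pow, ← map_pow, show h ^ 2 ^ k = 1 from congrArg Subtype.val hk, map_one, det_one]
    have h3 := ZMod.pow_card_sub_one_eq_one (hdet h)
    have h4 : (τ h).det ^ 2 = 1 := by
      obtain ⟨m, hm⟩ : ∃ m, p - 1 = 2 * (2 * m + 1) := ⟨(p - 3) / 4, by omega⟩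
      rw [hm, pow_mul] at h3
      refine (pow_eq_one_iff_of_coprime (Nat.Coprime.pow_left k (show Nat.Coprime 2 (2 * m + 1) by simp))).1 ⟨?_, h3⟩
      rw [← pow_mul, mul_comm, pow_mul, h1, one_pow]
    have c2 := ch (τ h)
    have t3 := hR h hh 3 (by norm_num)
    have t5 := hR h hh 5 (by norm_num)
    have t1 : (1 : M2 (ZMod p)).trace = 2 := by simp
    have e3 : τ h ^ 3 = ((τ h).trace ^ 2 - (τ h).det) • τ h - ((τ h).trace * (τ h).det) • (1 : M2 (ZMod p)) := by
      rw [pow_succ, pow_two, c2, sub_mul, smul_mul_assoc, c2, smul_mul_assoc, one_mul]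
      module
    have e5 : τ h ^ 5 = ((τ h).trace ^ 4 - 3 * (τ h).trace ^ 2 * (τ h).det + (τ h).det ^ 2) • τ h -
        ((τ h).trace ^ 3 * (τ h).det - 2 * (τ h).trace * (τ h).det ^ 2) • (1 : M2 (ZMod p)) := by
      rw [show τ h ^ 5 = τ h ^ 3 * (τ h * τ h) by rw [← pow_two, ← pow_add], e3, c2]
      simp only [sub_mul, mul_sub, smul_mul_assoc, mul_smul_comm, one_mul, mul_one, c2]
      module
    rw [map_pow, e3, trace_sub, trace_smul, trace_smul, t1] at t3
    rw [map_pow, e5, trace_sub, trace_smul, trace_smul, t1] at t5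
    simp only [smul_eq_mul] at t3 t5
    by_cases h0 : (τ h).trace = 0
    · exact Or.inr h0
    left
    have h6 : (τ h).trace ^ 2 = 1 + 3 * (τ h).det := mul_left_cancel₀ h0 (by linear_combination t3)
    have h7 : (τ h).trace ^ 4 - 5 * (τ h).trace ^ 2 * (τ h).det + 5 * (τ h).det ^ 2 = 1 :=
      mul_left_cancel₀ h0 (by linear_combination t5)
    rcases sq_eq_one_iff.1 h4 with h8 | h8
    · rw [h8] at h6
      refine ⟨(τ h).trace / 2, eq_of_double (by field_simp) ?_ hN' (pow_card h)⟩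
      rw [h8, div_pow, h6]
      have : (2 : ZMod p) ^ 2 ≠ 0 := pow_ne_zero _ h20
      field_simp
      norm_num
    · exfalso
      rw [h8] at h6 h7
      apply h20
      linear_combination (-1) * h7 + ((τ h).trace ^ 2 + 3) * h6
  -- projectively equal elements
  have hsc : ∀ a h : N, (∃ c : ZMod p, τ (a⁻¹ * h) = c • 1) → ∃ c : ZMod p, τ h = c • τ a := by
    rintro a h ⟨c, e⟩
    exact ⟨c, by rw [← mul_inv_cancel_left a h, map_mul, e, mul_smul_comm, mul_one]⟩
  have hinv : ∀ a h : N, (τ a).trace = 0 → (τ (a⁻¹ * h)).trace = 0 → (τ a * τ h).trace = 0 := by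
    intro a h h1 h2
    have h3 : τ a * τ h = (-(τ a).det) • τ (a⁻¹ * h) := by
      have h4 := ch (τ a)
      rw [h1, zero_smul, zero_sub, ← neg_smul] at h4
      conv_lhs => rw [← mul_inv_cancel_left a h, map_mul, ← mul_assoc, h4, smul_mul_assoc, one_mul]
    rw [h3, trace_smul, h2, smul_zero]
  have fin : ∀ L : Finset N, L.card ≤ 4 → (∀ h ∈ (P : Subgroup N), ∃ x ∈ L, ∃ c : ZMod p, τ h = c • τ x) → False := by
    intro L h1 h2
    have := le_of_cover htr P (a := 3) hd L h2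
    omega
  by_cases ha : ∃ a ∈ (P : Subgroup N), ¬ ∃ c : ZMod p, τ a = c • 1
  swap
  · push Not at ha
    exact fin {1} (by simp) fun h hh => ⟨1, by simp, by rw [map_one]; exact ha h hh⟩
  obtain ⟨a, ha, ha1⟩ := ha
  by_cases hb : ∃ b ∈ (P : Subgroup N), (¬ ∃ c : ZMod p, τ b = c • 1) ∧ ¬ ∃ c : ZMod p, τ b = c • τ a
  swap
  · refine fin {1, a} (Finset.card_le_two.trans (by norm_num)) fun h hh => ?_
    by_cases h1 : ∃ c : ZMod p, τ h = c • 1
    · exact ⟨1, by simp, by rw [map_one]; exact h1⟩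
    · exact ⟨a, by simp, by_contra fun h2 => hb ⟨h, hh, h1, h2⟩⟩
  obtain ⟨b, hb, hb1, hb2⟩ := hb
  have ta := (key a ha).resolve_left ha1
  have tb := (key b hb).resolve_left hb1
  have tab := hinv a b ta ((key _ (mul_mem (inv_mem ha) hb)).resolve_left fun e => hb2 (hsc _ _ e))
  refine fin {1, a, b, a * b} Finset.card_le_four fun h hh => ?_
  by_contra hcon
  have n1 : ¬ ∃ c : ZMod p, τ h = c • 1 := fun e => hcon ⟨1, by simp only [_root_.Finset.mem_insert, _root_.Finset.mem_singleton, _root_.true_or], by rw [map_one]; exact e⟩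
  have n2 : ∀ x ∈ ({1, a, b, a * b} : Finset N), x ∈ (P : Subgroup N) → (τ (x⁻¹ * h)).trace = 0 := fun x hx hx' =>
    (key _ (mul_mem (inv_mem hx') hh)).resolve_left fun e => hcon ⟨x, hx, hsc _ _ e⟩
  have th := (key h hh).resolve_left n1
  have tab' : (τ (a * b)).trace = 0 := by rw [map_mul, tab]
  have e1 := anti ta th (hinv a h ta (n2 a (by simp only [_root_.Finset.mem_insert, _root_.Finset.mem_singleton, _root_.left_eq_mul, _root_.true_or, _root_.or_true]) ha))
  have e2 := anti tb th (hinv b h tb (n2 b (by simp only [_root_.Finset.mem_insert, _root_.Finset.mem_singleton, _root_.right_eq_mul, _root_.true_or, _root_.or_true]) hb))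
  have e3 := anti tab' th (hinv _ h tab' (n2 _ (by simp only [_root_.Finset.mem_insert, _root_.mul_eq_left, _root_.mul_eq_right, _root_.Finset.mem_singleton, _root_.or_true]) (mul_mem ha hb)))
  rw [map_mul, ← mul_assoc, e1, neg_mul, mul_assoc, e2, mul_neg, neg_neg, ← mul_assoc] at e3
  have e4 : (2 : ZMod p) • (τ a * τ b * τ h) = 0 := by
    rw [two_smul]
    nth_rewrite 1 [e3]
    exact neg_add_cancel _
  have e5 := (smul_eq_zero.1 e4).resolve_left h20
  rw [← map_mul, ← map_mul] at e5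
  exact hdet (a * b * h) (by rw [e5, det_zero])

end Cfsg.Agent.TO.X.Big
end

-- part: TO/X/BigB
section
/-!
# Traces on a common eigenspace of a group with rational character
-/

set_option autoImplicit false
set_option linter.unusedSectionVars false
set_option linter.style.haveILetI false

namespace Cfsg.Agent.TO.X.Big

open Matrix Module

/-- the trace of a finite group of integer matrices is fixed by the power maps -/
theorem rat_int {Γ ι : Type*} [Group Γ] [Finite Γ] [Fintype ι] [DecidableEq ι] (ρ : Γ →* Matrix ι ι ℤ) (z : Γ) {j : ℕ}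
    (hj : j.Coprime (Nat.card Γ)) : (ρ (z ^ j)).trace = (ρ z).trace := by
  let ρ' : Representation ℂ Γ (ι → ℂ) :=
    { toFun := fun z => Matrix.toLin' ((ρ z).map (Int.castRingHom ℂ))
      map_one' := by rw [map_one, Matrix.map_one _ (map_zero _) (map_one _), Matrix.toLin'_one]; rfl
      map_mul' := fun a b => by rw [map_mul, Matrix.map_mul, Matrix.toLin'_mul]; rfl }
  have h1 : ∀ z, ρ'.character z = ((ρ z).trace : ℂ) := fun z => by
    change LinearMap.trace ℂ _ (Matrix.toLin' ((ρ z).map (Int.castRingHom ℂ))) = _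
    rw [Matrix.trace_toLin'_eq]
    simp only [Matrix.trace, _root_.Int.coe_castRingHom, _root_.Matrix.diag_apply, _root_.Matrix.map_apply, _root_.Int.cast_sum]
  have h2 := (Characters.GaloisBasic.exists_rat_iff (Characters.Core.isCharacter_of_rep ρ') z).1
    ⟨((ρ z).trace : ℚ), by rw [h1]; simp only [_root_.Rat.cast_intCast]⟩ j hj
  rw [h1, h1] at h2
  exact_mod_cast h2

theorem exists_coprime {n r m : ℕ} (hn : n ≠ 0) (hm : m ≠ 0) (h : r.Coprime n) :
    ∃ j : ℕ, j ≡ r [MOD n] ∧ j.Coprime m := by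
  haveI : NeZero (n * m) := ⟨mul_ne_zero hn hm⟩
  haveI : NeZero n := ⟨hn⟩
  obtain ⟨u, hu⟩ := ZMod.unitsMap_surjective (n := n) (m := n * m) (dvd_mul_right n m) (ZMod.unitOfCoprime r h)
  refine ⟨(u : ZMod (n * m)).val, ?_, (ZMod.val_coe_unit_coprime u).coprime_dvd_right (dvd_mul_left m n)⟩
  rw [← ZMod.natCast_eq_natCast_iff]
  have h1 := congrArg (fun x : (ZMod n)ˣ => (x : ZMod n)) hu
  simp only [ZMod.unitsMap_val, ZMod.coe_unitOfCoprime] at h1
  rw [← h1, ZMod.natCast_val]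

section Fix

variable {F : Type*} [Field F] {V : Type*} [AddCommGroup V] [Module F V] [FiniteDimensional F V]
  {H : Type*} [Group H] [Fintype H] (θ : H →* Module.End F V)

theorem sum_fix (y : H) (v : V) : θ y (∑ x, θ x v) = ∑ x, θ x v := by
  rw [map_sum]
  exact Fintype.sum_equiv (Equiv.mulLeft y) _ _ fun x => by simp only [_root_.Equiv.coe_mulLeft, _root_.map_mul, _root_.Module.End.mul_apply]

theorem tr_fix {S : Submodule F V} (hS : ∀ v, v ∈ S ↔ ∀ x, θ x v = v) (a : Module.End F V) (ha : ∀ s ∈ S, a s ∈ S) :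
    (Fintype.card H : F) * LinearMap.trace F S (a.restrict ha) = ∑ x, LinearMap.trace F V (a * θ x) := by
  have h1 : ∀ v, (a * ∑ x, θ x) v ∈ S := fun v => by
    rw [Module.End.mul_apply, LinearMap.sum_apply]
    exact ha _ ((hS _).2 fun y => sum_fix θ y v)
  rw [← map_sum, ← Finset.mul_sum, ← LinearMap.trace_restrict_eq_of_forall_mem S _ h1, ← smul_eq_mul, ← map_smul]
  congr 1
  ext ⟨s, hs⟩
  simp only [LinearMap.sum_apply, (hS s).1 hs, Nat.cast_smul_eq_nsmul, _root_.nsmul_eq_mul, _root_.Module.End.mul_apply, _root_.Module.End.natCast_apply, _root_.SetLike.val_smul_of_tower, _root_.LinearMap.coe_restrict_apply, _root_.Finset.sum_const, _root_.Finset.card_univ, _root_.LinearMap.map_smul_of_tower]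

end Fix

variable {F : Type*} [Field F] [Finite F] {V : Type*} [AddCommGroup V] [Module F V] [FiniteDimensional F V]
  {Γ : Type*} [Group Γ] [Finite Γ] (σ : Γ →* Module.End F V) (S : Submodule F V)

/-- the pairs `(z, a)` with `z` acting on `S` as the scalar `a` -/
def ZS : Subgroup (Γ × Fˣ) where
  carrier := {x | ∀ s ∈ S, σ x.1 s = (x.2 : F) • s}
  one_mem' := fun s _ => by simp only [_root_.Prod.fst_one, _root_.map_one, _root_.Module.End.one_apply, _root_.Prod.snd_one, _root_.Units.val_one, _root_.one_smul]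
  mul_mem' := fun {x y} hx hy s hs => by
    simp only [Prod.fst_mul, Prod.snd_mul, map_mul, Module.End.mul_apply, Units.val_mul]
    rw [hy s hs, map_smul, hx s hs, smul_smul, mul_comm]
  inv_mem' := fun {x} hx s hs => by
    have h1 := congrArg (σ x.1⁻¹) (hx s hs)
    rw [← Module.End.mul_apply, ← map_mul, inv_mul_cancel, map_one, Module.End.one_apply, map_smul] at h1
    simp only [Prod.fst_inv, Prod.snd_inv]
    conv_rhs => rw [h1, smul_smul, Units.inv_mul, one_smul]

/-- the stabiliser of `S` -/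
def NS : Subgroup Γ where
  carrier := {h | ∀ s ∈ S, σ h s ∈ S}
  one_mem' := fun s hs => by simpa only [_root_.map_one, _root_.Module.End.one_apply] using hs
  mul_mem' := fun {x y} hx hy s hs => by
    rw [map_mul, Module.End.mul_apply]
    exact hx _ (hy s hs)
  inv_mem' := fun {x} hx s hs => by
    have h1 : ∀ k : ℕ, σ (x ^ k) s ∈ S := fun k => by
      induction k with
      | zero => simpa using hs
      | succ k ih => rw [pow_succ', map_mul, Module.End.mul_apply]; exact hx _ ih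
    have h2 : x⁻¹ = x ^ (Nat.card Γ - 1) := by
      rw [inv_eq_iff_mul_eq_one, ← pow_succ', Nat.sub_add_cancel Nat.card_pos, pow_card_eq_one']
    rw [h2]
    exact h1 _

/-- the action of the stabiliser on `S` -/
def res : NS σ S →* Module.End F S where
  toFun h := (σ h.1).restrict h.2
  map_one' := by ext s; simp only [_root_.OneMemClass.coe_one, _root_.map_one, _root_.LinearMap.coe_restrict_apply, _root_.Module.End.one_apply]
  map_mul' x y := by
    ext s
    change σ (x.1 * y.1) s = σ x.1 (σ y.1 s)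
    rw [map_mul, Module.End.mul_apply]

/-- the twisted action of a group of pairs -/
noncomputable def tw (Z : Subgroup (Γ × Fˣ)) (j : ℕ) : Z →* Module.End F V where
  toFun x := (((x.1.2 ^ j)⁻¹ : Fˣ) : F) • σ x.1.1
  map_one' := by simp only [_root_.OneMemClass.coe_one, _root_.Prod.snd_one, _root_.one_pow, _root_.inv_one, _root_.Units.val_one, _root_.Prod.fst_one, _root_.map_one, _root_.one_smul]
  map_mul' x y := by
    simp only [Subgroup.coe_mul, Prod.fst_mul, Prod.snd_mul, map_mul, mul_pow, mul_inv, Units.val_mul, smul_mul_smul_comm]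

theorem tw_fix (Z : Subgroup (Γ × Fˣ)) (j : ℕ) (x : Z) (v : V) :
    tw σ Z j x v = v ↔ σ x.1.1 v = (x.1.2 : F) ^ j • v := by
  change (((x.1.2 ^ j)⁻¹ : Fˣ) : F) • σ x.1.1 v = v ↔ _
  rw [← Units.smul_def, inv_smul_eq_iff, Units.smul_def, Units.val_pow_eq_pow_val]

/-- the character of `σ` is fixed by the power maps -/
def RatC : Prop :=
  ∀ (z : Γ) (j : ℕ), j.Coprime (Nat.card Γ) → LinearMap.trace F V (σ (z ^ j)) = LinearMap.trace F V (σ z)

/-- `S` is the whole common eigenspace of the elements acting on it as scalars -/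
def Full : Prop := ∀ v, (∀ x ∈ ZS σ S, σ x.1 v = (x.2 : F) • v) → v ∈ S

variable {σ S}

theorem card_ne (hΓ : (Nat.card Γ : F) ≠ 0) (Z : Subgroup (Γ × Fˣ)) : (Nat.card Z : F) ≠ 0 := by
  obtain ⟨k, hk⟩ := Z.card_subgroup_dvd_card
  intro e
  have h1 : ((Nat.card (Γ × Fˣ) : ℕ) : F) = 0 := by rw [hk, Nat.cast_mul, e, zero_mul]
  rw [Nat.card_prod, Nat.cast_mul, Nat.card_units, Nat.cast_sub Nat.card_pos] at h1
  haveI := Fintype.ofFinite F
  rw [Nat.card_eq_fintype_card (α := F), FiniteField.cast_card_eq_zero] at h1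
  simp only [hΓ, _root_.Nat.succ_eq_add_one, _root_.zero_add, _root_.Nat.cast_one, _root_.zero_sub, _root_.mul_neg, _root_.mul_one, _root_.neg_eq_zero] at h1

theorem tr_pow (hΓ : (Nat.card Γ : F) ≠ 0) (hr : RatC σ) (hS : Full σ S) (h : NS σ S) {j : ℕ}
    (hj : j.Coprime (Nat.card Γ)) (hj1 : ∀ a : Fˣ, a ^ j = a) :
    LinearMap.trace F S (res σ S (h ^ j)) = LinearMap.trace F S (res σ S h) := by
  classical
  obtain ⟨h, hh⟩ := h
  haveI := Fintype.ofFinite (ZS σ S)
  have hS' : ∀ v, v ∈ S ↔ ∀ x, tw σ (ZS σ S) 1 x v = v := fun v => by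
    simp only [tw_fix, pow_one]
    exact ⟨fun hv x => x.2 v hv, fun hv => hS v fun x hx => hv ⟨x, hx⟩⟩
  refine mul_left_cancel₀ (Nat.card_eq_fintype_card (α := ZS σ S) ▸ card_ne hΓ (ZS σ S)) ?_
  refine (tr_fix _ hS' (σ (h ^ j)) (pow_mem hh j)).trans (Eq.trans ?_ (tr_fix _ hS' (σ h) hh).symm)
  have key : ∀ x ∈ ZS σ S, ∀ k : ℕ, ∀ s ∈ S, σ ((h * x.1) ^ k) s = (x.2 : F) ^ k • σ (h ^ k) s := by
    intro x hx k
    induction k with
    | zero => simp only [_root_.pow_zero, _root_.map_one, _root_.Module.End.one_apply, _root_.one_smul, _root_.implies_true]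
    | succ k ih =>
      intro s hs
      rw [pow_succ, map_mul, Module.End.mul_apply, map_mul, Module.End.mul_apply, hx s hs, map_smul, map_smul,
        ih _ (hh s hs), smul_smul, ← pow_succ', pow_succ h, map_mul, Module.End.mul_apply]
  let φ : ZS σ S → ZS σ S := fun x => ⟨((h ^ j)⁻¹ * (h * x.1.1) ^ j, x.1.2), fun s hs => by
    rw [map_mul, Module.End.mul_apply, key _ x.2 j s hs, map_smul, ← Module.End.mul_apply, ← map_mul, inv_mul_cancel,
      map_one, Module.End.one_apply, ← Units.val_pow_eq_pow_val, hj1]⟩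
  have hφ : Function.Injective φ := fun x y e => by
    have e1 : (h ^ j)⁻¹ * (h * x.1.1) ^ j = (h ^ j)⁻¹ * (h * y.1.1) ^ j := congrArg (fun t : ZS σ S => t.1.1) e
    have e2 : (φ x).1.2 = (φ y).1.2 := by rw [e]
    exact Subtype.ext (Prod.ext (mul_left_cancel (hj.symm.pow_left_bijective.1 (mul_left_cancel e1))) e2)
  refine (Fintype.sum_bijective φ (Finite.injective_iff_bijective.1 hφ) _ _ fun x => ?_).symm
  change LinearMap.trace F V (σ h * ((((x.1.2 ^ 1)⁻¹ : Fˣ) : F) • σ x.1.1)) =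
    LinearMap.trace F V (σ (h ^ j) * ((((x.1.2 ^ 1)⁻¹ : Fˣ) : F) • σ ((h ^ j)⁻¹ * (h * x.1.1) ^ j)))
  rw [mul_smul_comm, mul_smul_comm, map_smul, map_smul, ← map_mul, ← map_mul, mul_inv_cancel_left, hr _ _ hj]

/-- the Galois conjugate eigenspace -/
def Ej (σ : Γ →* Module.End F V) (S : Submodule F V) (j : ℕ) : Submodule F V where
  carrier := {v | ∀ x ∈ ZS σ S, σ x.1 v = (x.2 : F) ^ j • v}
  zero_mem' := fun x _ => by simp
  add_mem' := fun {v w} hv hw x hx => by rw [map_add, hv x hx, hw x hx, smul_add]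
  smul_mem' := fun a v hv x hx => by rw [map_smul, hv x hx, smul_comm]

theorem finrank_Ej (hΓ : (Nat.card Γ : F) ≠ 0) (hr : RatC σ) (hS : Full σ S) {j : ℕ}
    (hj : j.Coprime (Nat.card (Γ × Fˣ))) : (finrank F (Ej σ S j) : F) = finrank F S := by
  classical
  haveI := Fintype.ofFinite (ZS σ S)
  have hS' : ∀ v, v ∈ S ↔ ∀ x, tw σ (ZS σ S) 1 x v = v := fun v => by
    simp only [tw_fix, pow_one]
    exact ⟨fun hv x => x.2 v hv, fun hv => hS v fun x hx => hv ⟨x, hx⟩⟩
  have hE : ∀ v, v ∈ Ej σ S j ↔ ∀ x, tw σ (ZS σ S) j x v = v := fun v => by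
    simp only [tw_fix]
    exact ⟨fun hv x => hv x.1 x.2, fun hv x hx => hv ⟨x, hx⟩⟩
  have h1 := tr_fix _ hS' 1 fun s hs => hs
  have h2 := tr_fix _ hE 1 fun s hs => hs
  have e : ∀ T : Submodule F V, (1 : Module.End F V).restrict (p := T) (q := T) (fun _ hs => hs) = 1 := fun T => rfl
  rw [e, LinearMap.trace_one] at h1 h2
  refine mul_left_cancel₀ (Nat.card_eq_fintype_card (α := ZS σ S) ▸ card_ne hΓ (ZS σ S)) ?_
  rw [h1, h2]
  have hj1 : j.Coprime (Nat.card Γ) := hj.coprime_dvd_right (by rw [Nat.card_prod]; exact dvd_mul_right _ _)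
  refine Fintype.sum_bijective _ (hj.coprime_dvd_right (ZS σ S).card_subgroup_dvd_card).symm.pow_left_bijective _ _
    fun x => ?_
  change LinearMap.trace F V (1 * ((((x.1.2 ^ j)⁻¹ : Fˣ) : F) • σ x.1.1)) =
    LinearMap.trace F V (1 * (((((x.1.2 ^ j) ^ 1)⁻¹ : Fˣ) : F) • σ (x.1.1 ^ j)))
  rw [one_mul, one_mul, map_smul, map_smul, hr _ _ hj1, pow_one]

end Cfsg.Agent.TO.X.Big
end

-- part: TO/X/BigC
section
/-!
# The Killing form and the counting of roots on a transitive subspace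
-/

set_option autoImplicit false
set_option linter.unusedSectionVars false
set_option linter.style.haveILetI false

namespace Cfsg.Agent.TO.X.Big

open Matrix Module

variable {F : Type*} [Field F] [Finite F] {V : Type*} [AddCommGroup V] [Module F V] [FiniteDimensional F V]
  {Γ : Type*} [Group Γ] [Finite Γ] {A : Type*} [Fintype A]

/-- the Killing form of a family of linear forms -/
def kil (ev : A → Module.Dual F V) (v w : V) : F := ∑ α, ev α v * ev α w

/-- a family of linear forms permuted by the group, closed under negation, with non-degenerate Killing form -/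
structure Rt (σ : Γ →* Module.End F V) (ev : A → Module.Dual F V) : Prop where
  perm : ∀ z : Γ, ∃ e : Equiv.Perm A, ∀ α v, ev (e α) v = ev α (σ z v)
  neg : ∃ ν : A → A, (∀ α, ν (ν α) = α) ∧ ∀ α, ev (ν α) = -ev α
  nd : ∀ v, (∀ w, kil ev v w = 0) → v = 0

/-- the stabiliser of `S` is transitive on the points of `S` -/
def Trs (σ : Γ →* Module.End F V) (S : Submodule F V) : Prop :=
  ∀ s ∈ S, ∀ s' ∈ S, s ≠ 0 → s' ≠ 0 → ∃ h : Γ, (∀ t ∈ S, σ h t ∈ S) ∧ ∃ a : F, s' = a • σ h s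

variable {σ : Γ →* Module.End F V} {S : Submodule F V} {ev : A → Module.Dual F V}

theorem kil_comm (v w : V) : kil ev v w = kil ev w v := Finset.sum_congr rfl fun _ _ => mul_comm _ _

theorem kil_add (v w u : V) : kil ev v (w + u) = kil ev v w + kil ev v u := by
  simp only [kil, map_add, mul_add, Finset.sum_add_distrib]

theorem kil_smul (v w : V) (a : F) : kil ev v (a • w) = a * kil ev v w := by
  simp only [kil, map_smul, smul_eq_mul, Finset.mul_sum]
  exact Finset.sum_congr rfl fun _ _ => by ring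

theorem kil_sum {B : Type*} [Fintype B] (v : V) (w : B → V) : kil ev v (∑ x, w x) = ∑ x, kil ev v (w x) := by
  simp only [kil, map_sum, Finset.mul_sum]
  exact Finset.sum_comm

theorem kil_comb (s t : V) (x y : F) :
    kil ev (x • s + y • t) (x • s + y • t) = x ^ 2 * kil ev s s + 2 * x * y * kil ev s t + y ^ 2 * kil ev t t := by
  rw [kil_add, kil_smul, kil_smul, kil_comm _ s, kil_comm _ t, kil_add, kil_add, kil_smul, kil_smul, kil_smul, kil_smul,
    kil_comm t s]
  ring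

theorem Rt.inv (hR : Rt σ ev) (z : Γ) (v w : V) : kil ev (σ z v) (σ z w) = kil ev v w := by
  obtain ⟨e, he⟩ := hR.perm z
  simp only [kil, ← he]
  exact Equiv.sum_comp e fun α => ev α v * ev α w

/-- a quadratic form with constant square class on a space of dimension at least two vanishes -/
theorem iso_of_sq {p : ℕ} [Fact p.Prime] (hp : p ≠ 2) {V : Type*} [AddCommGroup V] [Module (ZMod p) V]
    [FiniteDimensional (ZMod p) V] {S : Submodule (ZMod p) V} {ev : A → Module.Dual (ZMod p) V} (h2 : 2 ≤ finrank (ZMod p) S)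
    (hsq : ∀ s ∈ S, ∀ s' ∈ S, s ≠ 0 → s' ≠ 0 → ∃ a, kil ev s' s' = a ^ 2 * kil ev s s) :
    ∀ s ∈ S, ∀ t ∈ S, kil ev s t = 0 := by
  have h20 : (2 : ZMod p) ≠ 0 := fun e =>
    hp ((Nat.prime_dvd_prime_iff_eq Fact.out Nat.prime_two).1 ((ZMod.natCast_eq_zero_iff 2 p).1 (by exact_mod_cast e)))
  suffices h : ∀ s ∈ S, kil ev s s = 0 by
    intro s hs t ht
    have h1 := kil_comb (ev := ev) s t 1 1
    rw [h _ (add_mem (S.smul_mem _ hs) (S.smul_mem _ ht)), h s hs, h t ht] at h1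
    exact mul_left_cancel₀ h20 (by linear_combination -h1)
  intro s hs
  by_contra h0
  have hs0 : s ≠ 0 := by
    rintro rfl
    exact h0 (by simp only [kil, _root_.map_zero, _root_.MulZeroClass.mul_zero, _root_.Finset.sum_const_zero])
  -- a vector orthogonal to `s`
  let f : S →ₗ[ZMod p] ZMod p :=
    { toFun := fun t => kil ev s t
      map_add' := fun x y => kil_add _ _ _
      map_smul' := fun a x => kil_smul _ _ _ }
  obtain ⟨t, ht, ht0⟩ : ∃ t ∈ LinearMap.ker f, t ≠ 0 := by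
    refine Submodule.exists_mem_ne_zero_of_ne_bot (LinearMap.ker_ne_bot_of_finrank_lt ?_)
    rw [finrank_self]
    omega
  have ht1 : kil ev s t = 0 := ht
  obtain ⟨b, hb⟩ := hsq t t.2 s hs (fun e => ht0 (Subtype.ext e)) hs0
  obtain ⟨r, hr⟩ := FiniteField.exists_nonsquare (F := ZMod p) (by rw [ZMod.ringChar_zmod_n]; exact hp)
  obtain ⟨x, y, e⟩ := ZMod.sq_add_sq p r
  have h1 : kil ev (x • s + (y * b) • (t : V)) (x • s + (y * b) • (t : V)) = r * kil ev s s := by
    rw [kil_comb, ht1, ← e]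
    linear_combination (-y ^ 2) * hb
  have h3 : x • s + (y * b) • (t : V) ≠ 0 := by
    intro e0
    rw [e0] at h1
    have h4 : r * kil ev s s = 0 := by rw [← h1]; simp only [kil, _root_.map_zero, _root_.MulZeroClass.mul_zero, _root_.Finset.sum_const_zero]
    exact hr (((mul_eq_zero.1 h4).resolve_right h0).symm ▸ IsSquare.zero)
  obtain ⟨a, ha⟩ := hsq s hs _ (add_mem (S.smul_mem _ hs) (S.smul_mem _ t.2)) hs0 h3
  exact hr ⟨a, by rw [← pow_two]; exact mul_right_cancel₀ h0 (h1.symm.trans ha)⟩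

/-- the Killing form vanishes on a transitive subspace -/
theorem iso {p : ℕ} [Fact p.Prime] (hp : p ≠ 2) {V : Type*} [AddCommGroup V] [Module (ZMod p) V]
    [FiniteDimensional (ZMod p) V] {σ : Γ →* Module.End (ZMod p) V} {S : Submodule (ZMod p) V}
    {ev : A → Module.Dual (ZMod p) V} (hR : Rt σ ev) (h2 : 2 ≤ finrank (ZMod p) S) (htr : Trs σ S) :
    ∀ s ∈ S, ∀ t ∈ S, kil ev s t = 0 :=
  iso_of_sq hp h2 fun s hs s' hs' h0 h0' => by
    obtain ⟨h, -, a, rfl⟩ := htr s hs s' hs' h0 h0'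
    exact ⟨a, by rw [kil_smul, kil_comm, kil_smul, hR.inv]; ring⟩

/-- a common eigenspace for eigenvalues `± 1` is non-degenerate -/
theorem eq_bot_of_iso (hΓ : (Nat.card Γ : F) ≠ 0) (hR : Rt σ ev) (hK : ∀ s ∈ S, ∀ t ∈ S, kil ev s t = 0)
    (hS : ∀ v, (∀ x ∈ ZS σ S, (x.2 : F) ^ 2 = 1 → σ x.1 v = (x.2 : F) • v) → v ∈ S) : S = ⊥ := by
  classical
  let Z : Subgroup (Γ × Fˣ) := ZS σ S ⊓ (powMonoidHom 2 : Fˣ →* Fˣ).ker.comap (MonoidHom.snd Γ Fˣ)
  have hZ : ∀ x, x ∈ Z ↔ x ∈ ZS σ S ∧ (x.2 : F) ^ 2 = 1 := fun x => by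
    simp only [Z, Subgroup.mem_inf, Subgroup.mem_comap, MonoidHom.mem_ker, powMonoidHom_apply, MonoidHom.coe_snd]
    rw [← Units.val_pow_eq_pow_val, Units.val_eq_one]
  haveI := Fintype.ofFinite Z
  refine (Submodule.eq_bot_iff _).2 fun s hs => hR.nd s fun w => ?_
  have h1 : ∑ x, tw σ Z 1 x w ∈ S := hS _ fun x hx hx2 => by
    have := (tw_fix σ Z 1 ⟨x, (hZ x).2 ⟨hx, hx2⟩⟩ _).1 (sum_fix (tw σ Z 1) _ w)
    rwa [pow_one] at this
  have h2 := hK s hs _ h1
  rw [kil_sum] at h2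
  have h3 : ∀ x : Z, kil ev s (tw σ Z 1 x w) = kil ev s w := fun x => by
    obtain ⟨hx, hx2⟩ := (hZ x).1 x.2
    change kil ev s ((((x.1.2 ^ 1)⁻¹ : Fˣ) : F) • σ x.1.1 w) = _
    have h4 := hR.inv x.1.1 s w
    rw [hx s hs, kil_comm, kil_smul, kil_comm] at h4
    rw [kil_smul, ← h4, pow_one]
    congr 1
    rw [Units.val_inv_eq_inv_val]
    exact inv_eq_of_mul_eq_one_right (by rw [← pow_two, hx2])
  simp only [h3, Finset.sum_const, Finset.card_univ, nsmul_eq_mul] at h2
  exact (mul_eq_zero.1 h2).resolve_left (Nat.card_eq_fintype_card (α := Z) ▸ card_ne hΓ Z)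

open Classical in
/-- the members of the family that do not vanish on `S` -/
noncomputable def out (ev : A → Module.Dual F V) (S : Submodule F V) : Finset A :=
  Finset.univ.filter fun α => ¬ ∀ s ∈ S, ev α s = 0

open Classical in
/-- the members of the family that vanish at `s` but not on `S` -/
noncomputable def van (ev : A → Module.Dual F V) (S : Submodule F V) (s : V) : Finset A :=
  (out ev S).filter fun α => ev α s = 0

theorem mem_out {α : A} : α ∈ out ev S ↔ ¬ ∀ s ∈ S, ev α s = 0 := by simp only [out, Finset.mem_filter, Finset.mem_univ, true_and]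

theorem mem_van {α : A} {s : V} : α ∈ van ev S s ↔ (¬ ∀ s ∈ S, ev α s = 0) ∧ ev α s = 0 := by
  simp only [van, Finset.mem_filter, mem_out]

theorem out_nonempty (hR : Rt σ ev) (hS : S ≠ ⊥) : (out ev S).Nonempty := by
  obtain ⟨s, hs, h0⟩ := Submodule.exists_mem_ne_zero_of_ne_bot hS
  by_contra h
  refine h0 (hR.nd s fun w => Finset.sum_eq_zero fun α _ => ?_)
  have : ∀ s ∈ S, ev α s = 0 := by_contra fun h1 => h ⟨α, mem_out.2 h1⟩
  rw [this s hs, zero_mul]

theorem even_card (h2 : (2 : F) ≠ 0) (hR : Rt σ ev) (T : Finset A) (hT : ∀ α ∈ T, ev α ≠ 0)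
    (hT' : ∀ α ∈ T, ∀ β, ev β = -ev α → β ∈ T) : Even T.card := by
  obtain ⟨ν, h1, h3⟩ := hR.neg
  have h4 : ∑ _α ∈ T, (1 : ZMod 2) = 0 :=
    Finset.sum_involution (fun α _ => ν α) (fun _ _ => by decide) (fun α hα _ e => hT α hα (by
      have h5 := h3 α
      rw [e, eq_neg_iff_add_eq_zero, ← two_smul F] at h5
      exact (smul_eq_zero.1 h5).resolve_left h2)) (fun α hα => hT' α hα _ (h3 α)) fun α _ => h1 α
  rw [Finset.sum_const, nsmul_eq_mul, mul_one] at h4
  exact (ZMod.natCast_eq_zero_iff_even).1 h4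

theorem even_out (h2 : (2 : F) ≠ 0) (hR : Rt σ ev) : Even (out ev S).card :=
  even_card h2 hR _ (fun α hα e => mem_out.1 hα fun s _ => by rw [e]; rfl) fun α hα β e =>
    mem_out.2 fun h => mem_out.1 hα fun s hs => by simpa only [e, _root_.LinearMap.neg_apply, _root_.neg_eq_zero] using h s hs

theorem even_van (h2 : (2 : F) ≠ 0) (hR : Rt σ ev) (s : V) : Even (van ev S s).card :=
  even_card h2 hR _ (fun α hα e => (mem_van.1 hα).1 fun s _ => by rw [e]; rfl) fun α hα β e =>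
    mem_van.2 ⟨fun h => (mem_van.1 hα).1 fun s hs => by simpa only [e, _root_.LinearMap.neg_apply, _root_.neg_eq_zero] using h s hs, by simp [e, (mem_van.1 hα).2]⟩

theorem van_eq (hR : Rt σ ev) (htr : Trs σ S) {s s' : V} (hs : s ∈ S) (hs' : s' ∈ S) (h0 : s ≠ 0) (h0' : s' ≠ 0) :
    (van ev S s').card = (van ev S s).card := by
  obtain ⟨h, hh, a, rfl⟩ := htr s hs s' hs' h0 h0'
  obtain ⟨e, he⟩ := hR.perm h
  have ha : a ≠ 0 := by
    rintro rfl
    exact h0' (zero_smul _ _)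
  refine Finset.card_bijective e e.bijective fun α => ?_
  rw [mem_van, mem_van, he, map_smul, smul_eq_mul, mul_eq_zero, or_iff_right ha]
  refine and_congr_left' (not_congr ⟨fun h1 t ht => by rw [he]; exact h1 _ (hh t ht), fun h1 t ht => ?_⟩)
  have h2 := h1 _ ((NS σ S).inv_mem (show h ∈ NS σ S from hh) t ht)
  rwa [he, ← Module.End.mul_apply, ← map_mul, mul_inv_cancel, map_one, Module.End.one_apply] at h2

/-- double counting of the pairs (form, non-zero vector of `S` in its kernel) -/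
theorem cnt_of_eq {m : ℕ} (hm : ∀ s ∈ S, s ≠ 0 → (van ev S s).card = m) :
    (out ev S).card * (Nat.card F ^ (finrank F S - 1) - 1) = (Nat.card F ^ finrank F S - 1) * m := by
  classical
  haveI : Finite V := Module.finite_of_finite F
  haveI := Fintype.ofFinite S
  have h1 : (Finset.univ.erase (0 : S)).card = Nat.card F ^ finrank F S - 1 := by
    rw [Finset.card_erase_of_mem (Finset.mem_univ _), Finset.card_univ, ← Nat.card_eq_fintype_card,
      Module.natCard_eq_pow_finrank (K := F)]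
  rw [← h1]
  refine Finset.card_mul_eq_card_mul (fun α (s : S) => ev α s = 0) (fun α hα => ?_) fun s hs => ?_
  · let f : S →ₗ[F] F := (ev α).comp S.subtype
    have hf : f ≠ 0 := fun e => mem_out.1 hα fun s hs => by
      have := congrArg (fun g : S →ₗ[F] F => g ⟨s, hs⟩) e
      simpa only [f, _root_.LinearMap.coe_comp, _root_.Submodule.coe_subtype, _root_.Function.comp_apply, _root_.LinearMap.zero_apply] using this
    have h2 : finrank F (LinearMap.ker f) = finrank F S - 1 := by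
      have := Module.Dual.finrank_ker_add_one_of_ne_zero hf
      omega
    have h3 : (Finset.univ.erase (0 : S)).bipartiteAbove (fun α (s : S) => ev α s = 0) α =
        (Finset.univ.filter fun s : S => s ∈ LinearMap.ker f).erase 0 := by
      ext s
      simp only [Finset.mem_bipartiteAbove, f, _root_.Finset.mem_erase, _root_.ne_eq, _root_.Finset.mem_univ, _root_.and_true, _root_.LinearMap.mem_ker, _root_.LinearMap.coe_comp, _root_.Submodule.coe_subtype, _root_.Function.comp_apply, _root_.Finset.mem_filter, _root_.true_and]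
    rw [h3, Finset.card_erase_of_mem (by simp only [_root_.LinearMap.mem_ker, _root_.Finset.mem_filter, _root_.Finset.mem_univ, _root_.map_zero, _root_.and_self]), ← h2, ← Module.natCard_eq_pow_finrank (K := F), ← Fintype.card_subtype,
      Nat.card_eq_fintype_card]
  · rw [← hm s s.2 fun e => (Finset.mem_erase.1 hs).1 (Subtype.ext e)]
    congr 1

end Cfsg.Agent.TO.X.Big
end

-- part: TO/X/BigD
section
/-!
# Transitive eigenspaces of a group with rational character: large primes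
-/

set_option autoImplicit false
set_option linter.unusedSectionVars false
set_option linter.style.haveILetI false

namespace Cfsg.Agent.TO.X.Big

open Matrix Module

variable {p : ℕ} [hp : Fact p.Prime] {V : Type*} [AddCommGroup V] [Module (ZMod p) V] [FiniteDimensional (ZMod p) V]
  {Γ : Type*} [Group Γ] [Finite Γ] {A : Type*} [Fintype A]
  {σ : Γ →* Module.End (ZMod p) V} {S : Submodule (ZMod p) V} {ev : A → Module.Dual (ZMod p) V}

theorem cast_ne (hΓ : ¬ p ∣ Nat.card Γ) : (Nat.card Γ : ZMod p) ≠ 0 := fun e => hΓ ((ZMod.natCast_eq_zero_iff _ _).1 e)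

theorem exists_exp {l : ℕ} (hl : l.Prime) {e : ℕ} (he : ¬ l ∣ e) (hpe : p - 1 ∣ e ∨ (l = 2 ∧ p - 1 ∣ 2 * e)) {j : ℕ}
    (hj : ¬ l ∣ j) (k : ℕ) {n : ℕ} (hn : n ≠ 0) :
    ∃ j' : ℕ, j' ≡ j [MOD l ^ k] ∧ j'.Coprime n ∧ ∀ a : (ZMod p)ˣ, a ^ j' = a := by
  have he0 : e ≠ 0 := by
    rintro rfl
    exact he (dvd_zero _)
  have hco : Nat.Coprime (l ^ (k + 1)) e := Nat.Coprime.pow_left _ (hl.coprime_iff_not_dvd.2 he)
  obtain ⟨r, hr1, hr2⟩ := Nat.chineseRemainder hco j 1
  have hr : r.Coprime (l ^ (k + 1) * e) := by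
    refine Nat.Coprime.mul_right (Nat.Coprime.pow_right _ (hl.coprime_iff_not_dvd.2 fun h => hj ?_).symm) ?_
    · exact (Nat.ModEq.dvd_iff (hr1.of_dvd (dvd_pow_self l k.succ_ne_zero)) dvd_rfl).1 h
    · rw [Nat.Coprime, hr2.gcd_eq, Nat.gcd_one_left]
  obtain ⟨j', h1, h2⟩ := exists_coprime (mul_ne_zero (pow_ne_zero _ hl.ne_zero) he0) hn hr
  have h3 : j' ≡ j [MOD l ^ (k + 1)] := (h1.of_dvd (dvd_mul_right _ _)).trans hr1
  have h4 : j' ≡ 1 [MOD e] := (h1.of_dvd (dvd_mul_left _ _)).trans hr2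
  refine ⟨j', h3.of_dvd (pow_dvd_pow l k.le_succ), h2, fun a => ?_⟩
  have h5 : j' ≡ 1 [MOD p - 1] := by
    rcases hpe with h | ⟨rfl, h⟩
    · exact h4.of_dvd h
    · refine Nat.ModEq.of_dvd h ((Nat.modEq_and_modEq_iff_modEq_mul (hl.coprime_iff_not_dvd.2 he)).1 ⟨?_, h4⟩)
      refine (h3.of_dvd (dvd_pow_self 2 k.succ_ne_zero)).trans ?_
      unfold Nat.ModEq
      omega
  conv_rhs => rw [← pow_one a]
  exact pow_eq_pow_iff_modEq.2 (h5.of_dvd (orderOf_dvd_of_pow_eq_one (ZMod.units_pow_card_sub_one_eq_one p a)))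

/-- a transitive full eigenspace of dimension two only exists when `p + 1` divides twelve -/
theorem two_dim (hΓ : ¬ p ∣ Nat.card Γ) (hr : RatC σ) (hS : Full σ S) (h2 : finrank (ZMod p) S = 2)
    (htr : Trs σ S) : p + 1 ∣ 12 := by
  classical
  let b := Module.finBasisOfFinrankEq (ZMod p) S h2
  let τ : NS σ S →* M2 (ZMod p) := (LinearMap.toMatrixAlgEquiv b).toMonoidHom.comp (res σ S)
  have hτ : ∀ h, τ h = LinearMap.toMatrix b b (res σ S h) := fun _ => rfl
  have hN : ¬ p ∣ Nat.card (NS σ S) := fun h => hΓ (h.trans (NS σ S).card_subgroup_dvd_card)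
  have h1 : Tr2 τ := fun s s' h0 h0' => by
    have e0 : ∀ s : Fin 2 → ZMod p, s ≠ 0 → ((b.equivFun.symm s : S) : V) ≠ 0 := fun s h e =>
      h (b.equivFun.symm.map_eq_zero_iff.1 (Subtype.ext e))
    obtain ⟨h, hh, a, e⟩ := htr _ (b.equivFun.symm s).2 _ (b.equivFun.symm s').2 (e0 s h0) (e0 s' h0')
    refine ⟨⟨h, hh⟩, a, ?_⟩
    have e1 : b.equivFun.symm s' = a • res σ S ⟨h, hh⟩ (b.equivFun.symm s) := Subtype.ext e
    have e2 := LinearMap.toMatrix_mulVec_repr b b (res σ S ⟨h, hh⟩) (b.equivFun.symm s)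
    rw [← Basis.equivFun_apply, ← Basis.equivFun_apply, LinearEquiv.apply_symm_apply] at e2
    rw [hτ, e2, ← map_smul, ← e1, LinearEquiv.apply_symm_apply]
  have hR : ∀ (l e : ℕ) [Fact l.Prime], ¬ l ∣ e → (p - 1 ∣ e ∨ (l = 2 ∧ p - 1 ∣ 2 * e)) →
      ∀ P : Sylow l (NS σ S), Rat τ l P := by
    intro l e hl he hpe P h hh j hj
    obtain ⟨k, hk⟩ := P.isPGroup' ⟨h, hh⟩
    obtain ⟨j', h3, h4, h5⟩ := exists_exp hl.out he hpe hj k (Nat.card_pos (α := Γ)).ne'
    have h6 : h ^ j = h ^ j' :=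
      pow_eq_pow_iff_modEq.2 (h3.symm.of_dvd (orderOf_dvd_of_pow_eq_one (congrArg Subtype.val hk)))
    rw [h6, hτ, hτ, ← LinearMap.trace_eq_matrix_trace, ← LinearMap.trace_eq_matrix_trace]
    exact tr_pow (cast_ne hΓ) hr hS h h4 h5
  have h2p := hp.out.two_le
  have hodd : ∀ l : ℕ, l.Prime → l ≠ 2 → l ∣ p + 1 → ¬ l ∣ p - 1 := fun l hl hl2 h3 h4 => by
    have h6 : l ∣ (p + 1) - (p - 1) := Nat.dvd_sub h3 h4
    rw [show p + 1 - (p - 1) = 2 by omega] at h6
    exact hl2 ((Nat.prime_dvd_prime_iff_eq hl Nat.prime_two).1 h6)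
  refine (Nat.dvd_iff_prime_pow_dvd_dvd 12 (p + 1)).2 fun l k hl hk => ?_
  haveI := Fact.mk hl
  rcases k with _ | k
  · simp
  have hl1 : l ∣ p + 1 := (dvd_pow_self l k.succ_ne_zero).trans hk
  obtain ⟨P⟩ : Nonempty (Sylow l (NS σ S)) := inferInstance
  by_cases h5 : 5 ≤ l
  · exact (not_big_prime h1 hN h5 hl1 P (hR l (p - 1) (hodd l hl (by omega) hl1) (Or.inl dvd_rfl) P)).elim
  have h6 := hl.two_le
  have h7 : l ≠ 4 := by
    rintro rfl
    exact absurd hl (by norm_num)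
  obtain rfl | rfl : l = 2 ∨ l = 3 := by omega
  · by_cases h8 : k + 1 ≤ 2
    · exact (pow_dvd_pow 2 h8).trans (by norm_num)
    have h9 : 8 ∣ p + 1 := (pow_dvd_pow 2 (show 3 ≤ k + 1 by omega)).trans hk
    exact (not_eight h1 hN h9 P (hR 2 ((p - 1) / 2) (by (clear * - h9; omega)) (Or.inr ⟨rfl, Dvd.intro 1 (by (clear * - h2p h9; omega))⟩) P)).elim
  · by_cases h8 : k + 1 ≤ 1
    · exact (pow_dvd_pow 3 h8).trans (by norm_num)
    have h9 : 9 ∣ p + 1 := (pow_dvd_pow 3 (show 2 ≤ k + 1 by omega)).trans hk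
    exact (not_nine h1 hN h9 P (hR 3 (p - 1) (hodd 3 hl (by omega) hl1) (Or.inl dvd_rfl) P)).elim

/-- the number of points of `S` divides the number of forms that do not vanish on `S` -/
theorem points_dvd {m : ℕ} (hm : ∀ s ∈ S, s ≠ 0 → (van ev S s).card = m) (h1 : 1 ≤ finrank (ZMod p) S) :
    p ^ finrank (ZMod p) S - 1 ∣ (out ev S).card * (p - 1) := by
  have h := cnt_of_eq hm
  rw [Nat.card_zmod] at h
  obtain ⟨k, hk⟩ : ∃ k, finrank (ZMod p) S = k + 1 := ⟨_, (Nat.sub_add_cancel h1).symm⟩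
  rw [hk, Nat.add_sub_cancel] at h
  rw [hk]
  have h2 : 1 ≤ p ^ k := Nat.one_le_pow _ _ hp.out.pos
  have h3 : 1 ≤ p ^ (k + 1) := Nat.one_le_pow _ _ hp.out.pos
  have h4 := hp.out.one_le
  zify [h2, h3, h4] at h ⊢
  exact ⟨(out ev S).card - p * m, by rw [pow_succ] at h ⊢; linear_combination (-(p : ℤ)) * h⟩

theorem dim_two (h11 : 11 ≤ p) (hA : Fintype.card A ≤ 240) (he : Even (out ev S).card) (h0 : (out ev S).Nonempty)
    {m : ℕ} (hm : ∀ s ∈ S, s ≠ 0 → (van ev S s).card = m) (h2 : 2 ≤ finrank (ZMod p) S) : finrank (ZMod p) S = 2 := by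
  have h := points_dvd hm (by omega)
  have h3 : (out ev S).card ≤ 240 := (Finset.card_le_univ _).trans hA
  have h4 := h0.card_pos
  by_contra h5
  by_cases h6 : finrank (ZMod p) S = 3
  · rw [h6, show p ^ 3 - 1 = (p ^ 2 + p + 1) * (p - 1) by
      obtain ⟨t, rfl⟩ : ∃ t, p = t + 1 := ⟨p - 1, by omega⟩
      rw [Nat.add_sub_cancel]
      exact Nat.sub_eq_of_eq_add (by ring)] at h
    obtain ⟨r, hr⟩ := he
    have h7 := Nat.dvd_of_mul_dvd_mul_right (by omega) h
    have h8 : Nat.Coprime (p ^ 2 + p + 1) 2 := by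
      rw [Nat.coprime_two_right, pow_two, ← Nat.mul_succ]
      exact (Nat.even_mul_succ_self p).add_one
    rw [hr, ← two_mul] at h7
    have h9 := Nat.le_of_dvd (by omega) (h8.dvd_of_dvd_mul_left h7)
    nlinarith only [h11, h3, hr, h9]
  · have h7 := Nat.le_of_dvd (Nat.mul_pos h4 (by omega)) h
    have h8 : p ^ 4 ≤ p ^ finrank (ZMod p) S := Nat.pow_le_pow_right (by omega) (by omega)
    have h9 : 1331 * p ≤ p ^ 4 := by
      rw [pow_succ]
      exact Nat.mul_le_mul_right _ (Nat.pow_le_pow_left h11 3)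
    have h10 : (out ev S).card * (p - 1) ≤ 240 * p := Nat.mul_le_mul h3 (by omega)
    omega

/-- `S` is the part of the `c`-eigenspace of `g` fixed by the pointwise stabiliser of `S` -/
def Cut (σ : Γ →* Module.End (ZMod p) V) (S : Submodule (ZMod p) V) (g : Γ) (c : ZMod p) : Prop :=
  (∀ s ∈ S, σ g s = c • s) ∧ ∀ v, σ g v = c • v → (∀ z, (∀ s ∈ S, σ z s = s) → σ z v = v) → v ∈ S

theorem Cut.ne_zero {g : Γ} {c : ZMod p} (h : Cut σ S g c) (h0 : S ≠ ⊥) : c ≠ 0 := by
  rintro rfl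
  refine h0 ((Submodule.eq_bot_iff _).2 fun s hs => ?_)
  have h1 := congrArg (σ g⁻¹) (h.1 s hs)
  rwa [← Module.End.mul_apply, ← map_mul, inv_mul_cancel, map_one, Module.End.one_apply, zero_smul, map_zero] at h1

theorem Cut.full {g : Γ} {c : ZMod p} (h : Cut σ S g c) (h0 : S ≠ ⊥) : Full σ S := fun v hv =>
  h.2 v (hv (g, Units.mk0 c (h.ne_zero h0)) h.1) fun z hz => by
    simpa only [_root_.Units.val_one, _root_.one_smul] using hv (z, 1) fun s hs => by simpa using hz s hs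

/-- the eigenvalue is not `± 1` on a totally isotropic subspace -/
theorem Cut.sq_ne {g : Γ} {c : ZMod p} (h : Cut σ S g c) (h0 : S ≠ ⊥) (hΓ : ¬ p ∣ Nat.card Γ) (hR : Rt σ ev)
    (hK : ∀ s ∈ S, ∀ t ∈ S, kil ev s t = 0) : c ^ 2 ≠ 1 := fun hc =>
  h0 (eq_bot_of_iso (cast_ne hΓ) hR hK fun v hv => h.2 v (hv (g, Units.mk0 c (h.ne_zero h0)) h.1 hc) fun z hz => by
    simpa only [_root_.Units.val_one, _root_.one_smul] using hv (z, 1) (fun s hs => by simpa using hz s hs) (by simp))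

theorem sum_finrank_le {K W I : Type*} [Field K] [AddCommGroup W] [Module K W] [FiniteDimensional K W] [Fintype I]
    {E : I → Submodule K W} (h : iSupIndep E) {T : Submodule K W} (hT : ∀ i, E i ≤ T) :
    ∑ i, finrank K (E i) ≤ finrank K T := by
  classical
  refine le_trans (le_of_eq ?_) (Submodule.finrank_mono (iSup_le hT))
  rw [Submodule.iSup_eq_range_dfinsupp_lsum, LinearMap.finrank_range_of_inj h.dfinsupp_lsum_injective]
  exact (Module.finrank_directSum K fun i => E i).symm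

theorem pow_inj : ∀ c : ZMod 11, c ≠ 0 → c ^ 2 ≠ 1 → Function.Injective fun i : Fin 4 => c ^ ![1, 3, 7, 9] i := by
  decide +kernel

/-- **large primes** -/
theorem big (h11 : 11 ≤ p) (hΓ : ¬ p ∣ Nat.card Γ) (hr : RatC σ) (hR : Rt σ ev) (hA : Fintype.card A ≤ 240)
    (hV : finrank (ZMod p) V ≤ 8) (h2 : 2 ≤ finrank (ZMod p) S) (htr : Trs σ S) {g : Γ} {c : ZMod p}
    (hc : Cut σ S g c) :
    p = 11 ∧ finrank (ZMod p) V = 8 ∧ finrank (ZMod p) S = 2 ∧ c ≠ 0 ∧ c ^ 2 ≠ 1 ∧
      ∀ z, (∀ s ∈ S, σ z s = s) → σ z = 1 := by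
  have h0 : S ≠ ⊥ := by
    rintro rfl
    simp at h2
  have hp2 : p ≠ 2 := by omega
  have h20 : (2 : ZMod p) ≠ 0 := fun e =>
    hp2 ((Nat.prime_dvd_prime_iff_eq hp.out Nat.prime_two).1 ((ZMod.natCast_eq_zero_iff 2 p).1 (by exact_mod_cast e)))
  obtain ⟨s0, hs0, hs0'⟩ := Submodule.exists_mem_ne_zero_of_ne_bot h0
  have hd := dim_two h11 hA (even_out h20 hR) (out_nonempty hR h0) (fun s hs hs' => van_eq hR htr hs0 hs hs0' hs') h2
  have h12 := Nat.le_of_dvd (by norm_num) (two_dim hΓ hr (hc.full h0) hd htr)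
  obtain rfl : p = 11 := by omega
  have hc0 := hc.ne_zero h0
  have hc2 := hc.sq_ne h0 hΓ hR (iso hp2 hR h2 htr)
  -- the four conjugate eigenspaces
  have hj : ∀ i : Fin 4, ∃ j : ℕ, j ≡ ![1, 3, 7, 9] i [MOD 10] ∧ j.Coprime (Nat.card (Γ × (ZMod 11)ˣ)) := fun i =>
    exists_coprime (by norm_num) Nat.card_pos.ne' (by fin_cases i <;> norm_num)
  choose j hj1 hj2 using hj
  have hE : ∀ i, finrank (ZMod 11) (Ej σ S (j i)) = 2 := fun i => by
    have h3 := finrank_Ej (cast_ne hΓ) hr (hc.full h0) (hj2 i)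
    rw [hd, ZMod.natCast_eq_natCast_iff'] at h3
    have h4 := (Ej σ S (j i)).finrank_le
    omega
  have hcj : ∀ i, c ^ j i = c ^ ![1, 3, 7, 9] i := fun i => by
    have h3 : c ^ 10 = 1 := ZMod.pow_card_sub_one_eq_one hc0
    rw [← Nat.mod_add_div (j i) 10, pow_add, pow_mul, h3, one_pow, mul_one, hj1 i]
    fin_cases i <;> rfl
  have hinj : Function.Injective fun i => c ^ j i := by
    simp only [hcj]
    exact pow_inj c hc0 hc2
  have hind : iSupIndep fun i => Ej σ S (j i) :=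
    ((Module.End.eigenspaces_iSupIndep (σ g)).comp hinj).mono fun i v hv =>
      Module.End.mem_eigenspace_iff.2 (hv (g, Units.mk0 c hc0) hc.1)
  let T : Submodule (ZMod 11) V :=
    { carrier := {v | ∀ z, (∀ s ∈ S, σ z s = s) → σ z v = v}
      zero_mem' := fun z _ => map_zero _
      add_mem' := fun {v w} hv hw z hz => by rw [map_add, hv z hz, hw z hz]
      smul_mem' := fun a v hv z hz => by rw [map_smul, hv z hz] }
  have hT := sum_finrank_le hind (T := T) fun i v hv z hz => by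
    simpa only [_root_.Units.val_one, _root_.one_pow, _root_.one_smul] using hv (z, 1) fun s hs => by simpa using hz s hs
  simp only [hE, Finset.sum_const, Finset.card_univ, Fintype.card_fin, smul_eq_mul] at hT
  have hT1 := T.finrank_le
  have hT2 : T = ⊤ := Submodule.eq_top_of_finrank_eq (by omega)
  refine ⟨rfl, by omega, hd, hc0, hc2, fun z hz => LinearMap.ext fun v => ?_⟩
  exact (hT2 ▸ Submodule.mem_top : v ∈ T) z hz

end Cfsg.Agent.TO.X.Big
end

-- part: TO/X/BigE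
section
/-!
# Transitive eigenspaces: groups of integer matrices
-/

set_option autoImplicit false
set_option linter.unusedSectionVars false
set_option linter.style.haveILetI false

namespace Cfsg.Agent.TO.X.Big

open Matrix Module

variable (p : ℕ) [hp : Fact p.Prime] {Γ ι : Type*} [Group Γ] [Finite Γ] [Fintype ι] [DecidableEq ι]

/-- reduction of an integer vector -/
def rv (α : ι → ℤ) : ι → ZMod p := fun i => (α i : ZMod p)

/-- reduction of a group of integer matrices, acting on columns -/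
noncomputable def red (ρ : Γ →* Matrix ι ι ℤ) : Γ →* Module.End (ZMod p) (ι → ZMod p) where
  toFun z := Matrix.toLin' ((ρ z).map (Int.castRingHom (ZMod p)))
  map_one' := by rw [map_one, Matrix.map_one _ (map_zero _) (map_one _), Matrix.toLin'_one]; rfl
  map_mul' a b := by rw [map_mul, Matrix.map_mul, Matrix.toLin'_mul]; rfl

theorem red_apply (ρ : Γ →* Matrix ι ι ℤ) (z : Γ) (v : ι → ZMod p) :
    red p ρ z v = (ρ z).map (Int.castRingHom (ZMod p)) *ᵥ v := rfl

/-- the linear forms given by integer rows -/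
def evm (R : Finset (ι → ℤ)) (α : R) : Module.Dual (ZMod p) (ι → ZMod p) where
  toFun v := rv p α.1 ⬝ᵥ v
  map_add' := dotProduct_add _
  map_smul' a v := dotProduct_smul a _ v

theorem evm_apply (R : Finset (ι → ℤ)) (α : R) (v : ι → ZMod p) : evm p R α v = rv p α.1 ⬝ᵥ v := rfl

theorem ratC_red (ρ : Γ →* Matrix ι ι ℤ) : RatC (red p ρ) := fun z j hj => by
  have h1 : ∀ z, LinearMap.trace (ZMod p) _ (red p ρ z) = ((ρ z).trace : ZMod p) := fun z => by
    change LinearMap.trace (ZMod p) _ (Matrix.toLin' ((ρ z).map (Int.castRingHom (ZMod p)))) = _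
    rw [Matrix.trace_toLin'_eq]
    simp only [Matrix.trace, _root_.Int.coe_castRingHom, _root_.Matrix.diag_apply, _root_.Matrix.map_apply, _root_.Int.cast_sum]
  rw [h1, h1, rat_int ρ z hj]

theorem rv_vecMul (α : ι → ℤ) (M : Matrix ι ι ℤ) : rv p (α ᵥ* M) = rv p α ᵥ* M.map (Int.castRingHom (ZMod p)) := by
  ext i
  simp only [rv, vecMul, dotProduct, _root_.Int.cast_sum, _root_.Int.cast_mul, _root_.Int.coe_castRingHom, _root_.Matrix.map_apply]

theorem rv_mulVec (α : ι → ℤ) (M : Matrix ι ι ℤ) : rv p (M *ᵥ α) = M.map (Int.castRingHom (ZMod p)) *ᵥ rv p α := by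
  ext i
  simp only [rv, mulVec, dotProduct, _root_.Int.cast_sum, _root_.Int.cast_mul, _root_.Int.coe_castRingHom, _root_.Matrix.map_apply]

variable {p}

theorem rt_mat (ρ : Γ →* Matrix ι ι ℤ) {R : Finset (ι → ℤ)} (hR : ∀ z, ∀ α ∈ R, α ᵥ* ρ z ∈ R) (hn : ∀ α ∈ R, -α ∈ R)
    {B : Matrix ι ι ℤ} {n : ℤ} (hB : B * ∑ α ∈ R, vecMulVec α α = n • (1 : Matrix ι ι ℤ)) (hpn : ¬ (p : ℤ) ∣ n) :
    Rt (red p ρ) (evm p R) where
  perm z := ⟨⟨fun α => ⟨α.1 ᵥ* ρ z, hR z _ α.2⟩, fun α => ⟨α.1 ᵥ* ρ z⁻¹, hR _ _ α.2⟩,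
      fun α => Subtype.ext (by simp only [vecMul_vecMul, ← map_mul, mul_inv_cancel, map_one, vecMul_one]),
      fun α => Subtype.ext (by simp only [vecMul_vecMul, ← map_mul, inv_mul_cancel, map_one, vecMul_one])⟩,
    fun α v => by
      change rv p (α.1 ᵥ* ρ z) ⬝ᵥ v = rv p α.1 ⬝ᵥ (_ *ᵥ v)
      rw [rv_vecMul, dotProduct_mulVec]⟩
  neg := ⟨fun α => ⟨-α.1, hn _ α.2⟩, fun α => Subtype.ext (neg_neg _), fun α => LinearMap.ext fun v => by
    change rv p (-α.1) ⬝ᵥ v = -(rv p α.1 ⬝ᵥ v)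
    rw [← neg_dotProduct]
    congr 1
    ext i
    simp [rv]⟩
  nd v hv := by
    have h1 : (∑ α ∈ R, vecMulVec α α).map (Int.castRingHom (ZMod p)) *ᵥ v = 0 := by
      ext i
      have h2 := hv (Pi.single i 1)
      simp only [kil, evm_apply, dotProduct_single, mul_one] at h2
      rw [Finset.sum_coe_sort R fun α => rv p α ⬝ᵥ v * rv p α i] at h2
      rw [Pi.zero_apply, ← h2]
      simp only [mulVec, dotProduct, map_apply, Matrix.sum_apply, vecMulVec_apply, map_sum, map_mul, Finset.sum_mul, rv,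
        eq_intCast]
      rw [Finset.sum_comm]
      exact Finset.sum_congr rfl fun _ _ => Finset.sum_congr rfl fun _ _ => by ring
    have h2 := congrArg (fun w => B.map (Int.castRingHom (ZMod p)) *ᵥ w) h1
    simp only [mulVec_mulVec, ← Matrix.map_mul, hB, mulVec_zero] at h2
    have h3 : (n • (1 : Matrix ι ι ℤ)).map (Int.castRingHom (ZMod p)) = (n : ZMod p) • 1 := by
      ext i j
      rw [map_apply, Matrix.smul_apply, Matrix.smul_apply, one_apply, one_apply]
      split_ifs <;> simp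
    rw [h3, smul_mulVec, one_mulVec] at h2
    exact (smul_eq_zero.1 h2).resolve_left fun e => hpn ((ZMod.intCast_zmod_eq_zero_iff_dvd n p).1 e)

/-- **large primes**, for integer matrices; every row `α` of `R` has a reflection in the group -/
theorem big_mat (h11 : 11 ≤ p) (hΓ : ¬ p ∣ Nat.card Γ) (ρ : Γ →* Matrix ι ι ℤ) {R : Finset (ι → ℤ)}
    (hR : ∀ z, ∀ α ∈ R, α ᵥ* ρ z ∈ R) (hn : ∀ α ∈ R, -α ∈ R) {B : Matrix ι ι ℤ} {n : ℤ}
    (hB : B * ∑ α ∈ R, vecMulVec α α = n • (1 : Matrix ι ι ℤ)) (hpn : ¬ (p : ℤ) ∣ n)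
    (hs : ∀ α ∈ R, ∃ (z : Γ) (β : ι → ℤ), α ⬝ᵥ β = 2 ∧ ρ z = 1 - vecMulVec β α)
    (hA : R.card ≤ 240) (hι : Fintype.card ι ≤ 8) {S : Submodule (ZMod p) (ι → ZMod p)} (h2 : 2 ≤ finrank (ZMod p) S)
    (htr : Trs (red p ρ) S) {g : Γ} {c : ZMod p} (hc : Cut (red p ρ) S g c) :
    p = 11 ∧ Fintype.card ι = 8 ∧ finrank (ZMod p) S = 2 ∧ c ≠ 0 ∧ c ^ 2 ≠ 1 ∧
      (∀ z, (∀ s ∈ S, red p ρ z s = s) → red p ρ z = 1) ∧ ∀ α ∈ R, ¬ ∀ s ∈ S, rv p α ⬝ᵥ s = 0 := by
  obtain ⟨h1, h3, h4, h5, h6, h7⟩ := big h11 hΓ (ratC_red p ρ) (rt_mat ρ hR hn hB hpn) (by rwa [Fintype.card_coe])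
    (by rwa [Module.finrank_fintype_fun_eq_card]) h2 htr hc
  refine ⟨h1, by rwa [Module.finrank_fintype_fun_eq_card] at h3, h4, h5, h6, h7, fun α hα h8 => ?_⟩
  obtain ⟨z, β, e1, e2⟩ := hs α hα
  have h9 : ∀ v, red p ρ z v = v - (rv p α ⬝ᵥ v) • rv p β := fun v => by
    rw [red_apply, e2]
    ext i
    simp only [mulVec, dotProduct, vecMulVec_apply, rv, Matrix.one_apply, map_apply, Matrix.sub_apply, map_sub, map_mul,
      apply_ite, map_one, map_zero, eq_intCast, sub_mul, Finset.sum_sub_distrib, ite_mul, one_mul, zero_mul,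
      Finset.sum_ite_eq, Finset.mem_univ, if_true, Pi.sub_apply, Pi.smul_apply, smul_eq_mul, Finset.sum_mul]
    congr 1
    exact Finset.sum_congr rfl fun _ _ => by ring
  have h10 := h9 (rv p β)
  rw [h7 z fun s hs => by rw [h9, h8 s hs, zero_smul, sub_zero], Module.End.one_apply, eq_comm, sub_eq_self] at h10
  have h12 : rv p α ⬝ᵥ rv p β = 2 := by
    have := congrArg (Int.castRingHom (ZMod p)) e1
    simpa only [dotProduct, rv, _root_.map_sum, _root_.eq_intCast, _root_.Int.cast_mul, _root_.Int.cast_ofNat] using this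
  have h13 := congrArg (fun w => rv p α ⬝ᵥ w) h10
  simp only [dotProduct_smul, h12, dotProduct_zero, smul_eq_mul] at h13
  have h14 : p ∣ 2 := (ZMod.natCast_eq_zero_iff 2 p).1 (by exact_mod_cast mul_self_eq_zero.1 h13)
  have := Nat.le_of_dvd two_pos h14
  omega

end Cfsg.Agent.TO.X.Big
end

private theorem dce_5565431cad48 : _root_.True := by
  try have : _root_.True := by simp only [_root_.Cfsg.Agent.TO.X.Big.van.eq_1]
  try have : _root_.True := by simp only [_root_.Cfsg.Agent.TO.X.Big.kil.eq_1]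
  try have : _root_.True := by simp only [_root_.Cfsg.Agent.TO.X.Big.rv.eq_1]
  try have : _root_.True := by simp only [_root_.Cfsg.Agent.TO.X.Big.rv.congr_simp]
  try have : _root_.True := by simp only [_root_.Cfsg.Agent.TO.X.Big.out.eq_1]
  exact _root_.True.intro
end

-- part: BHZ/Nil/ClForm
section
prune_inst 0x3150754576401208081c058031201cf3bf0000b2004bcc00d5c600440d8b9c61a9852e21bb30181213be08e56039006003180029420000000a000c00011c058108820000b148000406009e000080000000000000000000000000000000041004200000000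
set_option linter.all false
open scoped Cfsg.Agent.FastGrp

/-!
# The classical groups in cross characteristic: `FusK` forces `D` to be abelian
-/

set_option autoImplicit false
set_option linter.unusedSectionVars false

namespace Cfsg.Agent.BHZ.Nil

open Cfsg Matrix
open scoped commutatorElement

section Form

variable {p : ℕ} [hp : Fact p.Prime] {ι : Type} [Fintype ι] [DecidableEq ι] {F : Type*} [Field F]

/-- Biadditive, and inverses of natural numbers move across. -/
structure BiAdd (β : (ι → F) → (ι → F) → F) : Prop where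
  addl : ∀ u u' v, β (u + u') v = β u v + β u' v
  addr : ∀ u v v', β u (v + v') = β u v + β u v'
  sm : ∀ (N : ℕ) u v, β ((N : F)⁻¹ • u) v = β u ((N : F)⁻¹ • v)

variable {β : (ι → F) → (ι → F) → F}

theorem BiAdd.zero_left (hβ : BiAdd β) (v : ι → F) : β 0 v = 0 := by
  have := hβ.addl 0 0 v
  rw [add_zero] at this
  exact left_eq_add.1 this

theorem BiAdd.zero_right (hβ : BiAdd β) (v : ι → F) : β v 0 = 0 := by
  have := hβ.addr v 0 0
  rw [add_zero] at this
  exact left_eq_add.1 this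

theorem BiAdd.adj (hβ : BiAdd β) {h : (Matrix ι ι F)ˣ}
    (hh : ∀ u v, β ((h : Matrix ι ι F) *ᵥ u) ((h : Matrix ι ι F) *ᵥ v) = β u v) {N : ℕ}
    (hN : (N : F) ≠ 0) (hhN : h ^ N = 1) (u v : ι → F) :
    β (av F N (h : Matrix ι ι F) *ᵥ u) v = β u (av F N (h : Matrix ι ι F) *ᵥ v) := by
  have h1 : ∀ (i : ℕ) (u v : ι → F), β ((h : Matrix ι ι F) ^ i *ᵥ u) v =
      β u (((h⁻¹ : (Matrix ι ι F)ˣ) : Matrix ι ι F) ^ i *ᵥ v) := by
    intro i
    induction i with
    | zero => simp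
    | succ i ih =>
      intro u v
      rw [pow_succ, ← mulVec_mulVec, ih, pow_succ', ← mulVec_mulVec, ← hh u,
        mulVec_mulVec _ (h : Matrix ι ι F), Units.mul_inv, one_mulVec]
  have h2 : ∀ (n : ℕ) (u v : ι → F), β ((∑ i ∈ Finset.range n, (h : Matrix ι ι F) ^ i) *ᵥ u) v =
      β u ((∑ i ∈ Finset.range n, ((h⁻¹ : (Matrix ι ι F)ˣ) : Matrix ι ι F) ^ i) *ᵥ v) := by
    intro n u v
    induction n with
    | zero => simp [hβ.zero_left, hβ.zero_right]
    | succ n ih =>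
      rw [Finset.sum_range_succ, Finset.sum_range_succ, add_mulVec, add_mulVec, hβ.addl, hβ.addr,
        ih, h1]
  conv_rhs => rw [← av_inv hN hhN]
  rw [av, av, smul_mulVec, smul_mulVec, hβ.sm, h2, mulVec_smul]

theorem BiAdd.orth (hβ : BiAdd β) {ε : Matrix ι ι F} (hε : ε * ε = ε)
    (hadj : ∀ u v, β (ε *ᵥ u) v = β u (ε *ᵥ v)) (u v : ι → F) :
    β (ε *ᵥ u) ((1 - ε) *ᵥ v) = 0 ∧ β ((1 - ε) *ᵥ v) (ε *ᵥ u) = 0 := by
  constructor
  · rw [hadj, mulVec_mulVec, mul_sub, hε, mul_one, sub_self, zero_mulVec, hβ.zero_right]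
  · rw [← hadj, mulVec_mulVec, mul_sub, hε, mul_one, sub_self, zero_mulVec, hβ.zero_left]

theorem cutClosed_preserving (hF : (p : F) ≠ 0) (hβ : BiAdd β) :
    CutClosed p F (preserving (Units.coeHom (Matrix ι ι F)) β) := by
  intro h hh k hk g hg hc
  have hN : ((p ^ k : ℕ) : F) ≠ 0 := by exact_mod_cast pow_ne_zero k hF
  have hε := av_idem hN (val_pow_one hk)
  have hadj := hβ.adj hh hN hk
  refine ⟨cutHom hε ⟨g, hc⟩, fun u v => ?_, rfl⟩
  generalize av F (p ^ k) (h : Matrix ι ι F) = ε at hε hadj hc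
  have key : ∀ x : Matrix ι ι F, Commute x ε → (∀ u v, β (x *ᵥ u) (x *ᵥ v) = β u v) →
      β ((x * ε + (1 - ε)) *ᵥ u) ((x * ε + (1 - ε)) *ᵥ v) =
        β (ε *ᵥ u) (ε *ᵥ v) + β ((1 - ε) *ᵥ u) ((1 - ε) *ᵥ v) := by
    intro x hx hx'
    rw [add_mulVec, add_mulVec, hβ.addl, hβ.addr, hβ.addr, ← mulVec_mulVec u, ← mulVec_mulVec v,
      hx', mulVec_mulVec u, mulVec_mulVec v, hx.eq, ← mulVec_mulVec u, ← mulVec_mulVec v,
      (hβ.orth hε hadj _ _).1, (hβ.orth hε hadj _ _).2, add_zero, zero_add]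
  have h1 := key 1 (Commute.one_left _) (by simp)
  rw [one_mul, add_sub_cancel, one_mulVec, one_mulVec] at h1
  rw [h1]
  exact key g hc hg

theorem biAdd_polar (Q : QuadraticMap F (ι → F) F) : BiAdd (QuadraticMap.polar Q) where
  addl := QuadraticMap.polar_add_left Q
  addr := QuadraticMap.polar_add_right Q
  sm N u v := by rw [QuadraticMap.polar_smul_left, QuadraticMap.polar_smul_right]

theorem cutClosed_isometry (hF : (p : F) ≠ 0) (Q : QuadraticMap F (ι → F) F) :
    CutClosed p F (isometryGroup F Q) := by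
  intro h hh k hk g hg hc
  have hN : ((p ^ k : ℕ) : F) ≠ 0 := by exact_mod_cast pow_ne_zero k hF
  have hε := av_idem hN (val_pow_one hk)
  have hh' : ∀ u, Q ((h : Matrix ι ι F) *ᵥ u) = Q u := fun u => hh u u
  have hadj := (biAdd_polar Q).adj (h := h) (fun u v => by
    rw [QuadraticMap.polar, QuadraticMap.polar, ← mulVec_add, hh', hh', hh']) hN hk
  refine ⟨cutHom hε ⟨g, hc⟩, fun u _ => ?_, rfl⟩
  generalize av F (p ^ k) (h : Matrix ι ι F) = ε at hε hadj hc
  have key : ∀ x : Matrix ι ι F, Commute x ε → (∀ u, Q (x *ᵥ u) = Q u) →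
      Q ((x * ε + (1 - ε)) *ᵥ u) = Q (ε *ᵥ u) + Q ((1 - ε) *ᵥ u) := by
    intro x hx hx'
    rw [add_mulVec, QuadraticMap.map_add Q, ← mulVec_mulVec u, hx', mulVec_mulVec u, hx.eq,
      ← mulVec_mulVec u, ((biAdd_polar Q).orth hε hadj _ _).1, add_zero]
  have h1 := key 1 (Commute.one_left _) (by simp)
  rw [one_mul, add_sub_cancel, one_mulVec] at h1
  change Q _ = Q u
  rw [h1]
  exact key g hc fun u => hg u u

theorem commutator_le_SL (Γ : Subgroup (Matrix ι ι F)ˣ) :
    ⁅Γ, Γ⁆ ≤ (Matrix.SpecialLinearGroup.toGL (n := ι) (R := F)).range := by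
  refine Subgroup.commutator_le.2 fun a _ b _ => ?_
  refine ⟨⟨(⁅a, b⁆ : (Matrix ι ι F)ˣ), ?_⟩, Units.ext rfl⟩
  have h1 : Matrix.GeneralLinearGroup.det ⁅a, b⁆ = 1 := by
    rw [map_commutatorElement, commutatorElement_eq_one_iff_mul_comm, mul_comm]
  exact congrArg Units.val h1

end Form

section Rows

variable {p : ℕ} [hp : Fact p.Prime] {F : Type*} [Field F] [Finite F]

theorem comm_SL {ι : Type} [Fintype ι] [DecidableEq ι] (hp2 : p ≠ 2) (hF : (p : F) ≠ 0)
    {D : Subgroup (Matrix.SpecialLinearGroup ι F)} (hD : IsPGroup p D) (hfus : FusK p D) :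
    IsMulCommutative D :=
  comm_of_cut hp2 hF (cutClosed_top hF) Matrix.SpecialLinearGroup.toGL
    Matrix.SpecialLinearGroup.toGL_injective le_top ((by exact commutator_le_SL _)) hD hfus

theorem biAdd_herm (n q : ℕ) (hq : Nat.card F = q ^ 2) : BiAdd (hermForm n F q) := by
  have := Fintype.ofFinite F
  obtain ⟨r, hr, k, hk, hc⟩ := FiniteField.card' F
  have : Fact r.Prime := ⟨hk⟩
  rw [Nat.card_eq_fintype_card, hc] at hq
  obtain ⟨j, -, hj⟩ := (Nat.dvd_prime_pow hk).1
    (show q ∣ r ^ (k : ℕ) from hq ▸ dvd_pow_self q two_ne_zero)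
  subst hj
  refine ⟨fun u u' v => ?_, fun u v v' => ?_, fun N u v => ?_⟩
  · simp only [hermForm, add_mul, Finset.sum_add_distrib, _root_.Pi.add_apply]
  · simp only [hermForm, add_pow_char_pow, mul_add, Finset.sum_add_distrib, _root_.Pi.add_apply]
  · have h1 : ((N : F)⁻¹) ^ r ^ j = (N : F)⁻¹ := by
      rw [inv_pow, ← iterateFrobenius_def, map_natCast]
    simp only [hermForm, Pi.smul_apply, smul_eq_mul, mul_pow, h1]
    exact Finset.sum_congr rfl fun i _ => by ring

theorem comm_SU {n q : ℕ} (hq : Nat.card F = q ^ 2) (hp2 : p ≠ 2) (hF : (p : F) ≠ 0)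
    {D : Subgroup (SU n F q)} (hD : IsPGroup p D) (hfus : FusK p D) :
    IsMulCommutative D := by
  refine comm_of_cut hp2 hF (cutClosed_preserving hF (biAdd_herm n q hq))
    (Matrix.SpecialLinearGroup.toGL.comp (SU n F q).subtype)
    (Matrix.SpecialLinearGroup.toGL_injective.comp (SU n F q).subtype_injective) ?_ ?_ hD hfus
  · rintro _ ⟨g, rfl⟩
    exact g.2
  · intro g hg
    obtain ⟨s, rfl⟩ := commutator_le_SL _ hg
    have h1 := Subgroup.commutator_le_self _ hg
    exact ⟨⟨s, h1⟩, rfl⟩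

theorem comm_Omega {ι : Type} [Fintype ι] [DecidableEq ι] (Q : QuadraticMap F (ι → F) F)
    (hp2 : p ≠ 2) (hF : (p : F) ≠ 0) {D : Subgroup (Omega F Q)} (hD : IsPGroup p D)
    (hfus : FusK p D) : IsMulCommutative D := by
  refine comm_of_cut hp2 hF (cutClosed_isometry hF Q)
    ((isometryGroup F Q).subtype.comp (Omega F Q).subtype)
    ((isometryGroup F Q).subtype_injective.comp (Omega F Q).subtype_injective) ?_ ?_ hD hfus
  · rintro _ ⟨g, rfl⟩
    exact g.1.2
  · rw [← Subgroup.map_subtype_commutator]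
    rintro _ ⟨g, hg, rfl⟩
    exact ⟨⟨g, hg⟩, rfl⟩

theorem exists_quad_odd (m : ℕ) : ∃ Q : QuadraticMap F (Unit ⊕ (Fin m ⊕ Fin m) → F) F,
    ⇑Q = quadFormOdd m F :=
  ⟨QuadraticMap.proj (.inl ()) (.inl ()) +
    ∑ i : Fin m, QuadraticMap.proj (.inr (.inl i)) (.inr (.inr i)), by
      funext v
      simp only [quadFormOdd, pow_two, _root_.add_apply, _root_.QuadraticMap.proj_apply, _root_.sum_apply]⟩

theorem exists_quad_plus (m : ℕ) : ∃ Q : QuadraticMap F (Fin m ⊕ Fin m → F) F,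
    ⇑Q = quadFormPlus m F :=
  ⟨∑ i : Fin m, QuadraticMap.proj (.inl i) (.inr i), by
      funext v
      simp only [quadFormPlus, _root_.sum_apply, _root_.QuadraticMap.proj_apply]⟩

theorem exists_quad_minus (m : ℕ) (a b : F) :
    ∃ Q : QuadraticMap F ((Fin m ⊕ Fin m) ⊕ Fin 2 → F) F, ⇑Q = quadFormMinus m F a b :=
  ⟨∑ i : Fin m, QuadraticMap.proj (.inl (.inl i)) (.inl (.inr i)) +
    (QuadraticMap.proj (.inr 0) (.inr 0) + a • QuadraticMap.proj (.inr 0) (.inr 1) +
      b • QuadraticMap.proj (.inr 1) (.inr 1)), by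
      funext v
      simp only [quadFormMinus, pow_two, mul_assoc, _root_.Fin.isValue, _root_.add_apply, _root_.sum_apply, _root_.QuadraticMap.proj_apply, _root_.smul_apply, _root_.smul_eq_mul]⟩

theorem comm_Omega' {ι : Type} [Fintype ι] [DecidableEq ι] {Q : (ι → F) → F}
    (hQ : ∃ Q' : QuadraticMap F (ι → F) F, ⇑Q' = Q)
    (hp2 : p ≠ 2) (hF : (p : F) ≠ 0) {D : Subgroup (Omega F Q)} (hD : IsPGroup p D)
    (hfus : FusK p D) : IsMulCommutative D := by
  obtain ⟨Q', rfl⟩ := hQ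
  exact comm_Omega Q' hp2 hF hD hfus

theorem comm_Sp {m : ℕ} (hp2 : p ≠ 2) (hF : (p : F) ≠ 0)
    {D : Subgroup (Matrix.symplecticGroup (Fin m) F)} (hD : IsPGroup p D) (hfus : FusK p D) :
    IsMulCommutative D := by
  let β : (Fin m ⊕ Fin m → F) → (Fin m ⊕ Fin m → F) → F := fun u v => u ⬝ᵥ (J (Fin m) F *ᵥ v)
  have hβ : BiAdd β := ⟨fun u u' v => add_dotProduct _ _ _,
    fun u v v' => by simp only [β, mulVec_add, dotProduct_add],
    fun N u v => by simp only [β, mulVec_smul, smul_dotProduct, dotProduct_smul]⟩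
  have hmem : ∀ g : Matrix (Fin m ⊕ Fin m) (Fin m ⊕ Fin m) F,
      (∀ u v, β (g *ᵥ u) (g *ᵥ v) = β u v) ↔ g ∈ Matrix.symplecticGroup (Fin m) F := by
    intro g
    have h1 : ∀ u v, β (g *ᵥ u) (g *ᵥ v) = u ⬝ᵥ ((gᵀ * J (Fin m) F * g) *ᵥ v) := fun u v => by
      simp only [β]
      rw [← vecMul_transpose, ← dotProduct_mulVec, mulVec_mulVec, mulVec_mulVec]
    rw [SymplecticGroup.mem_iff']
    constructor
    · intro h
      ext i j
      have := h (Pi.single i 1) (Pi.single j 1)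
      rw [h1] at this
      simpa only [β, _root_.Matrix.mulVec_single, _root_.MulOpposite.op_one, _root_.one_smul, _root_.single_dotProduct, _root_.Matrix.col_apply, _root_.one_mul, _root_.Pi.smul_apply] using this
    · intro h u v
      rw [h1, h]
  let ι := (Matrix.symplecticGroup (Fin m) F).subtype.toHomUnits
  refine comm_of_cut hp2 hF (cutClosed_preserving hF hβ) ι ?_ ?_ ?_ hD hfus
  · intro x y h
    exact Subtype.ext (congrArg Units.val h)
  · rintro _ ⟨g, rfl⟩
    exact (hmem g).2 g.2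
  · intro g hg
    exact ⟨⟨g, (hmem g).1 (Subgroup.commutator_le_self _ hg)⟩, Units.ext rfl⟩

end Rows

end Cfsg.Agent.BHZ.Nil

private theorem dce_11008d115f45 : _root_.True := by
  try have : _root_.True := by simp only [_root_.Cfsg.quadFormOdd.eq_1]
  try have : _root_.True := by simp only [_root_.QuadraticMap.proj.congr_simp]
  try have : _root_.True := by simp only [_root_.Cfsg.hermForm.eq_1]
  try have : _root_.True := by simp only [_root_.Cfsg.quadFormPlus.eq_1]
  try have : _root_.True := by simp only [_root_.Cfsg.quadFormMinus.eq_1]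
  exact _root_.True.intro
end
end
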